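import Cfsg.Agent.H1.HeisThree.Cases
import Cfsg.Agent.Cores.GlaubermanZStar

/-!
The normaliser of the Heisenberg group is maximal in three dimensions.
-/

set_option autoImplicit false

namespace Cfsg.Agent.H1.HeisThree

open Matrix

variable {F : Type*} [Field F] [Fintype F] {p : ℕ} {C : Cube F}

local notation "T3" => ZMod 3
local notation "V" => ZMod 3 × ZMod 3
local notation "M3" => Matrix (ZMod 3) (ZMod 3) F
local notation "G3" => GL (ZMod 3) F

instance scGrp_normal {F κ : Type*} [Field F] [Fintype κ] [DecidableEq κ] : (scGrp F κ).Normal :=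
  ⟨fun x hx g => by
    obtain ⟨c, rfl⟩ := hx
    show g * sc c * g⁻¹ ∈ _
    rw [← sc_comm, mul_inv_cancel_right]
    exact ⟨c, rfl⟩⟩

omit [Fintype F] in
theorem trace_conj (g x : G3) : ((g * x * g⁻¹ : G3) : M3).trace = (x : M3).trace := by
  rw [Units.val_mul, Units.val_mul, Matrix.trace_mul_cycle, Units.inv_mul, one_mul]

omit [Fintype F] in
theorem trace_flip : (C.flip : M3).trace = -1 := by
  rw [Matrix.trace, sum3]
  simp [Cube.coe_flip, neg_one_T3, neg_two_T3, one_ne_two_T3, two_ne_one_T3]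

/-- An involutive automorphism of a finite group without fixed points inverts it. -/
theorem inverts_of_fixed_point_free {Γ : Type*} [Group Γ] [Finite Γ] (f : Γ →* Γ)
    (hff : ∀ x, f (f x) = x) (hfix : ∀ x, f x = x → x = 1) (x : Γ) : f x = x⁻¹ := by
  have hinj : Function.Injective fun a : Γ => a⁻¹ * f a := by
    intro a b h
    have h' : a⁻¹ * f a = b⁻¹ * f b := h
    have := hfix (b * a⁻¹) (by
      rw [map_mul, map_inv, mul_inv_eq_iff_eq_mul, mul_assoc, h', mul_inv_cancel_left])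
    exact (mul_inv_eq_one.1 this).symm
  obtain ⟨a, rfl⟩ := (Finite.injective_iff_surjective.1 hinj) x
  simp only [map_mul, map_inv, hff, _root_.mul_inv_rev, inv_inv]

set_option maxHeartbeats 1000000 in
theorem base (hp : p.Prime) (hF : Fintype.card F = p) (hp2 : p ≠ 2) {M : Subgroup G3}
    (hM : ContainsN C M) : M ≤ C.NZ ∨ ∀ g : G3, (g : M3).det = 1 → g ∈ M := by
  refine or_iff_not_imp_right.2 fun hno => ?_
  have := Fact.mk hp
  have := charP_of_card hp hF
  have h2 : (2 : F) ≠ 0 := two_ne_zero_of hp2 hp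
  have hne : C.flip ≠ 1 := fun h => by
    have := congrArg (fun u : G3 => (u : M3) 0 0) h
    simp [Cube.coe_flip] at this
    exact h2 (by linear_combination -this)
  let u : M := ⟨C.flip, hM.flip⟩
  have hord : orderOf u = 2 :=
    orderOf_eq_prime (Subtype.ext (show C.flip ^ 2 = 1 by rw [pow_two, C.flip_mul_flip]))
      (fun h => hne (congrArg Subtype.val h))
  have hcc := central_cases hp hF hp2 hM hno
  have hiso : Cfsg.IsIsolatedInvolution u := by
    refine ⟨hord, fun g hg => Subtype.ext ?_⟩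
    set x : G3 := (g : G3) * C.flip * (g : G3)⁻¹ with hx
    have hxH : x ∈ C.Hgrp :=
      Subgroup.mem_centralizer_singleton_iff.2 (congrArg Subtype.val hg.eq).symm
    refine (hcc ⟨x, hxH⟩ (mul_mem (mul_mem g.2 hM.flip) (inv_mem g.2))).2.1 ?_
      (by show (x : M3).trace = -1; rw [hx, trace_conj, trace_flip])
    show x * x = 1
    rw [hx, show (g : G3) * C.flip * (g : G3)⁻¹ * ((g : G3) * C.flip * (g : G3)⁻¹)
      = (g : G3) * (C.flip * C.flip) * (g : G3)⁻¹ by group, C.flip_mul_flip, mul_one, mul_inv_cancel]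
  have hz := Cores.zStarProp (Cores.uniqueInvolutionCase Cores.quaternionCase) M u hiso
  set O : Subgroup G3 := (Cfsg.oddCore M).map M.subtype with hO
  have hOM : O ≤ M := Subgroup.map_subtype_le _
  have hOodd : ∀ o ∈ O, Odd (orderOf o) := by
    rintro _ ⟨o, ho, rfl⟩
    rw [Subgroup.coe_subtype, Subgroup.orderOf_coe]
    exact (Cores.odd_card_oddCore (G := M)).of_dvd_nat (Subgroup.orderOf_dvd_natCard _ ho)
  have hOnorm : ∀ g ∈ M, ∀ o ∈ O, g * o * g⁻¹ ∈ O := by
    rintro g hg _ ⟨o, ho, rfl⟩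
    exact ⟨⟨g, hg⟩ * o * ⟨g, hg⟩⁻¹, (inferInstance : (Cfsg.oddCore M).Normal).conj_mem o ho _, rfl⟩
  have hcomO : ∀ g ∈ M, C.flip * g * C.flip * g⁻¹ ∈ O := by
    intro g hg
    exact ⟨_, hz ⟨g, hg⟩, by simp [u, C.flip_inv]⟩
  have hOH : ∀ o ∈ O, o ∈ C.Hgrp → ∃ c : Fˣ, o = sc c := by
    intro o ho hoH
    refine (hcc ⟨o, hoH⟩ (hOM ho)).2.2 (hOodd o ho) (hOodd _ ?_)
    show o * C.S * o⁻¹ * C.S⁻¹ ∈ O
    rw [show o * C.S * o⁻¹ * C.S⁻¹ = o * (C.S * o⁻¹ * C.S⁻¹) by group]
    exact mul_mem ho (hOnorm _ hM.S _ (inv_mem ho))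
  let π : G3 →* G3 ⧸ scGrp F T3 := QuotientGroup.mk' _
  have hπ : ∀ {a b : G3}, π a = π b → ∃ c : Fˣ, a = sc c * b := by
    intro a b h
    have h1 : π (a * b⁻¹) = 1 := by rw [map_mul, map_inv, h, mul_inv_cancel]
    obtain ⟨c, hc⟩ := (QuotientGroup.eq_one_iff _).1 h1
    exact ⟨c, by rw [show sc c = a * b⁻¹ from hc, inv_mul_cancel_right]⟩
  have hπsc : ∀ c : Fˣ, π (sc c) = 1 := fun c => (QuotientGroup.eq_one_iff _).2 ⟨c, rfl⟩
  set Q := O.map π
  have hconj : ∀ q ∈ Q, π C.flip * q * π C.flip ∈ Q := by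
    rintro _ ⟨o, ho, rfl⟩
    rw [← map_mul, ← map_mul]
    refine Subgroup.mem_map_of_mem π ?_
    have := hOnorm _ hM.flip o ho
    rwa [C.flip_inv] at this
  have hπ2 : π C.flip * π C.flip = 1 := by rw [← map_mul, C.flip_mul_flip, map_one]
  let f : Q →* Q :=
    { toFun := fun q => ⟨_, hconj q q.2⟩
      map_one' := Subtype.ext (by show π C.flip * 1 * π C.flip = 1; rw [mul_one, hπ2])
      map_mul' := fun a b => Subtype.ext (by
        show π C.flip * ((a : G3 ⧸ scGrp F T3) * b) * π C.flip =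
          π C.flip * (a : G3 ⧸ scGrp F T3) * π C.flip * (π C.flip * (b : G3 ⧸ scGrp F T3) * π C.flip)
        rw [show π C.flip * (a : G3 ⧸ scGrp F T3) * π C.flip * (π C.flip * (b : G3 ⧸ scGrp F T3) * π C.flip)
          = π C.flip * (a : G3 ⧸ scGrp F T3) * (π C.flip * π C.flip) * (b : G3 ⧸ scGrp F T3) * π C.flip by group,
          hπ2, mul_one, ← mul_assoc]) }
  have hinv : ∀ q : Q, f q = q⁻¹ := by
    refine inverts_of_fixed_point_free f (fun q => Subtype.ext ?_) ?_
    · show π C.flip * (π C.flip * (q : G3 ⧸ _) * π C.flip) * π C.flip = (q : G3 ⧸ scGrp F T3)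
      rw [show π C.flip * (π C.flip * (q : G3 ⧸ scGrp F T3) * π C.flip) * π C.flip
        = (π C.flip * π C.flip) * (q : G3 ⧸ scGrp F T3) * (π C.flip * π C.flip) by group, hπ2, one_mul, mul_one]
    · rintro ⟨_, o, ho, rfl⟩ h
      have h' : π C.flip * π o * π C.flip = π o := congrArg Subtype.val h
      rw [← map_mul, ← map_mul] at h'
      obtain ⟨c, hc⟩ := hπ h'
      have hcO : sc c ∈ O := by
        have := hcomO o (hOM ho)
        rwa [hc, mul_inv_cancel_right] at this
      have hc2 : (sc c : G3) * sc c = 1 := by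
        have e1 : sc c * (sc c * o) = o := by
          rw [← hc, show sc c * (C.flip * o * C.flip) = C.flip * (sc c * o) * C.flip by
            rw [← mul_assoc, ← mul_assoc, sc_comm c C.flip]; group, ← hc,
            show C.flip * (C.flip * o * C.flip) * C.flip = (C.flip * C.flip) * o * (C.flip * C.flip) by group,
            C.flip_mul_flip, one_mul, mul_one]
        rwa [← mul_assoc, mul_eq_right] at e1
      have hc1 : (sc c : G3) = 1 := Cores.eq_one_of_sq_of_odd (hOodd _ hcO) (by rw [pow_two, hc2])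
      rw [hc1, one_mul] at hc
      obtain ⟨d, hd⟩ := hOH o ho (Subgroup.mem_centralizer_singleton_iff.2 (by
        nth_rw 1 [← hc]
        rw [mul_assoc (C.flip * o), C.flip_mul_flip, mul_one]))
      exact Subtype.ext (by show π o = 1; rw [hd, hπsc])
  have habel : ∀ a ∈ O, ∀ b ∈ O, π a * π b = π b * π a := by
    intro a ha b hb
    let qa : Q := ⟨_, Subgroup.mem_map_of_mem π ha⟩
    let qb : Q := ⟨_, Subgroup.mem_map_of_mem π hb⟩
    have h1 := map_mul f qa qb
    rw [hinv, hinv, hinv, ← _root_.mul_inv_rev, _root_.inv_inj] at h1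
    exact congrArg Subtype.val h1
  have hWmul : ∀ v w : V, π (C.W v) * π (C.W w) = π (C.W (v + w)) := fun v w => by
    rw [← map_mul, C.W_mul, map_mul, hπsc, one_mul]
  have hWinv : ∀ v : V, (π (C.W v))⁻¹ = π (C.W (-v)) := fun v =>
    inv_eq_of_mul_eq_one_right (by rw [hWmul, add_neg_cancel, C.W_zero, map_one])
  have hWQ : ∀ v : V, ∃ o ∈ O, π o = π (C.W v) := by
    intro v
    refine ⟨_, hcomO _ (hM.W v), ?_⟩
    rw [C.flip_W, mul_assoc (C.W (-v)), C.flip_mul_flip, mul_one, map_mul, map_inv, hWinv, hWmul]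
    congr 2
    revert v
    decide
  have hOR : ∀ o ∈ O, C.InR o := by
    intro o ho
    refine C.inR_of_fix fun v => ?_
    obtain ⟨w, hw, hwv⟩ := hWQ v
    refine hπ (a := o * C.W v * o⁻¹) ?_
    rw [map_mul, map_mul, map_inv, ← hwv, habel o ho w hw, mul_inv_cancel_right, hwv]; rfl
  intro g hg
  obtain ⟨c, v, hcv⟩ := hOR _ (hcomO g hg)
  have hgf : π (g * C.flip * g⁻¹) = π (C.W v * C.flip * (C.W v)⁻¹) := by
    have h1 : g * C.flip * g⁻¹ = C.flip * (sc c * C.W v) := by
      rw [← hcv, ← mul_assoc, ← mul_assoc, ← mul_assoc, C.flip_mul_flip, one_mul]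
    rw [h1, map_mul, map_mul, hπsc, one_mul, ← map_mul, C.flip_W, map_mul]
    rw [map_mul, map_mul, map_inv, hWinv, mul_assoc (π (C.W v)), ← map_mul π C.flip, C.flip_W, neg_neg, map_mul,
      ← mul_assoc, hWmul]
    congr 3
    exact (by decide : ∀ w : V, -w = w + w) v
  obtain ⟨d, hd⟩ := hπ hgf
  have hd1 : d = 1 := by
    have := congrArg (fun x : G3 => (x : M3).trace) hd
    beta_reduce at this
    rw [trace_conj, Units.val_mul, coe_sc, Matrix.smul_mul, one_mul, Matrix.trace_smul, trace_conj,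
      trace_flip, smul_eq_mul] at this
    exact Units.ext (by rw [Units.val_one]; linear_combination -(-1 : F) * this)
  rw [hd1, sc_one, one_mul] at hd
  have hmem : (C.W v)⁻¹ * g ∈ C.Hgrp := by
    refine Subgroup.mem_centralizer_singleton_iff.2 ?_
    calc (C.W v)⁻¹ * g * C.flip = (C.W v)⁻¹ * (g * C.flip * g⁻¹) * g := by group
      _ = C.flip * ((C.W v)⁻¹ * g) := by rw [hd]; group
  have h1 := (hcc ⟨_, hmem⟩ (mul_mem (inv_mem (hM.W v)) hg)).1
  have : g = C.W v * ((C.W v)⁻¹ * g) := by group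
  rw [this]
  exact mul_mem (C.W_mem_NZ v) h1

end Cfsg.Agent.H1.HeisThree
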