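import Cfsg.Agent.H1.HeisThree.Central

/-!
The centraliser of the involution in a subgroup containing the Heisenberg normaliser.
-/

set_option autoImplicit false

namespace Cfsg.Agent.H1.HeisThree

open Matrix

variable {F : Type*} [Field F] [Fintype F] {p : ℕ} (C : Cube F)

local notation "T3" => ZMod 3
local notation "M3" => Matrix (ZMod 3) (ZMod 3) F
local notation "G3" => GL (ZMod 3) F
local notation "M2" => Matrix (Fin 2) (Fin 2) F

/-- The subgroup contains the scalars and generators of the normaliser. -/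
structure ContainsN (M : Subgroup G3) : Prop where
  sc : ∀ c : Fˣ, sc c ∈ M
  W : ∀ v, C.W v ∈ M
  S : C.S ∈ M
  y : C.y ∈ M

variable {C}

omit [Fintype F] in
theorem ContainsN.flip {M : Subgroup G3} (hM : ContainsN C M) : C.flip ∈ M := by
  rw [← C.S_mul_S]; exact mul_mem hM.S hM.S

omit [Fintype F] in
theorem two_ne_zero_of (hp2 : p ≠ 2) (hp : p.Prime) [CharP F p] : (2 : F) ≠ 0 := fun h =>
  hp2 (((Nat.prime_dvd_prime_iff_eq hp Nat.prime_two).1 ((CharP.cast_eq_zero_iff F p 2).1 (by exact_mod_cast h))))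

theorem exists_order_p_of_dvd {Γ : Type*} [Group Γ] [Finite Γ] {Q : Type*} [Group Q] (f : Γ →* Q)
    (hp : p.Prime) (h : p ∣ Nat.card f.range) : ∃ g : Γ, f (g ^ p) = 1 ∧ f g ≠ 1 := by
  have := Fact.mk hp
  have : Finite f.range := Finite.of_surjective f.rangeRestrict f.rangeRestrict_surjective
  obtain ⟨⟨_, g, rfl⟩, hg⟩ := exists_prime_orderOf_dvd_card' (G := f.range) p h
  rw [← Subgroup.orderOf_coe] at hg
  refine ⟨g, by rw [map_pow, ← hg, pow_orderOf_eq_one], fun h1 => hp.ne_one ?_⟩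
  rw [← hg, orderOf_eq_one_iff]
  exact h1

/-- A nonscalar element acting as a scalar on the symmetric vectors gives the special linear group. -/
theorem sl_mem_of_scalar_phi (hp : p.Prime) (hF : Fintype.card F = p) (hp2 : p ≠ 2) {M : Subgroup G3}
    (hM : ContainsN C M) {d : C.Hgrp} (hd : (d : G3) ∈ M) {c : F}
    (hphi : (C.phi d : M2) = c • 1) (h1 : (C.mu d : F) ≠ c) (h1' : (C.mu d : F) ≠ -c) :
    ∀ g : G3, (g : M3).det = 1 → g ∈ M := by
  classical
  have := Fact.mk hp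
  have := charP_of_card hp hF
  have h2 : (2 : F) ≠ 0 := two_ne_zero_of hp2 hp
  have hc : c ≠ 0 := fun h => (C.phi d).ne_zero (by rw [hphi, h, zero_smul])
  set cu := Units.mk0 c hc
  -- normalise
  obtain ⟨d', hd', hphi', k, hk, hm1⟩ : ∃ d' : C.Hgrp, (d' : G3) ∈ M ∧ (C.phi d' : M2) = 1 ∧
      ∃ k : ℕ, (C.mu d' : F) ^ k = -1 ∧ (C.mu d' : F) ^ 2 ≠ 1 := by
    set d₁ : C.Hgrp := ⟨_, C.sc_mem cu⁻¹⟩ * d with hd₁
    set d₂ : C.Hgrp := ⟨_, C.sc_mem (-1)⟩ * ⟨_, C.flip_mem⟩ * d₁ with hd₂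
    have hd₁M : (d₁ : G3) ∈ M := mul_mem (hM.sc _) hd
    have hd₂M : (d₂ : G3) ∈ M := mul_mem (mul_mem (hM.sc _) hM.flip) hd₁M
    have p1 : (C.phi d₁ : M2) = 1 := by
      rw [hd₁, map_mul, Units.val_mul, C.phi_sc, hphi, Matrix.smul_mul, one_mul, smul_smul]
      simp [cu, hc]
    have p2 : (C.phi d₂ : M2) = 1 := by
      rw [hd₂, map_mul, map_mul, Units.val_mul, Units.val_mul, C.phi_sc, C.phi_flip, p1]
      simp
    have m1 : (C.mu d₁ : F) = c⁻¹ * C.mu d := by
      rw [hd₁, map_mul, Units.val_mul, C.mu_sc]; simp [cu]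
    have m2 : (C.mu d₂ : F) = -(C.mu d₁ : F) := by
      rw [hd₂, map_mul, map_mul, Units.val_mul, Units.val_mul, C.mu_sc, C.mu_flip]; simp
    have hsq : (C.mu d₁ : F) ^ 2 ≠ 1 := by
      intro h
      rw [m1] at h
      have h' : ((C.mu d : F) - c) * ((C.mu d : F) + c) = 0 := by
        field_simp at h
        linear_combination h
      rcases mul_eq_zero.1 h' with h | h
      · exact h1 (sub_eq_zero.1 h)
      · exact h1' (eq_neg_of_add_eq_zero_left h)
    set o := orderOf (C.mu d₁) with ho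
    have hmo : (C.mu d₁ : F) ^ o = 1 := by
      rw [← Units.val_pow_eq_pow_val, ho, pow_orderOf_eq_one, Units.val_one]
    rcases Nat.even_or_odd o with ⟨j, hj⟩ | hodd
    · refine ⟨d₁, hd₁M, p1, j, ?_, hsq⟩
      have hsq' : ((C.mu d₁ : F) ^ j) * ((C.mu d₁ : F) ^ j) = 1 := by rw [← pow_add, ← hj, hmo]
      refine (mul_self_eq_one_iff.1 hsq').resolve_left fun h => ?_
      have hopos : 0 < o := orderOf_pos _
      have h' : (C.mu d₁) ^ j = 1 := Units.ext (by rw [Units.val_pow_eq_pow_val, h, Units.val_one])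
      have := Nat.le_of_dvd (by omega) (orderOf_dvd_of_pow_eq_one h')
      omega
    · refine ⟨d₂, hd₂M, p2, o, ?_, by rw [m2, neg_sq]; exact hsq⟩
      rw [m2, hodd.neg_pow, hmo]
  -- the stabiliser of the coordinate decomposition
  let e0 : G3 := Cfsg.Agent.Linear.diagGL fun i => if i = 0 then -1 else 1
  have hSt : ∀ g : G3, g ∈ Subgroup.centralizer ({e0} : Set G3) ↔
      (g : M3) 0 1 = 0 ∧ (g : M3) 0 2 = 0 ∧ (g : M3) 1 0 = 0 ∧ (g : M3) 2 0 = 0 := by
    intro g
    rw [Subgroup.mem_centralizer_singleton_iff, Units.ext_iff, Units.val_mul, Units.val_mul,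
      Cfsg.Agent.Linear.diagGL_coe, ← Matrix.ext_iff]
    simp only [Matrix.diagonal_mul, Matrix.mul_diagonal]
    constructor
    · intro h
      have a := h 0 1
      have b := h 0 2
      have c := h 1 0
      have d := h 2 0
      simp [two_ne_zero_T3] at a b c d
      have key : ∀ x : F, 2 * x = 0 → x = 0 := fun x h => (mul_eq_zero.1 h).resolve_left h2
      refine ⟨?_, ?_, ?_, ?_⟩ <;> apply key <;>
        first | linear_combination a | linear_combination -a | linear_combination b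
              | linear_combination -b | linear_combination c | linear_combination -c
              | linear_combination d | linear_combination -d
    · rintro ⟨a, b, c, d⟩ i j
      obtain rfl | rfl | rfl : i = 0 ∨ i = 1 ∨ i = 2 := by revert i; decide
      all_goals obtain rfl | rfl | rfl : j = 0 ∨ j = 1 ∨ j = 2 := by revert j; decide
      all_goals simp [a, b, c, d, two_ne_zero_T3, mul_comm]
  let St : Subgroup G3 := Subgroup.centralizer ({e0} : Set G3) ⊓ M
  let bMat : G3 → M2 := fun g => !![(g : M3) 1 1, (g : M3) 1 2; (g : M3) 2 1, (g : M3) 2 2]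
  let bhom : St →* M2 :=
    { toFun := fun g => bMat g
      map_one' := by
        ext i j
        fin_cases i <;> fin_cases j <;> simp [bMat, one_ne_two_T3, two_ne_one_T3]
      map_mul' := fun g h => by
        obtain ⟨-, -, c, d⟩ := (hSt _).1 (Subgroup.mem_inf.1 g.2).1
        ext i j
        fin_cases i <;> fin_cases j <;>
          simp [bMat, Matrix.mul_apply, sum3, Fin.sum_univ_two, c, d] }
  let β : St →* GL (Fin 2) F := bhom.toHomUnits
  have hβ : ∀ g : St, (β g : M2) = bMat g := fun g => rfl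
  obtain ⟨a1, a2, a3, a4⟩ := C.sym_facts d'.2
  have e := hphi'
  rw [C.coe_phi, ← Matrix.ext_iff] at e
  have e00 := e 0 0
  have e01 := e 0 1
  have e10 := e 1 0
  have e11 := e 1 1
  simp [Cube.phiMat] at e00 e01 e10 e11
  have f01 := e01.resolve_left h2
  have hZst : C.W (0, 1) ∈ St := ⟨(hSt _).2 (by simp [Cube.coe_W, Cube.wMat_apply, zero_ne_two_T3,
    two_ne_zero_T3]), hM.W _⟩
  have hfst : C.flip ∈ St := ⟨(hSt _).2 (by simp [Cube.coe_flip, neg_one_T3, neg_two_T3, zero_ne_two_T3,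
    two_ne_zero_T3]), hM.flip⟩
  have hdst : (d' : G3) ∈ St := ⟨(hSt _).2 ⟨f01, a1.trans f01, e10, a2.trans e10⟩, hd'⟩
  have hscst : sc (-1 : Fˣ) ∈ St :=
    ⟨Subgroup.mem_centralizer_singleton_iff.2 (sc_comm _ _), hM.sc _⟩
  obtain ⟨ψ, hψ⟩ := exists_proj (F := F) (p := p) hF hp2
  let f := ψ.comp β
  let Z : St := ⟨_, hZst⟩
  let fl : St := ⟨_, hfst⟩
  let D : St := ⟨_, hdst⟩
  have hZne : ¬ ∃ c : F, (β Z : M2) = c • 1 := by
    rintro ⟨e, he⟩
    rw [hβ, ← Matrix.ext_iff] at he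
    have := (he 0 0).trans (he 1 1).symm
    have e0 := he 0 0
    have e1 := he 1 1
    simp [bMat, Z, Cube.coe_W, Cube.wMat_apply, Cube.ch_one, Cube.ch_two] at e0 e1
    exact C.ne_one (mul_left_cancel₀ C.ne_zero (by linear_combination e1 - e0))
  by_cases hdvd : p ∣ Nat.card f.range
  · obtain ⟨g, hgp, hg1⟩ := exists_order_p_of_dvd f hp hdvd
    obtain ⟨t, ht, x, ⟨x', rfl⟩, hx⟩ := exists_low_of_dvd (G := β.range) (D := β Z) (S := β fl)
      (a := C.ω) (b := C.ω ^ 2) hp hF ⟨Z, rfl⟩ ⟨fl, rfl⟩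
      (by
        rw [hβ]
        ext i j
        fin_cases i <;> fin_cases j <;>
          simp [bMat, Z, Cube.coe_W, Cube.wMat_apply, Cube.ch_one, Cube.ch_two, one_ne_two_T3, two_ne_one_T3])
      (fun h => C.ne_one (mul_left_cancel₀ C.ne_zero (by linear_combination -h)))
      (by simp [hβ, bMat, fl, Cube.coe_flip, neg_two_T3])
      (by simp [hβ, bMat, fl, Cube.coe_flip, neg_one_T3])
      (g := β g) ⟨g, rfl⟩ (by rw [← map_pow]; exact (hψ _).1 hgp) (fun h => hg1 ((hψ _).2 h))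
    -- kill the first coordinate
    set a := ((x' : G3) : M3) 0 0 with ha
    obtain ⟨b1, b2, b3, b4⟩ := (hSt _).1 (Subgroup.mem_inf.1 x'.2).1
    rw [hβ, ← Matrix.ext_iff] at hx
    have c00 := hx 0 0
    have c01 := hx 0 1
    have c10 := hx 1 0
    have c11 := hx 1 1
    simp [bMat] at c00 c01 c10 c11
    have hxd : ((x' : G3) : M3) = Matrix.diagonal (fun i => if i = 0 then a else 1) + Matrix.single 2 1 t := by
      ext i j
      obtain rfl | rfl | rfl : i = 0 ∨ i = 1 ∨ i = 2 := by revert i; decide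
      all_goals obtain rfl | rfl | rfl : j = 0 ∨ j = 1 ∨ j = 2 := by revert j; decide
      all_goals simp [b1, b2, b3, b4, c00, c01, c10, c11, one_ne_two_T3, two_ne_one_T3, zero_ne_two_T3,
        two_ne_zero_T3, ← ha]
    have hpow : ∀ n : ℕ, (((x' : G3) ^ n : G3) : M3) =
        Matrix.diagonal (fun i => if i = 0 then a ^ n else 1) + Matrix.single 2 1 (n * t) := by
      intro n
      induction n with
      | zero => simp [Matrix.diagonal_one]
      | succ n ih =>
        have dm : ∀ (d : T3 → F) (c : F), Matrix.diagonal d * Matrix.single 2 1 c = Matrix.single 2 1 (d 2 * c) ∧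
            Matrix.single 2 1 c * Matrix.diagonal d = Matrix.single 2 1 (c * d 1) := by
          intro d c
          constructor <;> ext i j <;> simp [Matrix.diagonal_mul, Matrix.mul_diagonal, Matrix.single_apply] <;>
            split_ifs with h <;> first | (obtain ⟨rfl, rfl⟩ := h; simp) | simp
        rw [pow_succ, Units.val_mul, ih, hxd, Matrix.add_mul, Matrix.mul_add, Matrix.mul_add,
          Matrix.diagonal_mul_diagonal, (dm _ _).1, (dm _ _).2,
          Matrix.single_mul_single_of_ne _ _ _ _ (show (1 : T3) ≠ 2 by decide), add_zero, add_assoc,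
          ← Matrix.single_add]
        congr 1
        · congr 1; funext i; split_ifs <;> simp [pow_succ]
        · congr 1; simp [two_ne_zero_T3]; ring
    have ha0 : a ≠ 0 := by
      intro h
      apply (Matrix.GeneralLinearGroup.det (x' : G3)).ne_zero
      rw [Matrix.GeneralLinearGroup.val_det_apply]
      refine Matrix.det_eq_zero_of_row_eq_zero 0 fun j => ?_
      obtain rfl | rfl | rfl : j = 0 ∨ j = 1 ∨ j = 2 := by revert j; decide
      exacts [h, b1, b2]
    have hu : (((x' : G3) ^ (p - 1) : G3) : M3) = Matrix.transvection 2 1 (-t) := by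
      have h1 : a ^ (p - 1) = 1 := by
        have := FiniteField.pow_card_sub_one_eq_one a ha0
        rwa [hF] at this
      rw [hpow, h1, Nat.cast_sub hp.one_le, CharP.cast_eq_zero, Nat.cast_one, Matrix.transvection]
      simp [ite_self, Matrix.diagonal_one]
    have hxM : (x' : G3) ∈ M := (Subgroup.mem_inf.1 x'.2).2
    refine sl_mem_of_seeds C hp hF (hM.W (1, 0)) (neg_ne_zero.2 ht) (neg_ne_zero.2 ht) (i := 1) (i' := 1)
      (pow_mem hxM (p - 1)) (mul_mem (mul_mem hM.flip (pow_mem hxM (p - 1))) (inv_mem hM.flip))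
      (by rw [hu]; rfl) ?_
    rw [Units.val_mul, Units.val_mul, hu, C.flip_inv]
    ext i j
    rw [Matrix.mul_apply, Finset.sum_eq_single (-j), Matrix.mul_apply, Finset.sum_eq_single (-i)]
    · obtain rfl | rfl | rfl : i = 0 ∨ i = 1 ∨ i = 2 := by revert i; decide
      all_goals obtain rfl | rfl | rfl : j = 0 ∨ j = 1 ∨ j = 2 := by revert j; decide
      all_goals simp [Cube.coe_flip, Matrix.transvection, neg_one_T3,
        neg_two_T3, one_ne_two_T3, two_ne_one_T3, zero_ne_two_T3, two_ne_zero_T3, show (1 : T3) + 1 = 2 from rfl]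
    · intro k _ hk
      have : i ≠ -k := fun e => hk (by rw [e, neg_neg])
      simp [Cube.coe_flip, this]
    · simp
    · intro k _ hk
      simp [Cube.coe_flip, hk]
    · simp
  · exfalso
    let _ : Fintype (GaloisField p 2) := Fintype.ofFinite _
    have hsmall := small_of_not_dvd p f.range hdvd
    have hs1 : f ⟨_, hscst⟩ = 1 := (hψ _).2 ⟨-1, by
      rw [hβ]; ext i j
      fin_cases i <;> fin_cases j <;> simp [bMat, coe_sc, one_ne_two_T3, two_ne_one_T3]⟩
    have hflip2 : fl * fl = 1 := Subtype.ext C.flip_mul_flip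
    have hinv : fl * Z * fl⁻¹ = Z⁻¹ := by
      refine Subtype.ext ?_
      show C.flip * C.W (0, 1) * C.flip⁻¹ = (C.W (0, 1))⁻¹
      rw [C.flip_W, mul_inv_cancel_right]
      refine (inv_eq_of_mul_eq_one_right ?_).symm
      rw [C.W_mul, add_neg_cancel, C.W_zero, mul_one, ← sc_one]
      exact congrArg sc (Units.ext (by simp [Cube.ch_zero]))
    have hcomm : D * fl = fl * D :=
      Subtype.ext (Subgroup.mem_centralizer_singleton_iff.1 d'.2)
    have hDk : D ^ k = (⟨_, hscst⟩ : St) * fl := by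
      refine Subtype.ext ?_
      show (d' : G3) ^ k = sc (-1) * C.flip
      have : d' ^ k = ⟨_, C.sc_mem (-1)⟩ * ⟨_, C.flip_mem⟩ := by
        refine C.ext_H h2 ?_ ?_
        · rw [map_pow, map_mul, Units.val_pow_eq_pow_val, Units.val_mul, hphi', one_pow, C.phi_sc, C.phi_flip]
          simp
        · rw [map_pow, map_mul, Units.val_pow_eq_pow_val, Units.val_mul, hk, C.mu_sc, C.mu_flip]
          simp
      exact congrArg Subtype.val this
    refine no_flip_inverted hsmall (w := f.rangeRestrict Z) (b := f.rangeRestrict fl) (d := f.rangeRestrict D)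
      (fun h => hZne ((hψ _).1 (congrArg Subtype.val h))) ?_ ?_ ?_ ?_ ?_ ?_
    · rw [← map_mul, ← map_mul, show Z * Z * Z = 1 from Subtype.ext (by
        show C.W (0, 1) * C.W (0, 1) * C.W (0, 1) = 1
        rw [← C.W_cube (0, 1), pow_succ, pow_two]), map_one]
    · rw [← map_mul, hflip2, map_one]
    · rw [← map_inv, ← map_mul, ← map_mul, hinv, map_inv]
    · rw [← map_mul, hcomm, map_mul]
    · intro h
      rw [← map_mul] at h
      obtain ⟨e, he⟩ := (hψ _).1 (congrArg Subtype.val h)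
      rw [map_mul, Units.val_mul, hβ, ← Matrix.ext_iff] at he
      have h00 := he 0 0
      have h01 := he 0 1
      simp [bMat, D, Matrix.mul_apply, Fin.sum_univ_two, a3, a4] at h00 h01
      apply hm1
      rw [C.coe_mu, Cube.muVal]
      linear_combination (((d' : G3) : M3) 1 1 + ((d' : G3) : M3) 1 2 + 1) * e11 - 2 * h01
    · refine ⟨(k : ℤ), ?_⟩
      show f.rangeRestrict D ^ (k : ℤ) = _
      rw [zpow_natCast, ← map_pow, hDk, map_mul]
      rw [show f.rangeRestrict ⟨_, hscst⟩ = 1 from Subtype.ext hs1, one_mul]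

section Split

omit [Fintype F] in
theorem phi_gen_facts :
    (C.phi ⟨_, C.S_mem⟩ * C.phi ⟨_, C.S_mem⟩ : GL (Fin 2) F).val = (-1 : M2) ∧
      C.phi ⟨_, C.y_mem⟩ * C.phi ⟨_, C.y_mem⟩ * C.phi ⟨_, C.y_mem⟩ = 1 ∧
      (∀ c : F, (C.phi ⟨_, C.S_mem⟩ : M2) ≠ c • 1) ∧ (∀ c : F, (C.phi ⟨_, C.y_mem⟩ : M2) ≠ c • 1) := by
  refine ⟨?_, ?_, fun c h => ?_, fun c h => ?_⟩
  · rw [← map_mul, show (⟨_, C.S_mem⟩ : C.Hgrp) * ⟨_, C.S_mem⟩ = ⟨_, C.flip_mem⟩ from Subtype.ext C.S_mul_S]
    exact C.phi_flip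
  · apply Units.ext
    rw [Units.val_mul, Units.val_mul, C.phi_y, Units.val_one]
    ext i j
    fin_cases i <;> fin_cases j <;> simp
    linear_combination C.cube
  · rw [C.phi_S, ← Matrix.ext_iff] at h
    have h10 := h 1 0
    simp [inv_ne_zero C.root_ne_zero, Cube.s] at h10
  · rw [C.phi_y, ← Matrix.ext_iff] at h
    have e0 := h 0 0
    have e1 := h 1 1
    simp at e0 e1
    exact C.ne_one (e1.trans e0.symm)

omit [Fintype F] in
theorem phi_gen_comm (h2 : (2 : F) ≠ 0) :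
    (∀ c : F, (C.phi ⟨_, C.y_mem⟩ : M2) * (C.phi ⟨_, C.S_mem⟩ : M2) ≠
        c • ((C.phi ⟨_, C.S_mem⟩ : M2) * (C.phi ⟨_, C.y_mem⟩ : M2))) ∧
      ∀ P D : GL (Fin 2) F, P = C.phi ⟨_, C.S_mem⟩ → D = C.phi ⟨_, C.y_mem⟩ →
        ((P * (D * P * (D * D)) : GL (Fin 2) F) : M2) = -((D * P * (D * D) * P : GL (Fin 2) F) : M2) := by
  have hs0 : C.s ≠ 0 := inv_ne_zero C.root_ne_zero
  refine ⟨fun c h => ?_, ?_⟩
  · rw [C.phi_S, C.phi_y, ← Matrix.ext_iff] at h
    have e00 := h 0 0
    have e01 := h 0 1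
    simp [Matrix.mul_apply, Fin.sum_univ_two] at e00 e01
    have hc1 : c = 1 := (mul_right_cancel₀ hs0 (by linear_combination e00)).symm
    rw [hc1] at e01
    exact C.ne_one (mul_left_cancel₀ (mul_ne_zero hs0 h2) (by linear_combination -e01))
  · rintro P D rfl rfl
    have hw3 := C.cube
    simp only [Units.val_mul, C.phi_S, C.phi_y]
    ext i j
    fin_cases i <;> fin_cases j <;> simp [Matrix.mul_apply, Fin.sum_univ_two]
    · linear_combination (2 * C.s * C.s) * C.sq_add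
    · linear_combination (-2 * C.s * C.s) * hw3
    · linear_combination (-C.s * C.s) * hw3
    · linear_combination (2 * C.s * C.s) * C.sq_add + (2 * C.s * C.s) * hw3

theorem sl_mem_of_p_element (hp : p.Prime) (hF : Fintype.card F = p) (hp2 : p ≠ 2) {M : Subgroup G3}
    (hM : ContainsN C M) {g : C.Hgrp} (hg : (g : G3) ∈ M)
    (hgp : ∃ c : F, ((C.phi (g ^ p)) : M2) = c • 1) (hgs : ¬ ∃ c : F, (C.phi g : M2) = c • 1) :
    ∀ g : G3, (g : M3).det = 1 → g ∈ M := by
  classical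
  have := Fact.mk hp
  have := charP_of_card hp hF
  have h2 : (2 : F) ≠ 0 := two_ne_zero_of hp2 hp
  have hs0 : C.s ≠ 0 := inv_ne_zero C.root_ne_zero
  rw [map_pow] at hgp
  obtain ⟨t, ht, x, hxG, hx⟩ := exists_low_of_dvd (G := (M.comap C.Hgrp.subtype).map C.phi)
    (D := C.phi ⟨_, C.y_mem⟩) (S := C.phi ⟨_, C.S_mem⟩) (a := 1) (b := C.ω) hp hF ⟨_, hM.y, rfl⟩
    ⟨_, hM.S, rfl⟩ C.phi_y C.ne_one.symm (by simp [C.phi_S, hs0, h2]) (by simp [C.phi_S, hs0])
    (g := C.phi g) ⟨_, hg, rfl⟩ hgp hgs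
  obtain ⟨x', hx'M, rfl⟩ := hxG
  have hxp : (C.phi (x' ^ (p - 1)) : M2) = !![1, 0; -t, 1] := by
    rw [map_pow]
    have hU : (C.phi x' : M2) = 1 + Matrix.single 1 0 t := by
      rw [hx]; ext i j; fin_cases i <;> fin_cases j <;> simp
    rw [coe_pow_one_add hU (Matrix.single_mul_single_of_ne _ _ _ _ (show (0 : Fin 2) ≠ 1 by decide) _)
      (p - 1), Nat.cast_sub hp.one_le, CharP.cast_eq_zero, Nat.cast_one]
    ext i j; fin_cases i <;> fin_cases j <;> simp
  have hmu : (C.mu (x' ^ (p - 1)) : F) = 1 := by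
    rw [map_pow, Units.val_pow_eq_pow_val]
    have := FiniteField.pow_card_sub_one_eq_one (C.mu x' : F) (Units.ne_zero _)
    rwa [hF] at this
  exact sl_mem_of_root C hp hF hM.W (u := x' ^ (p - 1)) (pow_mem hx'M _) (neg_ne_zero.2 ht) hxp hmu h2

theorem scalar_kernel (hp : p.Prime) (hF : Fintype.card F = p) (hp2 : p ≠ 2) {M : Subgroup G3}
    (hM : ContainsN C M) (hno : ¬ ∀ g : G3, (g : M3).det = 1 → g ∈ M) {k : C.Hgrp} (hk : (k : G3) ∈ M)
    {c : F} (hc : (C.phi k : M2) = c • 1) :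
    ∃ e : Fˣ, (e : F) = c ∧ ((k : G3) = sc e ∨ (k : G3) = sc (-e) * C.flip) := by
  have := Fact.mk hp
  have := charP_of_card hp hF
  have h2 : (2 : F) ≠ 0 := two_ne_zero_of hp2 hp
  have hc0 : c ≠ 0 := fun h => (C.phi k).ne_zero (by rw [hc, h, zero_smul])
  refine ⟨Units.mk0 c hc0, rfl, ?_⟩
  by_cases h1 : (C.mu k : F) = c
  · left
    refine congrArg Subtype.val (C.ext_H h2 (g := k) (h := ⟨_, C.sc_mem _⟩) ?_ ?_)
    · rw [hc, C.phi_sc]; rfl
    · rw [h1, C.mu_sc]; rfl
  by_cases h1' : (C.mu k : F) = -c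
  · right
    refine congrArg Subtype.val (C.ext_H h2 (g := k) (h := ⟨_, C.sc_mem _⟩ * ⟨_, C.flip_mem⟩) ?_ ?_)
    · rw [hc, map_mul, Units.val_mul, C.phi_sc, C.phi_flip]; simp
    · rw [h1', map_mul, Units.val_mul, C.mu_sc, C.mu_flip]; simp
  exact absurd (sl_mem_of_scalar_phi hp hF hp2 hM hk hc h1 h1') hno

theorem sl_mem_of_inverter (hp : p.Prime) (hF : Fintype.card F = p) (hp2 : p ≠ 2) {M : Subgroup G3}
    (hM : ContainsN C M) {x : C.Hgrp} (hx : (x : G3) ∈ M) {c : F}
    (hc : (C.phi (x * ⟨_, C.y_mem⟩ * x⁻¹ * ⟨_, C.y_mem⟩) : M2) = c • 1) :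
    ∀ g : G3, (g : M3).det = 1 → g ∈ M := by
  have := Fact.mk hp
  have := charP_of_card hp hF
  have h2 : (2 : F) ≠ 0 := two_ne_zero_of hp2 hp
  set Y : C.Hgrp := ⟨_, C.y_mem⟩
  have hy : (C.phi Y : M2) = !![1, 0; 0, C.ω] := C.phi_y
  have hw3 : C.ω ^ 3 = 1 := C.cube
  have hmu : (C.mu (x * Y * x⁻¹ * Y) : F) = C.ω ^ 2 := by
    rw [map_mul, map_mul, map_mul, map_inv, mul_right_comm (C.mu x), mul_inv_cancel, one_mul,
      Units.val_mul, show (C.mu Y : F) = C.ω from C.mu_y, pow_two]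
  have hD : (C.phi x : M2) * !![1, 0; 0, C.ω] * (↑(C.phi x)⁻¹ : M2) = c • !![1, 0; 0, C.ω ^ 2] := by
    have h1 : (C.phi x : M2) * C.phi Y * (↑(C.phi x)⁻¹ : M2) * C.phi Y = c • 1 := by
      rw [← hc]; simp [map_mul, map_inv]
    rw [hy] at h1
    calc (C.phi x : M2) * !![1, 0; 0, C.ω] * (↑(C.phi x)⁻¹ : M2)
        = (C.phi x : M2) * !![1, 0; 0, C.ω] * (↑(C.phi x)⁻¹ : M2) *
            (!![1, 0; 0, C.ω] * !![1, 0; 0, C.ω ^ 2]) := by
          rw [show !![1, 0; 0, C.ω] * !![1, 0; 0, C.ω ^ 2] = (1 : M2) by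
            ext i j; fin_cases i <;> fin_cases j <;> simp [← pow_succ', hw3], mul_one]
      _ = c • !![1, 0; 0, C.ω ^ 2] := by
          rw [← Matrix.mul_assoc, h1, Matrix.smul_mul, one_mul]
  have htr := congrArg Matrix.trace hD
  rw [Matrix.trace_mul_cycle, Units.inv_mul, one_mul, Matrix.trace_smul, Matrix.trace_fin_two,
    Matrix.trace_fin_two] at htr
  simp at htr
  have hcw : c = C.ω := by
    refine mul_right_cancel₀ C.ne_zero ?_
    linear_combination htr + (c - 1) * C.sq_add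
  refine sl_mem_of_scalar_phi hp hF hp2 hM (d := x * Y * x⁻¹ * Y)
    (mul_mem (mul_mem (mul_mem hx hM.y) (inv_mem hx)) hM.y) hc ?_ ?_
  · rw [hmu, hcw]
    exact fun h => C.ne_one (mul_left_cancel₀ C.ne_zero (by linear_combination h))
  · rw [hmu, hcw]
    intro h
    have h3 : C.ω = -1 := mul_left_cancel₀ C.ne_zero (by linear_combination h)
    have h4 := hw3
    rw [h3] at h4
    exact h2 (by linear_combination -h4)

/-- The elements of the centraliser are products of a short word and an almost scalar element. -/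
theorem decomposition (hp : p.Prime) (hF : Fintype.card F = p) (hp2 : p ≠ 2) {M : Subgroup G3}
    (hM : ContainsN C M) (hno : ¬ ∀ g : G3, (g : M3).det = 1 → g ∈ M) :
    ∀ x : C.Hgrp, (x : G3) ∈ M →
      (∃ g : C.Hgrp, g ∈ Subgroup.closure ({⟨_, C.S_mem⟩, ⟨_, C.y_mem⟩} : Set C.Hgrp) ∧
        ∃ c : F, (C.phi (x * g⁻¹) : M2) = c • 1) ∧
      (x * x = 1 → (∃ c : F, (C.phi x : M2) = c • 1) ∨
        ∃ g ∈ Subgroup.closure ({⟨_, C.S_mem⟩, ⟨_, C.y_mem⟩} : Set C.Hgrp),
          ∃ c : F, (C.phi (x * (g * ⟨_, C.S_mem⟩ * g⁻¹)⁻¹) : M2) = c • 1) ∧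
      (Odd (orderOf x) → Odd (orderOf (x * ⟨_, C.S_mem⟩ * x⁻¹ * (⟨_, C.S_mem⟩ : C.Hgrp)⁻¹)) →
        ∃ c : F, (C.phi x : M2) = c • 1) := by
  classical
  have := Fact.mk hp
  have := charP_of_card hp hF
  have h2 : (2 : F) ≠ 0 := two_ne_zero_of hp2 hp
  obtain ⟨ψ, hψ⟩ := exists_proj (F := F) (p := p) hF hp2
  let _ : Fintype (GaloisField p 2) := Fintype.ofFinite _
  let A : Subgroup C.Hgrp := M.comap C.Hgrp.subtype
  let f : A →* _ := (ψ.comp C.phi).comp A.subtype
  let S : A := ⟨⟨_, C.S_mem⟩, hM.S⟩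
  let y : A := ⟨⟨_, C.y_mem⟩, hM.y⟩
  obtain ⟨hSS, hyyy, hSne, hyne⟩ := phi_gen_facts (C := C)
  obtain ⟨hnc, hanti⟩ := phi_gen_comm (C := C) h2
  by_cases hdvd : p ∣ Nat.card f.range
  · obtain ⟨g, hgp, hg1⟩ := exists_order_p_of_dvd f hp hdvd
    exact absurd (sl_mem_of_p_element hp hF hp2 hM g.2 ((hψ _).1 hgp) (fun h => hg1 ((hψ _).2 h))) hno
  have hsmall := small_of_not_dvd p f.range hdvd
  have lift1 : ∀ z : A, f.rangeRestrict z = 1 ↔ ∃ c : F, (C.phi z.1 : M2) = c • 1 := fun z =>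
    Iff.trans ⟨fun h => congrArg Subtype.val h, fun h => Subtype.ext h⟩ (hψ (C.phi z.1))
  set s := f.rangeRestrict S with hsdef
  set r := f.rangeRestrict y with hrdef
  have hs : s * s = 1 := by
    rw [hsdef, ← map_mul, lift1]
    exact ⟨-1, by rw [Subgroup.coe_mul, map_mul, hSS, neg_one_smul]⟩
  have hs1 : s ≠ 1 := fun h => by obtain ⟨c, hc⟩ := (lift1 S).1 h; exact hSne c hc
  have hr1 : r ≠ 1 := fun h => by obtain ⟨c, hc⟩ := (lift1 y).1 h; exact hyne c hc
  have hr3 : r * r * r = 1 := by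
    rw [hrdef, ← map_mul, ← map_mul, lift1]
    exact ⟨1, by rw [Subgroup.coe_mul, Subgroup.coe_mul, map_mul, map_mul, hyyy, Units.val_one, one_smul]⟩
  have hyinv : r⁻¹ = r * r := inv_eq_of_mul_eq_one_right (by rw [← mul_assoc, hr3])
  have hne : r * s * r⁻¹ ≠ s := fun h => by
    have h' : r * s = s * r := mul_inv_eq_iff_eq_mul.1 h
    have h'' : (r * s) * (s * r)⁻¹ = 1 := by rw [h', mul_inv_cancel]
    rw [hsdef, hrdef, ← map_mul, ← map_mul, ← map_inv, ← map_mul, lift1] at h''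
    obtain ⟨c, hc⟩ := h''
    refine hnc c ?_
    have := congrArg (fun N : M2 => N * ((C.phi S.1 * C.phi y.1 : GL (Fin 2) F) : M2)) hc
    simp only [Subgroup.coe_mul, Subgroup.coe_inv, map_mul, map_inv, ← Units.val_mul,
      inv_mul_cancel_right, Matrix.smul_mul, one_mul] at this
    exact this
  have hcomm : s * (r * s * r⁻¹) = r * s * r⁻¹ * s := by
    rw [hyinv, hsdef, hrdef, ← mul_inv_eq_one]
    simp only [← map_mul, ← map_inv]
    rw [lift1]
    refine ⟨-1, ?_⟩
    simp only [Subgroup.coe_mul, Subgroup.coe_inv, map_mul, map_inv]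
    rw [Units.val_mul, hanti _ _ rfl rfl, Matrix.neg_mul, ← Units.val_mul, mul_inv_cancel, Units.val_one,
      neg_one_smul]
  rcases four_three hsmall hs hs1 hr3 hr1 hne hcomm with hleft | ⟨⟨_, x, rfl⟩, ht⟩
  · intro x hx
    let x₁ : A := ⟨x, hx⟩
    obtain ⟨hcl, hinv, hsq, hcen⟩ := hleft (f.rangeRestrict x₁)
    have hmap : Subgroup.closure ({s, r} : Set f.range) =
        (Subgroup.closure ({S, y} : Set A)).map f.rangeRestrict := by
      rw [MonoidHom.map_closure, Set.image_pair]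
    have hdown : ∀ g ∈ Subgroup.closure ({S, y} : Set A),
        g.1 ∈ Subgroup.closure ({⟨_, C.S_mem⟩, ⟨_, C.y_mem⟩} : Set C.Hgrp) := by
      intro g hg
      have := Subgroup.mem_map_of_mem A.subtype hg
      rwa [MonoidHom.map_closure, Set.image_pair] at this
    rw [hmap] at hcl hinv
    refine ⟨?_, fun hxx => ?_, fun hodd hodd' => ?_⟩
    · obtain ⟨g, hg, hgx⟩ := hcl
      exact ⟨g.1, hdown g hg, (lift1 (x₁ * g⁻¹)).1 (by rw [map_mul, map_inv, hgx, mul_inv_cancel])⟩
    · have hxxA : x₁ * x₁ = 1 := Subtype.ext hxx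
      rcases hinv (by rw [← map_mul, hxxA, map_one]) with h | ⟨_, ⟨g, hg, rfl⟩, h⟩
      · exact Or.inl ((lift1 x₁).1 h)
      · exact Or.inr ⟨g.1, hdown g hg, (lift1 (x₁ * (g * S * g⁻¹)⁻¹)).1 (by
          rw [map_mul, map_inv, map_mul, map_mul, map_inv, ← hsdef, ← h, mul_inv_cancel])⟩
    · have of_sq : ∀ z : A, Odd (orderOf z) → f.rangeRestrict z * f.rangeRestrict z = 1 →
          f.rangeRestrict z = 1 := by
        intro z hz h
        obtain ⟨j, hj⟩ := hz.of_dvd_nat (orderOf_map_dvd f.rangeRestrict z)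
        have := pow_orderOf_eq_one (f.rangeRestrict z)
        rwa [hj, pow_succ, pow_mul, pow_two, h, one_pow, one_mul] at this
      have hco : f.rangeRestrict (x₁ * S * x₁⁻¹ * S⁻¹) =
          f.rangeRestrict x₁ * s * (f.rangeRestrict x₁)⁻¹ * s := by
        rw [map_mul, map_mul, map_mul, map_inv, map_inv, ← hsdef, inv_eq_of_mul_eq_one_right hs]
      have hco1 := of_sq (x₁ * S * x₁⁻¹ * S⁻¹) (by rw [← Subgroup.orderOf_coe]; exact hodd')
        (by rw [hco]; exact hsq)
      rw [hco] at hco1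
      have hcentral : f.rangeRestrict x₁ * s * (f.rangeRestrict x₁)⁻¹ = s :=
        (eq_inv_of_mul_eq_one_left hco1).trans (inv_eq_of_mul_eq_one_right hs)
      exact (lift1 x₁).1 (of_sq x₁ (by rw [← Subgroup.orderOf_coe]; exact hodd) (hcen hcentral))
  · exfalso
    obtain ⟨c, hc⟩ := (lift1 (x * y * x⁻¹ * y)).1 (by
      rw [map_mul, map_mul, map_mul, map_inv, ← hrdef]
      show (⟨f x, _⟩ : f.range) * r * (⟨f x, _⟩ : f.range)⁻¹ * r = 1
      rw [ht, inv_mul_cancel])
    exact hno (sl_mem_of_inverter hp hF hp2 hM x.2 hc)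

/-- Either the special linear group, or the centraliser of the involution is small. -/
theorem central_cases (hp : p.Prime) (hF : Fintype.card F = p) (hp2 : p ≠ 2) {M : Subgroup G3}
    (hM : ContainsN C M) (hno : ¬ ∀ g : G3, (g : M3).det = 1 → g ∈ M) (x : C.Hgrp) (hx : (x : G3) ∈ M) :
    (x : G3) ∈ C.NZ ∧
      ((x : G3) * (x : G3) = 1 → ((x : G3) : M3).trace = -1 → (x : G3) = C.flip) ∧
      (Odd (orderOf (x : G3)) → Odd (orderOf ((x : G3) * C.S * (x : G3)⁻¹ * C.S⁻¹)) →
        ∃ c : Fˣ, (x : G3) = sc c) := by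
  have := Fact.mk hp
  have := charP_of_card hp hF
  have h2 : (2 : F) ≠ 0 := two_ne_zero_of hp2 hp
  have hclM : ∀ g ∈ Subgroup.closure ({⟨_, C.S_mem⟩, ⟨_, C.y_mem⟩} : Set C.Hgrp),
      (g : G3) ∈ C.NZ ⊓ M := by
    intro g hg
    induction hg using Subgroup.closure_induction with
    | mem z hz =>
      rcases hz with rfl | rfl
      · exact ⟨C.S_mem_NZ, hM.S⟩
      · exact ⟨C.y_mem_NZ, hM.y⟩
    | one => exact one_mem _
    | mul a b _ _ ha hb => exact mul_mem ha hb
    | inv a _ ha => exact inv_mem ha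
  obtain ⟨⟨g, hg, c, hc⟩, hinv, hodd⟩ := decomposition hp hF hp2 hM hno x hx
  refine ⟨?_, fun hxx htr => ?_, fun ho ho' => ?_⟩
  · obtain ⟨e, -, he⟩ := scalar_kernel hp hF hp2 hM hno (k := x * g⁻¹)
      (mul_mem hx (inv_mem (hclM g hg).2)) hc
    have hxg : (x : G3) = (↑(x * g⁻¹) : G3) * g := by simp
    rw [hxg]
    refine mul_mem ?_ (hclM g hg).1
    rcases he with he | he <;> rw [he]
    · exact C.sc_mem_NZ _
    · exact mul_mem (C.sc_mem_NZ _) C.flip_mem_NZ
  · have hxx' : x * x = 1 := Subtype.ext hxx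
    rcases hinv hxx' with ⟨c, hc⟩ | ⟨g, hg, c, hc⟩
    · obtain ⟨e, -, he | he⟩ := scalar_kernel hp hF hp2 hM hno hx hc
      · exfalso
        rw [he, Matrix.trace, sum3] at htr
        simp [coe_sc] at htr
        rw [he, ← sc_mul, ← sc_one] at hxx
        have h1 := congrArg (fun u : Fˣ => (u : F)) (sc_inj hxx)
        simp at h1
        exact mul_ne_zero h2 (mul_ne_zero h2 h2) (by linear_combination (3 * (e : F) - 1) * htr - 9 * h1)
      · rw [he]
        rw [he, Matrix.trace, sum3, Units.val_mul] at htr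
        simp [coe_sc, Cube.coe_flip, neg_one_T3, neg_two_T3, one_ne_two_T3, two_ne_one_T3] at htr
        have hc1 : -e = 1 := by simp [htr]
        rw [hc1, sc_one, one_mul]
    · exfalso
      set w : C.Hgrp := g * ⟨_, C.S_mem⟩ * g⁻¹ with hwdef
      have hmuw : (C.mu w : F) = 1 := by
        rw [hwdef, map_mul, map_mul, map_inv, mul_right_comm, mul_inv_cancel, one_mul]; exact C.mu_S
      have hphiw : (C.phi w : M2) * (C.phi w : M2) = -1 := by
        rw [← Units.val_mul, ← map_mul, show w * w = g * (⟨_, C.S_mem⟩ * ⟨_, C.S_mem⟩) * g⁻¹ by rw [hwdef]; group,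
          map_mul, map_mul, map_mul, Units.val_mul, Units.val_mul, (phi_gen_facts (C := C)).1, map_inv,
          Matrix.mul_neg, mul_one, Matrix.neg_mul, Units.mul_inv]
      have hwM : (w : G3) ∈ M := mul_mem (mul_mem (hclM g hg).2 hM.S) (inv_mem (hclM g hg).2)
      set k := x * w⁻¹ with hkdef
      have hxk : x = k * w := by rw [hkdef, inv_mul_cancel_right]
      rw [hxk] at hxx'
      have hphi : c * c = -1 := by
        have := congrArg (fun u => (C.phi u : M2)) hxx'
        rw [map_mul, map_mul, map_one, Units.val_mul, Units.val_mul, hc, Matrix.smul_mul, one_mul,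
          Matrix.smul_mul, Matrix.mul_smul, smul_smul, hphiw, Units.val_one] at this
        have := congrFun (congrFun this 0) 0
        simp at this
        linear_combination -this
      have hmu : (C.mu k : F) * C.mu k = 1 := by
        have := congrArg (fun u => (C.mu u : F)) hxx'
        simpa [hmuw] using this
      obtain ⟨e, hec, he⟩ := scalar_kernel hp hF hp2 hM hno (k := k) (mul_mem hx (inv_mem hwM)) hc
      have : (C.mu k : F) * C.mu k = c * c := by
        rcases he with he | he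
        · rw [show k = ⟨_, C.sc_mem e⟩ from Subtype.ext he, C.mu_sc, hec]
        · rw [show k = ⟨_, C.sc_mem (-e)⟩ * ⟨_, C.flip_mem⟩ from Subtype.ext he, map_mul, Units.val_mul,
            C.mu_sc, C.mu_flip]
          simp [hec]
      rw [hmu, hphi] at this
      exact h2 (by linear_combination this)
  · obtain ⟨c, hc⟩ := hodd (by rwa [← Subgroup.orderOf_coe]) (by rw [← Subgroup.orderOf_coe]; exact ho')
    obtain ⟨e, -, he | he⟩ := scalar_kernel hp hF hp2 hM hno hx hc
    · exact ⟨e, he⟩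
    · exfalso
      have hm := pow_orderOf_eq_one (x : G3)
      have hcom : Commute (sc (-e)) C.flip := sc_comm _ _
      obtain ⟨j, hj⟩ := ho
      rw [hj, he, hcom.mul_pow, sc_pow, pow_succ C.flip, pow_mul C.flip, pow_two C.flip, C.flip_mul_flip, one_pow, one_mul] at hm
      have := congrArg (fun u : G3 => (u : M3) 1 2) hm
      simp [coe_sc, Cube.coe_flip, neg_two_T3, one_ne_two_T3] at this

end Split

end Cfsg.Agent.H1.HeisThree
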