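import Cfsg.Agent.H1.HeisThree.Small

/-!
`GL₂(F)` modulo scalars inside `PSL₂` of the quadratic extension, and unipotent elements of subgroups.
-/

set_option autoImplicit false

namespace Cfsg.Agent.H1.HeisThree

open Matrix

theorem exists_natCast {F : Type*} [Field F] [Fintype F] {p : ℕ} (hp : p.Prime) (hF : Fintype.card F = p)
    (c : F) : ∃ n : ℕ, (n : F) = c := by
  have := Fact.mk hp
  let e := ZMod.ringEquivOfPrime F hp hF
  exact ⟨(e.symm c).val, e.symm.injective (by rw [map_natCast, ZMod.natCast_zmod_val])⟩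

theorem charP_of_card {F : Type*} [Field F] [Fintype F] {p : ℕ} (hp : p.Prime) (hF : Fintype.card F = p) :
    CharP F p := by
  have := Fact.mk hp
  exact (RingHom.charP_iff (ZMod.ringEquivOfPrime F hp hF).symm.toRingHom (RingEquiv.injective _) p).2 inferInstance

section Psi

variable {F : Type*} [Field F] [Fintype F] {p : ℕ} [hp : Fact p.Prime]

theorem exists_proj (hF : Fintype.card F = p) (hp2 : p ≠ 2) :
    ∃ ψ : GL (Fin 2) F →* Matrix.ProjectiveSpecialLinearGroup (Fin 2) (GaloisField p 2),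
      ∀ g, ψ g = 1 ↔ ∃ c : F, (g : Matrix (Fin 2) (Fin 2) F) = c • 1 := by
  classical
  let j : F →+* GaloisField p 2 :=
    (algebraMap (ZMod p) (GaloisField p 2)).comp (ZMod.ringEquivOfPrime F hp.out hF).symm.toRingHom
  have hsq : ∀ a : F, IsSquare (j a) := by
    intro a
    by_cases ha : a = 0
    · rw [ha, map_zero]; exact IsSquare.zero
    have hch : ringChar (GaloisField p 2) ≠ 2 := by rwa [ringChar.eq (GaloisField p 2) p]
    let : Fintype (GaloisField p 2) := Fintype.ofFinite _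
    rw [FiniteField.isSquare_iff hch (by rwa [ne_eq, map_eq_zero_iff j j.injective])]
    have hodd : Odd p := hp.out.odd_of_ne_two hp2
    obtain ⟨k, hk⟩ := hodd
    rw [Fintype.card_eq_nat_card, GaloisField.card p 2 two_ne_zero]
    have : p ^ 2 / 2 = (p - 1) * (k + 1) := by
      subst hk
      rw [show (2 * k + 1) ^ 2 = 2 * ((2 * k + 1 - 1) * (k + 1)) + 1 by
        simp only [add_tsub_cancel_right]; ring]
      omega
    have h1 : a ^ (p - 1) = 1 := by
      have := FiniteField.pow_card_sub_one_eq_one a ha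
      rwa [hF] at this
    rw [this, pow_mul, ← map_pow, h1, map_one, one_pow]
  choose r hr using fun g : GL (Fin 2) F => hsq (g : Matrix (Fin 2) (Fin 2) F).det
  have hr0 : ∀ g, r g ≠ 0 := by
    intro g h
    have := hr g
    rw [h, mul_zero, map_eq_zero_iff j j.injective] at this
    exact (Matrix.GeneralLinearGroup.det g).ne_zero this
  let A : GL (Fin 2) F → Matrix.SpecialLinearGroup (Fin 2) (GaloisField p 2) := fun g =>
    ⟨(r g)⁻¹ • j.mapMatrix (g : Matrix (Fin 2) (Fin 2) F), by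
      rw [Matrix.det_smul, ← RingHom.map_det, hr g, Fintype.card_fin, pow_two]
      field_simp [hr0 g]⟩
  have hA : ∀ g h, (A g * A h)⁻¹ * A (g * h) ∈
      Subgroup.center (Matrix.SpecialLinearGroup (Fin 2) (GaloisField p 2)) := by
    intro g h
    have hs : r (g * h) * r (g * h) = (r g * r h) * (r g * r h) := by
      rw [← hr, Units.val_mul, Matrix.det_mul, map_mul, hr, hr]; ring
    set t := (r (g * h))⁻¹ * (r g * r h) with ht
    have ht2 : t ^ 2 = 1 := by
      rw [ht, mul_pow, inv_pow, pow_two, pow_two, ← hs, inv_mul_cancel₀]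
      exact mul_ne_zero (hr0 _) (hr0 _)
    let Z : Matrix.SpecialLinearGroup (Fin 2) (GaloisField p 2) :=
      ⟨Matrix.scalar (Fin 2) t, by simp [← ht2, pow_two]⟩
    have hZ : Z ∈ Subgroup.center (Matrix.SpecialLinearGroup (Fin 2) (GaloisField p 2)) := by
      rw [Matrix.SpecialLinearGroup.mem_center_iff]
      exact ⟨t, by rw [Fintype.card_fin, ht2], rfl⟩
    have : A (g * h) = A g * A h * Z := by
      apply Subtype.ext
      rw [Matrix.SpecialLinearGroup.coe_mul, Matrix.SpecialLinearGroup.coe_mul]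
      show _ • j.mapMatrix ((g * h : GL (Fin 2) F) : Matrix (Fin 2) (Fin 2) F) =
        (_ • j.mapMatrix _) * (_ • j.mapMatrix _) * Matrix.scalar (Fin 2) t
      rw [Units.val_mul, map_mul, Matrix.smul_mul, Matrix.mul_smul, smul_smul, Matrix.smul_mul,
        ← (Matrix.scalar_commute t (fun _ => Commute.all _ _) _).eq, Matrix.scalar_apply,
        ← Matrix.smul_eq_diagonal_mul, smul_smul, ht]
      congr 1
      have := hr0 g; have := hr0 h; have := hr0 (g * h)
      field_simp
    rwa [this, inv_mul_cancel_left]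
  refine ⟨MonoidHom.mk' (fun g => QuotientGroup.mk (A g)) fun g h =>
    ((QuotientGroup.eq).2 (hA g h)).symm, fun g => ?_⟩
  show (QuotientGroup.mk (A g) : Matrix.ProjectiveSpecialLinearGroup (Fin 2) (GaloisField p 2)) = 1 ↔ _
  rw [QuotientGroup.eq_one_iff, Matrix.SpecialLinearGroup.mem_center_iff]
  constructor
  · rintro ⟨s, -, hs⟩
    refine ⟨(g : Matrix (Fin 2) (Fin 2) F) 0 0, ?_⟩
    have key : ∀ i k, (r g)⁻¹ * j ((g : Matrix (Fin 2) (Fin 2) F) i k) = if i = k then s else 0 := by
      intro i k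
      have := congrFun (congrFun hs i) k
      simp only [Matrix.scalar_apply, Matrix.diagonal_apply, A, Matrix.smul_apply,
        RingHom.mapMatrix_apply, Matrix.map_apply, smul_eq_mul] at this
      exact this.symm
    ext i k
    rw [Matrix.smul_apply, Matrix.one_apply, smul_eq_mul, mul_ite, mul_one, mul_zero]
    apply j.injective
    apply mul_left_cancel₀ (inv_ne_zero (hr0 g))
    rw [key i k]
    split_ifs with h
    · rw [key 0 0, if_pos rfl]
    · rw [map_zero, mul_zero]
  · rintro ⟨c, hc⟩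
    refine ⟨(r g)⁻¹ * j c, ?_, ?_⟩
    · have h := hr g
      rw [hc, Matrix.det_smul, Matrix.det_one, Fintype.card_fin, mul_one, map_pow] at h
      rw [Fintype.card_fin, mul_pow, h, inv_pow, pow_two, inv_mul_cancel₀]
      exact mul_ne_zero (hr0 g) (hr0 g)
    · ext i k
      simp [A, hc, Matrix.one_apply, Matrix.diagonal_apply, apply_ite j]

end Psi

section Low

variable {F : Type*} [Field F] [Fintype F] {p : ℕ}

local notation "M2" => Matrix (Fin 2) (Fin 2) F
local notation "G2" => GL (Fin 2) F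

omit [Fintype F] in
theorem coe_pow_one_add {κ : Type*} [Fintype κ] [DecidableEq κ] {U : GL κ F} {N : Matrix κ κ F}
    (hU : (U : Matrix κ κ F) = 1 + N) (hN : N * N = 0) (n : ℕ) :
    ((U ^ n : GL κ F) : Matrix κ κ F) = 1 + (n : F) • N := by
  induction n with
  | zero => simp
  | succ n ih =>
    rw [pow_succ, Units.val_mul, ih, hU, Matrix.add_mul, Matrix.mul_add, Matrix.mul_add, one_mul,
      one_mul, mul_one, Matrix.smul_mul, hN, smul_zero, add_zero, Nat.cast_succ, add_smul, one_smul]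
    abel

/-- A unipotent element and one moving its fixed line give a lower elementary element. -/
theorem exists_low (hp : p.Prime) (hF : Fintype.card F = p) {G : Subgroup G2} {U g : G2} (hU : U ∈ G)
    (hg : g ∈ G) {N : M2} (hUN : (U : M2) = 1 + N) (hN : N * N = 0) {v : Fin 2 → F} (hv : N *ᵥ v = 0)
    (hgv : N *ᵥ ((↑(g⁻¹) : M2) *ᵥ v) ≠ 0) :
    ∃ t : F, t ≠ 0 ∧ ∃ x ∈ G, (x : M2) = !![1, 0; t, 1] := by
  have conjN : ∀ h : G2, ((h * U * h⁻¹ : G2) : M2) = 1 + (h : M2) * N * (↑(h⁻¹) : M2) ∧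
      ((h : M2) * N * (↑(h⁻¹) : M2)) * ((h : M2) * N * (↑(h⁻¹) : M2)) = 0 := by
    intro h
    refine ⟨by rw [Units.val_mul, Units.val_mul, hUN, Matrix.mul_add, Matrix.add_mul, mul_one, Units.mul_inv], ?_⟩
    rw [show (h : M2) * N * (↑(h⁻¹) : M2) * ((h : M2) * N * (↑(h⁻¹) : M2))
      = (h : M2) * (N * ((↑(h⁻¹) : M2) * (h : M2)) * N) * (↑(h⁻¹) : M2) by simp only [Matrix.mul_assoc],
      Units.inv_mul, mul_one, hN, Matrix.mul_zero, Matrix.zero_mul]
  -- a nilpotent matrix killing the second basis vector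
  have fin : ∀ (x : G2) (N' : M2) (w : Fin 2 → F), x ∈ G → (x : M2) = 1 + N' → N' * N' = 0 → N' ≠ 0 →
      N' *ᵥ w = 0 → w 0 = 0 → w ≠ 0 → ∃ t : F, t ≠ 0 ∧ ∃ x ∈ G, (x : M2) = !![1, 0; t, 1] := by
    intro x N' w hx hxN hN' hne hw hw0 hwne
    have hw1 : w 1 ≠ 0 := fun h => hwne (by ext i; fin_cases i <;> assumption)
    have h01 : N' 0 1 = 0 := by
      have := congrFun hw 0
      simp [Matrix.mulVec, dotProduct, Fin.sum_univ_two, hw0, hw1] at this
      exact this
    have h11 : N' 1 1 = 0 := by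
      have := congrFun hw 1
      simp [Matrix.mulVec, dotProduct, Fin.sum_univ_two, hw0, hw1] at this
      exact this
    have h00 : N' 0 0 = 0 := by
      have := congrFun (congrFun hN' 0) 0
      simp [Matrix.mul_apply, Fin.sum_univ_two, h01] at this
      exact this
    refine ⟨N' 1 0, fun h => hne (by ext i k; fin_cases i <;> fin_cases k <;> assumption), x, hx, ?_⟩
    rw [hxN]
    ext i k
    fin_cases i <;> fin_cases k <;> simp [h00, h01, h11]
  set N₁ := (g : M2) * N * (↑(g⁻¹) : M2) with hN₁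
  obtain ⟨hm, hm2⟩ := conjN g
  have hv1 : N₁ *ᵥ v ≠ 0 := fun h => hgv (by
    have := congrArg (fun w => (↑(g⁻¹) : M2) *ᵥ w) h
    simp only [hN₁, Matrix.mulVec_mulVec, Matrix.mulVec_zero] at this
    rw [← Matrix.mul_assoc, ← Matrix.mul_assoc, Units.inv_mul, one_mul, ← Matrix.mulVec_mulVec] at this
    exact this)
  have hN₁ne : N₁ ≠ 0 := fun h => hv1 (by rw [h, Matrix.zero_mulVec])
  have hvne : v ≠ 0 := fun h => hv1 (by rw [h, Matrix.mulVec_zero])
  have hmG : g * U * g⁻¹ ∈ G := mul_mem (mul_mem hg hU) (inv_mem hg)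
  by_cases ha : (N₁ *ᵥ v) 0 = 0
  · exact fin _ _ _ hmG hm hm2 hN₁ne (by rw [Matrix.mulVec_mulVec, hm2, Matrix.zero_mulVec]) ha hv1
  obtain ⟨s, hs⟩ := exists_natCast hp hF (-v 0 / (N₁ *ᵥ v) 0)
  set h := (g * U * g⁻¹) ^ s with hh
  obtain ⟨hx, hx2⟩ := conjN h
  refine fin _ _ ((h : M2) *ᵥ v) (mul_mem (mul_mem (pow_mem hmG _) hU) (inv_mem (pow_mem hmG _))) hx hx2
    (fun e => ?_) ?_ ?_ (fun e => hvne ?_)
  · have hN0 : N = 0 := by
      calc N = (↑(h⁻¹) : M2) * ((h : M2) * N * (↑(h⁻¹) : M2)) * (h : M2) := by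
            simp only [Matrix.mul_assoc, Units.inv_mul, mul_one]
            rw [← Matrix.mul_assoc, Units.inv_mul, one_mul]
        _ = 0 := by rw [e, Matrix.mul_zero, Matrix.zero_mul]
    exact hN₁ne (by rw [hN₁, hN0, Matrix.mul_zero, Matrix.zero_mul])
  · rw [Matrix.mulVec_mulVec, Matrix.mul_assoc, Units.inv_mul, mul_one, ← Matrix.mulVec_mulVec, hv,
      Matrix.mulVec_zero]
  · rw [hh, coe_pow_one_add hm hm2, hs, Matrix.add_mulVec, Matrix.one_mulVec, Matrix.smul_mulVec]
    simp only [Pi.add_apply, Pi.smul_apply, smul_eq_mul]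
    field_simp
    ring
  · have := congrArg (fun w => (↑(h⁻¹) : M2) *ᵥ w) e
    rwa [Matrix.mulVec_mulVec, Units.inv_mul, Matrix.one_mulVec, Matrix.mulVec_zero] at this

/-- An element of order a power of `p` modulo scalars gives a lower elementary element. -/
theorem exists_low_of_dvd (hp : p.Prime) (hF : Fintype.card F = p) {G : Subgroup G2} {D S : G2}
    (hD : D ∈ G) (hS : S ∈ G) {a b : F} (hDd : (D : M2) = !![a, 0; 0, b]) (hab : a ≠ b)
    (h01 : (S : M2) 0 1 ≠ 0) (h10 : (S : M2) 1 0 ≠ 0) {g : G2} (hg : g ∈ G)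
    (hgp : ∃ c : F, ((g ^ p : G2) : M2) = c • 1) (hgs : ¬ ∃ c : F, (g : M2) = c • 1) :
    ∃ t : F, t ≠ 0 ∧ ∃ x ∈ G, (x : M2) = !![1, 0; t, 1] := by
  classical
  have := charP_of_card hp hF
  have := Fact.mk hp
  obtain ⟨c, hc⟩ := hgp
  set U := g ^ (p - 1) with hUdef
  have hc0 : c ≠ 0 := fun h => (g ^ p).ne_zero (by rw [hc, h, zero_smul])
  have hUp : (U : M2) ^ p = 1 := by
    have h1 : c ^ (p - 1) = 1 := by
      have := FiniteField.pow_card_sub_one_eq_one c hc0
      rwa [hF] at this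
    rw [← Units.val_pow_eq_pow_val, hUdef, ← pow_mul, mul_comm, pow_mul, Units.val_pow_eq_pow_val, hc,
      smul_pow, one_pow, h1, one_smul]
  set N := (U : M2) - 1 with hNdef
  have hUN : (U : M2) = 1 + N := by rw [hNdef, add_sub_cancel]
  have hNnil : IsNilpotent N := ⟨p, by rw [hNdef, sub_pow_char_of_commute _ (Commute.one_right _), hUp, one_pow, sub_self]⟩
  have hdet0 : N.det = 0 := by
    obtain ⟨n, hn⟩ := hNnil
    have := congrArg Matrix.det hn
    rw [Matrix.det_pow, Matrix.det_zero] at this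
    exact eq_zero_of_pow_eq_zero this
  have hN2 : N * N = 0 := by
    obtain ⟨htr, hdet⟩ : N 0 0 + N 1 1 = 0 ∧ N.det = 0 := by
      refine ⟨?_, ?_⟩
      · have := (Matrix.isNilpotent_trace_of_isNilpotent hNnil).eq_zero
        rwa [Matrix.trace_fin_two] at this
      · exact hdet0
    rw [Matrix.det_fin_two] at hdet
    have h1 : N 1 1 = -N 0 0 := by linear_combination htr
    ext i k
    fin_cases i <;> fin_cases k <;> simp [Matrix.mul_apply, Fin.sum_univ_two] <;>
      first | linear_combination -hdet + N 0 0 * htr | linear_combination N 0 1 * htr | linear_combination N 1 0 * htr | linear_combination -hdet + N 1 1 * htr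
  have hN0 : N ≠ 0 := by
    intro h
    apply hgs
    refine ⟨c, ?_⟩
    have hU1 : (U : M2) = 1 := by rw [hUN, h, add_zero]
    calc (g : M2) = (g : M2) * (U : M2) := by rw [hU1, mul_one]
      _ = c • 1 := by
        rw [hUdef, ← Units.val_mul, ← pow_succ', Nat.sub_add_cancel hp.one_le, hc]
  obtain ⟨v, hvne, hv⟩ : ∃ v : Fin 2 → F, v ≠ 0 ∧ N *ᵥ v = 0 := by
    rw [Matrix.exists_mulVec_eq_zero_iff]
    exact hdet0
  by_contra hcon
  have key : ∀ x ∈ G, ∃ d : F, (↑(x⁻¹) : M2) *ᵥ v = d • v := by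
    intro x hx
    have h := by_contra fun hh => hcon (exists_low hp hF (pow_mem hg _) hx hUN hN2 hv hh)
    set u := (↑(x⁻¹) : M2) *ᵥ v with hu
    by_contra hd
    push Not at hd
    have hdet : v 0 * u 1 - v 1 * u 0 ≠ 0 := by
      intro h0
      by_cases hv0 : v 0 = 0
      · have hv1 : v 1 ≠ 0 := fun h => hvne (by ext i; fin_cases i <;> assumption)
        refine hd (u 1 / v 1) ?_
        ext i; fin_cases i
        · simp only [Pi.smul_apply, hv0, smul_eq_mul, mul_zero, Fin.zero_eta]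
          have : v 1 * u 0 = 0 := by linear_combination u 1 * hv0 - h0
          exact (mul_eq_zero.1 this).resolve_left hv1
        · simp [hv1]
      · refine hd (u 0 / v 0) ?_
        ext i; fin_cases i
        · simp [hv0]
        · simp only [Pi.smul_apply, smul_eq_mul, Fin.mk_one]
          field_simp
          linear_combination h0
    apply hN0
    have e : ∀ i, N i 0 * v 0 + N i 1 * v 1 = 0 ∧ N i 0 * u 0 + N i 1 * u 1 = 0 := fun i => by
      constructor
      · simpa [Matrix.mulVec, dotProduct, Fin.sum_univ_two] using congrFun hv i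
      · simpa [Matrix.mulVec, dotProduct, Fin.sum_univ_two] using congrFun h i
    ext i k
    obtain ⟨e1, e2⟩ := e i
    have a0 : N i 0 * (v 0 * u 1 - v 1 * u 0) = 0 := by linear_combination u 1 * e1 - v 1 * e2
    have a1 : N i 1 * (v 0 * u 1 - v 1 * u 0) = 0 := by linear_combination v 0 * e2 - u 0 * e1
    fin_cases k
    · exact (mul_eq_zero.1 a0).resolve_right hdet
    · exact (mul_eq_zero.1 a1).resolve_right hdet
  obtain ⟨d, hd⟩ := key D⁻¹ (inv_mem hD)
  obtain ⟨e, he⟩ := key S⁻¹ (inv_mem hS)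
  rw [inv_inv] at hd he
  have d0 := congrFun hd 0
  have d1 := congrFun hd 1
  have s0 := congrFun he 0
  have s1 := congrFun he 1
  rw [hDd] at d0 d1
  simp [Matrix.mulVec, dotProduct, Fin.sum_univ_two] at d0 d1 s0 s1
  by_cases hv0 : v 0 = 0
  · have hv1 : v 1 ≠ 0 := fun h => hvne (by ext i; fin_cases i <;> assumption)
    rw [hv0] at s0
    simp [hv1, h01] at s0
  · have hv1 : v 1 = 0 := by
      rcases d1 with h | h
      · rcases d0 with h' | h'
        · exact absurd (h'.trans h.symm) hab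
        · exact absurd h' hv0
      · exact h
    rw [hv1] at s1
    simp [hv0, h10] at s1

end Low

end Cfsg.Agent.H1.HeisThree
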