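import Cfsg.Agent.H1.HeisThree.Model
import Cfsg.Agent.H1.HeisThree.Proj
import Cfsg.Agent.Linear.Generation

/-!
The centraliser of the involution in three dimensions, and transvections in subgroups containing
the Heisenberg group.
-/

set_option autoImplicit false

namespace Cfsg.Agent.H1.HeisThree

open Matrix

variable {F : Type*} [Field F]

local notation "T3" => ZMod 3
local notation "V" => ZMod 3 × ZMod 3
local notation "M3" => Matrix (ZMod 3) (ZMod 3) F
local notation "G3" => GL (ZMod 3) F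

theorem neg_one_T3 : -(1 : T3) = 2 := rfl
theorem neg_two_T3 : -(2 : T3) = 1 := rfl
theorem one_ne_two_T3 : (1 : T3) ≠ 2 := by decide
theorem two_ne_one_T3 : (2 : T3) ≠ 1 := by decide
theorem zero_ne_two_T3 : (0 : T3) ≠ 2 := by decide
theorem two_ne_zero_T3 : (2 : T3) ≠ 0 := by decide

namespace Cube

variable (C : Cube F)

/-- The centraliser of the involution. -/
def Hgrp : Subgroup G3 := Subgroup.centralizer {C.flip}

theorem mem_Hgrp_iff {g : G3} : g ∈ C.Hgrp ↔ ∀ i j, (g : M3) (-i) (-j) = (g : M3) i j := by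
  rw [Hgrp, Subgroup.mem_centralizer_singleton_iff, Units.ext_iff, ← Matrix.ext_iff]
  have key : ∀ i j : T3, ((g * C.flip : G3) : M3) i j = -(g : M3) i (-j) ∧
      ((C.flip * g : G3) : M3) i j = -(g : M3) (-i) j := by
    intro i j
    constructor
    · rw [Units.val_mul, Matrix.mul_apply, Finset.sum_eq_single (-j)]
      · simp [coe_flip]
      · intro k _ hk; simp [coe_flip, hk]
      · simp
    · rw [Units.val_mul, Matrix.mul_apply, Finset.sum_eq_single (-i)]
      · simp [coe_flip]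
      · intro k _ hk
        have : i ≠ -k := fun e => hk (by rw [e, neg_neg])
        simp [coe_flip, this]
      · simp
  constructor
  · intro h i j
    have := h i (-j)
    rw [(key i (-j)).1, (key i (-j)).2, neg_inj, neg_neg] at this
    exact this.symm
  · intro h i j
    rw [(key i j).1, (key i j).2, ← h i (-j), neg_neg]

/-- The action on the symmetric vectors. -/
def phiMat (g : G3) : Matrix (Fin 2) (Fin 2) F :=
  !![(g : M3) 0 0, 2 * (g : M3) 0 1; (g : M3) 1 0, (g : M3) 1 1 + (g : M3) 1 2]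

/-- The action on the antisymmetric vectors. -/
def muVal (g : G3) : F := (g : M3) 1 1 - (g : M3) 1 2

theorem sym_facts {g : G3} (h : g ∈ C.Hgrp) :
    (g : M3) 0 2 = (g : M3) 0 1 ∧ (g : M3) 2 0 = (g : M3) 1 0 ∧
      (g : M3) 2 1 = (g : M3) 1 2 ∧ (g : M3) 2 2 = (g : M3) 1 1 := by
  have := C.mem_Hgrp_iff.1 h
  refine ⟨?_, ?_, ?_, ?_⟩
  · simpa [neg_one_T3] using this 0 1
  · simpa [neg_one_T3] using this 1 0
  · simpa [neg_one_T3, neg_two_T3] using this 1 2
  · simpa [neg_one_T3] using this 1 1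

theorem phiMat_mul (g h : C.Hgrp) : phiMat ((g * h : C.Hgrp) : G3) = phiMat (g : G3) * phiMat (h : G3) := by
  obtain ⟨a1, a2, a3, a4⟩ := C.sym_facts g.2
  obtain ⟨b1, b2, b3, b4⟩ := C.sym_facts h.2
  ext i j
  fin_cases i <;> fin_cases j <;>
    simp [phiMat, Matrix.mul_apply, Fin.sum_univ_two, sum3, a1, b1, b2, b3, b4] <;> ring

theorem muVal_mul (g h : C.Hgrp) : muVal ((g * h : C.Hgrp) : G3) = muVal (g : G3) * muVal (h : G3) := by
  obtain ⟨a1, a2, a3, a4⟩ := C.sym_facts g.2
  obtain ⟨b1, b2, b3, b4⟩ := C.sym_facts h.2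
  simp [muVal, Matrix.mul_apply, sum3, b1, b3, b4]
  ring

theorem phiMat_one : phiMat (1 : G3) = 1 := by
  ext i j
  fin_cases i <;> fin_cases j <;> simp [phiMat, one_ne_two_T3]

theorem muVal_one : muVal (1 : G3) = 1 := by simp [muVal, one_ne_two_T3]

/-- The action of the centraliser on the symmetric vectors. -/
def phi : C.Hgrp →* GL (Fin 2) F :=
  MonoidHom.toHomUnits
    { toFun := fun g => phiMat (g : G3)
      map_one' := phiMat_one
      map_mul' := C.phiMat_mul }

/-- The action of the centraliser on the antisymmetric vectors. -/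
def mu : C.Hgrp →* Fˣ :=
  MonoidHom.toHomUnits
    { toFun := fun g => muVal (g : G3)
      map_one' := muVal_one
      map_mul' := C.muVal_mul }

theorem coe_phi (g : C.Hgrp) : (C.phi g : Matrix (Fin 2) (Fin 2) F) = phiMat (g : G3) := rfl

theorem coe_mu (g : C.Hgrp) : (C.mu g : F) = muVal (g : G3) := rfl

theorem ext_H (h2 : (2 : F) ≠ 0) {g h : C.Hgrp}
    (h1 : (C.phi g : Matrix (Fin 2) (Fin 2) F) = C.phi h) (hm : (C.mu g : F) = C.mu h) : g = h := by
  obtain ⟨a1, a2, a3, a4⟩ := C.sym_facts g.2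
  obtain ⟨b1, b2, b3, b4⟩ := C.sym_facts h.2
  rw [coe_phi, coe_phi, ← Matrix.ext_iff] at h1
  rw [coe_mu, coe_mu] at hm
  have e00 := h1 0 0
  have e01 := h1 0 1
  have e10 := h1 1 0
  have e11 := h1 1 1
  simp [phiMat, muVal] at e00 e01 e10 e11 hm
  have f01 := e01.resolve_right h2
  have f11 : ((g : G3) : M3) 1 1 = ((h : G3) : M3) 1 1 := mul_left_cancel₀ h2 (by linear_combination e11 + hm)
  have f12 : ((g : G3) : M3) 1 2 = ((h : G3) : M3) 1 2 := mul_left_cancel₀ h2 (by linear_combination e11 - hm)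
  apply Subtype.ext
  apply Units.ext
  ext i j
  obtain rfl | rfl | rfl : i = 0 ∨ i = 1 ∨ i = 2 := by revert i; decide
  all_goals obtain rfl | rfl | rfl : j = 0 ∨ j = 1 ∨ j = 2 := by revert j; decide
  all_goals simp [a1, a2, a3, a4, b1, b2, b3, b4, e00, f01, e10, f11, f12]

theorem trace_eq (g : C.Hgrp) :
    ((g : G3) : M3).trace = (C.phi g : Matrix (Fin 2) (Fin 2) F).trace + C.mu g := by
  obtain ⟨a1, a2, a3, a4⟩ := C.sym_facts g.2
  rw [Matrix.trace, sum3, coe_phi, coe_mu, Matrix.trace_fin_two]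
  simp [phiMat, muVal, a4]
  ring

theorem flip_mem : C.flip ∈ C.Hgrp := Subgroup.mem_centralizer_singleton_iff.2 rfl

theorem sc_mem (c : Fˣ) : sc c ∈ C.Hgrp := Subgroup.mem_centralizer_singleton_iff.2 (sc_comm c _)

theorem S_mem : C.S ∈ C.Hgrp :=
  Subgroup.mem_centralizer_singleton_iff.2 (by rw [← C.S_mul_S]; group)

theorem y_mem : C.y ∈ C.Hgrp := C.mem_Hgrp_iff.2 fun i j => by
  simp [y, Matrix.diagonal_apply]

theorem phi_flip : (C.phi ⟨_, C.flip_mem⟩ : Matrix (Fin 2) (Fin 2) F) = -1 := by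
  ext i j
  fin_cases i <;> fin_cases j <;>
    simp [coe_phi, phiMat, coe_flip, neg_one_T3, neg_two_T3, one_ne_two_T3, zero_ne_two_T3]

theorem mu_flip : (C.mu ⟨_, C.flip_mem⟩ : F) = 1 := by
  simp [coe_mu, muVal, coe_flip, neg_one_T3, neg_two_T3, one_ne_two_T3]

theorem phi_sc (c : Fˣ) : (C.phi ⟨_, C.sc_mem c⟩ : Matrix (Fin 2) (Fin 2) F) = (c : F) • 1 := by
  ext i j
  fin_cases i <;> fin_cases j <;> simp [coe_phi, phiMat, coe_sc, one_ne_two_T3]

theorem mu_sc (c : Fˣ) : (C.mu ⟨_, C.sc_mem c⟩ : F) = c := by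
  simp [coe_mu, muVal, coe_sc, one_ne_two_T3]

theorem phi_S : (C.phi ⟨_, C.S_mem⟩ : Matrix (Fin 2) (Fin 2) F) = C.s • !![1, 2; 1, -1] := by
  ext i j
  fin_cases i <;> fin_cases j <;>
    simp [coe_phi, phiMat, coe_S, show (1 : T3) * 1 = 1 from rfl, show (1 : T3) * 2 = 2 from rfl,
      ch_zero, ch_one, ch_two]
  · ring
  · linear_combination C.s * C.sq_add

theorem mu_S : (C.mu ⟨_, C.S_mem⟩ : F) = 1 := by
  simp [coe_mu, muVal, coe_S, show (1 : T3) * 1 = 1 from rfl, show (1 : T3) * 2 = 2 from rfl, ch_one, ch_two, s]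
  field_simp [C.root_ne_zero]
  linear_combination -C.sq_add

theorem phi_y : (C.phi ⟨_, C.y_mem⟩ : Matrix (Fin 2) (Fin 2) F) = !![1, 0; 0, C.ω] := by
  ext i j
  fin_cases i <;> fin_cases j <;>
    simp [coe_phi, phiMat, y, ch_zero, ch_one, one_ne_two_T3]

theorem mu_y : (C.mu ⟨_, C.y_mem⟩ : F) = C.ω := by
  simp [coe_mu, muVal, y, ch_one, one_ne_two_T3]

end Cube

section Transvection

variable [Fintype F] {p : ℕ} (C : Cube F)

omit [Fintype F] in
theorem coe_pow_transvection {x : G3} {i j : T3} (hij : i ≠ j) {t : F}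
    (hx : (x : M3) = Matrix.transvection i j t) (n : ℕ) :
    ((x ^ n : G3) : M3) = Matrix.transvection i j (n * t) := by
  induction n with
  | zero => simp
  | succ n ih =>
    rw [pow_succ, Units.val_mul, ih, hx, Matrix.transvection_mul_transvection_same i j hij]
    push_cast
    ring_nf

omit [Fintype F] in
theorem W_shift_conj {x : G3} {i j : T3} {t : F} (hx : (x : M3) = Matrix.transvection i j t) :
    ((C.W (1, 0) * x * (C.W (1, 0))⁻¹ : G3) : M3) = Matrix.transvection (i + 1) (j + 1) t := by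
  have key : C.wMat (1, 0) * Matrix.transvection i j t =
      Matrix.transvection (i + 1) (j + 1) t * C.wMat (1, 0) := by
    ext a b
    rw [Matrix.mul_apply, Matrix.mul_apply, Finset.sum_eq_single (a - 1), Finset.sum_eq_single (b + 1)]
    · simp [Cube.wMat_apply, Cube.ch_zero, Matrix.transvection, Matrix.single_apply, Matrix.one_apply,
        eq_sub_iff_add_eq, sub_eq_iff_eq_add]
    · intro k _ hk
      simp [Cube.wMat_apply, hk]
    · simp
    · intro k _ hk
      have : a ≠ k + 1 := fun e => hk (by rw [e, add_sub_cancel_right])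
      simp [Cube.wMat_apply, this]
    · simp
  rw [Units.val_mul, Units.val_mul, Cube.coe_W, hx, key, ← Cube.coe_W, Matrix.mul_assoc, Units.mul_inv, mul_one]

theorem sl_mem_of_seeds (hp : p.Prime) (hF : Fintype.card F = p) {M : Subgroup G3}
    (hX : C.W (1, 0) ∈ M) {t t' : F} (ht : t ≠ 0) (ht' : t' ≠ 0) {i i' : T3} {x x' : G3} (hx : x ∈ M)
    (hx' : x' ∈ M) (h : (x : M3) = Matrix.transvection (i + 1) i t)
    (h' : (x' : M3) = Matrix.transvection i' (i' + 1) t') :
    ∀ g : G3, (g : M3).det = 1 → g ∈ M := by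
  have all : ∀ (a b : T3) (t : F), t ≠ 0 → a ≠ b → ∀ x ∈ M, (x : M3) = Matrix.transvection a b t →
      ∀ (k : T3) (c : F), ∃ y ∈ M, (y : M3) = Matrix.transvection (a + k) (b + k) c := by
    intro a b t ht hab x hx h k c
    obtain ⟨n, hn⟩ := exists_natCast hp hF (c / t)
    have h0 : ((x ^ n : G3) : M3) = Matrix.transvection a b c := by
      rw [coe_pow_transvection hab h, hn, div_mul_cancel₀ c ht]
    obtain rfl | rfl | rfl : k = 0 ∨ k = 1 ∨ k = 2 := by revert k; decide
    · exact ⟨_, pow_mem hx n, by rw [h0, add_zero, add_zero]⟩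
    · exact ⟨_, mul_mem (mul_mem hX (pow_mem hx n)) (inv_mem hX), W_shift_conj C h0⟩
    · refine ⟨_, mul_mem (mul_mem hX (mul_mem (mul_mem hX (pow_mem hx n)) (inv_mem hX))) (inv_mem hX), ?_⟩
      rw [W_shift_conj C (W_shift_conj C h0), show a + 2 = a + 1 + 1 by rw [add_assoc]; rfl,
        show b + 2 = b + 1 + 1 by rw [add_assoc]; rfl]
  have hne : ∀ a : T3, a + 1 ≠ a := by decide
  have key : ∀ (a b : T3), a ≠ b → ∀ c : F, ∃ y ∈ M, (y : M3) = Matrix.transvection a b c := by
    intro a b hab c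
    have : a = b + 1 ∨ b = a + 1 := by revert a b; decide
    rcases this with rfl | rfl
    · obtain ⟨y, hy, e⟩ := all _ _ t ht (hne i) x hx h (b - i) c
      exact ⟨y, hy, by rw [e]; congr 1 <;> ring⟩
    · obtain ⟨y, hy, e⟩ := all _ _ t' ht' (hne i').symm x' hx' h' (a - i') c
      exact ⟨y, hy, by rw [e]; congr 1 <;> ring⟩
  intro g hg
  have htop : Subgroup.comap Matrix.SpecialLinearGroup.toGL M = ⊤ :=
    Cfsg.Agent.Linear.eq_top_of_transvection_mem fun a b hab c => by
      obtain ⟨y, hy, e⟩ := key a b hab c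
      rw [Subgroup.mem_comap]
      convert hy using 1
      apply Units.ext
      rw [e]
      simp [Matrix.SpecialLinearGroup.transvection_coe, Matrix.transvection]
  let g' : Matrix.SpecialLinearGroup T3 F := ⟨(g : M3), hg⟩
  have hmem : g' ∈ Subgroup.comap Matrix.SpecialLinearGroup.toGL M := htop ▸ Subgroup.mem_top g'
  rw [Subgroup.mem_comap] at hmem
  convert hmem using 1
  exact Units.ext rfl

/-- A unipotent element acting trivially on the antisymmetric vector gives the special linear group. -/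
theorem sl_mem_of_root (hp : p.Prime) (hF : Fintype.card F = p) {M : Subgroup G3}
    (hW : ∀ v, C.W v ∈ M) {u : C.Hgrp} (hu : (u : G3) ∈ M) {t : F} (ht : t ≠ 0)
    (hphi : (C.phi u : Matrix (Fin 2) (Fin 2) F) = !![1, 0; t, 1]) (hmu : (C.mu u : F) = 1)
    (h2 : (2 : F) ≠ 0) :
    ∀ g : G3, (g : M3).det = 1 → g ∈ M := by
  have hu' : ((u : G3) : M3) = 1 + Matrix.single 1 0 t + Matrix.single 2 0 t := by
    obtain ⟨a1, a2, a3, a4⟩ := C.sym_facts u.2
    rw [Cube.coe_phi, ← Matrix.ext_iff] at hphi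
    rw [Cube.coe_mu] at hmu
    have e00 := hphi 0 0
    have e01 := hphi 0 1
    have e10 := hphi 1 0
    have e11 := hphi 1 1
    simp [Cube.phiMat, Cube.muVal] at e00 e01 e10 e11 hmu
    have f01 := e01.resolve_left h2
    have f11 : ((u : G3) : M3) 1 1 = 1 := mul_left_cancel₀ h2 (by linear_combination e11 + hmu)
    have f12 : ((u : G3) : M3) 1 2 = 0 := mul_left_cancel₀ h2 (by linear_combination e11 - hmu)
    ext i j
    obtain rfl | rfl | rfl : i = 0 ∨ i = 1 ∨ i = 2 := by revert i; decide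
    all_goals obtain rfl | rfl | rfl : j = 0 ∨ j = 1 ∨ j = 2 := by revert j; decide
    all_goals simp [a1, a2, a3, a4, e00, f01, e10, f11, f12, Matrix.one_apply, Matrix.single_apply,
      one_ne_two_T3, two_ne_one_T3, zero_ne_two_T3,
      two_ne_zero_T3]
  -- the group of root elements
  set R : F → F → M3 := fun a b => 1 + Matrix.single 1 0 a + Matrix.single 2 0 b with hR
  have hmul : ∀ a b a' b', R a b * R a' b' = R (a + a') (b + b') := by
    intro a b a' b'
    simp only [hR, Matrix.add_mul, Matrix.mul_add, one_mul, mul_one, Matrix.single_add,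
      Matrix.single_mul_single_of_ne _ _ _ _ (show (0 : T3) ≠ 1 by decide),
      Matrix.single_mul_single_of_ne _ _ _ _ (show (0 : T3) ≠ 2 by decide)]
    abel
  have hpow : ∀ (x : G3) (a b : F), (x : M3) = R a b → ∀ n : ℕ, ((x ^ n : G3) : M3) = R (n * a) (n * b) := by
    intro x a b hx n
    induction n with
    | zero => simp [hR]
    | succ n ih => rw [pow_succ, Units.val_mul, ih, hx, hmul]; push_cast; ring_nf
  have hZ : ((C.W (0, 1) * (u : G3) * (C.W (0, 1))⁻¹ : G3) : M3) = R (C.ω * t) (C.ω ^ 2 * t) := by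
    have key : C.wMat (0, 1) * R t t = R (C.ω * t) (C.ω ^ 2 * t) * C.wMat (0, 1) := by
      have hd : C.wMat (0, 1) = Matrix.diagonal C.ch := by
        ext a b
        by_cases h : a = b <;> simp [Cube.wMat_apply, h]
      rw [hd]
      ext a b
      rw [Matrix.diagonal_mul, Matrix.mul_diagonal]
      obtain rfl | rfl | rfl : a = 0 ∨ a = 1 ∨ a = 2 := by revert a; decide
      all_goals obtain rfl | rfl | rfl : b = 0 ∨ b = 1 ∨ b = 2 := by revert b; decide
      all_goals simp [hR, Matrix.one_apply, Matrix.single_apply, Cube.ch_zero, Cube.ch_one, Cube.ch_two,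
        one_ne_two_T3, two_ne_one_T3, zero_ne_two_T3,
        two_ne_zero_T3]
    rw [Units.val_mul, Units.val_mul, Cube.coe_W, hu', key, ← Cube.coe_W, Matrix.mul_assoc, Units.mul_inv, mul_one]
  have hne : C.ω - C.ω ^ 2 ≠ 0 := fun h => C.root_ne_zero (by linear_combination h + C.sq_add)
  obtain ⟨n, hn⟩ := exists_natCast hp hF (-C.ω ^ 2)
  obtain ⟨m, hm⟩ := exists_natCast hp hF (-C.ω)
  have hZm := mul_mem (mul_mem (hW (0, 1)) hu) (inv_mem (hW (0, 1)))
  refine sl_mem_of_seeds C hp hF (hW (1, 0)) (t := (C.ω - C.ω ^ 2) * t) (t' := (C.ω ^ 2 - C.ω) * t)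
    (mul_ne_zero hne ht) (mul_ne_zero (fun h => hne (by linear_combination -h)) ht) (i := 0) (i' := 2)
    (mul_mem hZm (pow_mem hu n)) (mul_mem hZm (pow_mem hu m)) ?_ ?_
  · rw [Units.val_mul, hZ, hpow _ _ _ hu' n, hmul, hn]
    simp only [hR, show (0 : T3) + 1 = 1 from rfl, Matrix.transvection,
      show C.ω ^ 2 * t + -C.ω ^ 2 * t = 0 by ring, Matrix.single_zero, add_zero]
    congr 2
    ring
  · rw [Units.val_mul, hZ, hpow _ _ _ hu' m, hmul, hm]
    simp only [hR, show (2 : T3) + 1 = 0 from rfl, Matrix.transvection,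
      show C.ω * t + -C.ω * t = 0 by ring, Matrix.single_zero, add_zero]
    congr 2
    ring

end Transvection

end Cfsg.Agent.H1.HeisThree
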