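import Cfsg.Agent.H46.SympExpFour

/-!
Groups of exponent three all of whose characteristic abelian subgroups are cyclic have class at most two.
-/

set_option autoImplicit false

namespace Cfsg.Agent.H1.HeisThree

open Subgroup

variable {Q : Type*} [Group Q]

/-- A noncentral element of the derived group in the second centre. -/
theorem exists_second_noncentral [Finite Q] {p : ℕ} [Fact p.Prime] (hQ : IsPGroup p Q)
    (h : ¬ commutator Q ≤ center Q) : ∃ n ∈ commutator Q, n ∈ H46.zTwo Q ∧ n ∉ center Q := by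
  set q := QuotientGroup.mk' (center Q)
  haveI : ((commutator Q).map q).Normal := Subgroup.Normal.map inferInstance _ (QuotientGroup.mk'_surjective _)
  have hne : (commutator Q).map q ≠ ⊥ := by
    rw [Ne, Subgroup.map_eq_bot_iff, QuotientGroup.ker_mk']; exact h
  obtain ⟨⟨w, hw⟩, hw1⟩ := Subgroup.ne_bot_iff_exists_ne_one.mp
    (PGroups.inf_center_ne_bot (hQ.to_quotient _) _ hne)
  obtain ⟨⟨n, hn, rfl⟩, hwc⟩ := Subgroup.mem_inf.mp hw
  refine ⟨n, hn, fun x => ?_, fun hc => hw1 (Subtype.ext ((QuotientGroup.eq_one_iff n).mpr hc))⟩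
  rw [← QuotientGroup.eq_one_iff, QuotientGroup.mk_mul, QuotientGroup.mk_mul, QuotientGroup.mk_mul]
  have h1 := mem_center_iff.mp hwc (q x)
  show q n * q x * q n⁻¹ * q x⁻¹ = 1
  rw [← h1, map_inv, map_inv, mul_inv_cancel_right, mul_inv_cancel]

/-- Class at most two. -/
theorem commutator_le_center [Finite Q] (hQ : IsPGroup 3 Q) (hexp : ∀ x : Q, x ^ 3 = 1)
    (hcyc : ∀ A : Subgroup Q, A.Characteristic → IsMulCommutative A → IsCyclic A) :
    commutator Q ≤ center Q := by
  haveI : Fact (Nat.Prime 3) := ⟨Nat.prime_three⟩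
  by_contra h
  obtain ⟨n, hn, hn2, hnc⟩ := exists_second_noncentral hQ h
  set N := commutator Q ⊓ H46.zTwo Q with hN
  have hchar : N.Characteristic := by
    rw [characteristic_iff_map_le]
    intro e
    exact (map_inf_le _ _ _).trans (inf_le_inf (characteristic_iff_map_le.1 inferInstance e)
      (characteristic_iff_map_le.1 inferInstance e))
  haveI := hchar
  have hab : IsMulCommutative N :=
    ⟨⟨fun a b => Subtype.ext (H46.zTwo_comm_commutator a.2.2 b.2.1)⟩⟩
  haveI := hcyc N hchar hab
  have hn1 : (⟨n, hn, hn2⟩ : N) ≠ 1 := fun e => hnc (by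
    rw [show n = 1 from congrArg Subtype.val e]; exact one_mem _)
  have hcard : Nat.card N = 3 := by
    have hd : Nat.card N ∣ 3 := by
      rw [← IsCyclic.exponent_eq_card]
      exact Monoid.exponent_dvd_of_forall_pow_eq_one fun x => Subtype.ext (hexp x)
    rcases (Nat.dvd_prime Nat.prime_three).1 hd with h1 | h1
    · haveI := (Nat.card_eq_one_iff_unique.1 h1).1
      exact absurd (Subsingleton.elim _ _) hn1
    · exact h1
  have hne : N ≠ ⊥ := fun e => by
    rw [e, card_bot] at hcard
    norm_num at hcard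
  obtain ⟨⟨z, hzN, hzc⟩, hz1⟩ := ne_bot_iff_exists_ne_one.1 (PGroups.inf_center_ne_bot hQ N hne)
  have hmem : (⟨n, hn, hn2⟩ : N) ∈ zpowers (⟨z, hzN⟩ : N) :=
    mem_zpowers_of_prime_card hcard fun e => hz1 (Subtype.ext (congrArg Subtype.val e :))
  obtain ⟨k, hk⟩ := hmem
  exact hnc ((show z ^ k = n from congrArg Subtype.val hk) ▸ (center Q).zpow_mem hzc k)

end Cfsg.Agent.H1.HeisThree
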