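import Cfsg.Agent.H1.HeisThree.NineCj

/-!
The normaliser of the extraspecial group of order `3^5` is maximal in nine dimensions.
-/

set_option autoImplicit false

namespace Cfsg.Agent.H1.HeisThree

open Matrix
open scoped Kronecker

variable {F : Type*} [Field F]

local notation "T3" => ZMod 3
local notation "V" => ZMod 3 × ZMod 3
local notation "J" => ZMod 3 × ZMod 3
local notation "M3" => Matrix (ZMod 3) (ZMod 3) F
local notation "G3" => GL (ZMod 3) F
local notation "M9" => Matrix (ZMod 3 × ZMod 3) (ZMod 3 × ZMod 3) F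
local notation "G9" => GL (ZMod 3 × ZMod 3) F

namespace Cube

variable (C : Cube F)

theorem det_flip : (C.flip : M3).det = 1 := by
  have e : (C.flip : M3) = -((Equiv.neg T3).permMatrix F) := by
    ext i j
    by_cases h : i = -j
    · subst h; simp [coe_flip, Equiv.Perm.permMatrix]
    · have h' : -i ≠ j := fun e => h (by rw [← e, neg_neg])
      simp [coe_flip, Equiv.Perm.permMatrix, h, h']
  rw [e, Matrix.det_neg, Matrix.det_permutation, show Equiv.Perm.sign (Equiv.neg T3) = -1 by decide]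
  norm_num

/-- The involution `flip ⊗ flip`. -/
def iota : G9 := tl C.flip * tr C.flip

theorem iota_mul_self : C.iota * C.iota = 1 := by
  rw [iota, tl_tr_mul, C.flip_mul_flip, map_one, map_one, one_mul]

theorem det_tl (g : G3) : ((tl g : G9) : M9).det = (g : M3).det ^ 3 := by
  rw [coe_tl, Matrix.det_kronecker]; simp

theorem det_tr (g : G3) : ((tr g : G9) : M9).det = (g : M3).det ^ 3 := by
  rw [coe_tr, Matrix.det_kronecker]; simp

theorem det_iota : (C.iota : M9).det = 1 := by
  rw [iota, Units.val_mul, Matrix.det_mul, det_tl, det_tr, C.det_flip]; norm_num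

theorem trace_iota : (C.iota : M9).trace = 1 := by
  rw [iota, coe_tl_tr, Matrix.trace_kronecker, trace_flip]; norm_num

theorem lift_iota : C.Lift9 C.iota fun w => -w := by
  have := C.lift9_tl_tr C.lift_flip C.lift_flip
  exact this

theorem swap_iota : swapG * C.iota = C.iota * swapG := by
  rw [iota, ← mul_assoc, swap_tl, mul_assoc, swap_tr, ← mul_assoc, tl_tr_comm]

/-- A translate of the involution. -/
def rinv (w : V × V) : G9 := C.W9 w * C.iota * (C.W9 w)⁻¹

theorem rinv_zero : C.rinv 0 = C.iota := by rw [rinv, C.W9_zero, one_mul, inv_one, mul_one]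

theorem W9_inv (w : V × V) : ∃ c : Fˣ, (C.W9 w)⁻¹ = sc c * C.W9 (-w) := by
  obtain ⟨c, hc⟩ : ∃ c : Fˣ, C.W9 w * C.W9 (-w) = sc c := ⟨_, by rw [C.W9_mul, add_neg_cancel, C.W9_zero, mul_one]⟩
  refine ⟨c⁻¹, inv_eq_of_mul_eq_one_right ?_⟩
  rw [mul_sc_mul, hc, ← sc_mul, inv_mul_cancel, sc_one]

theorem rinv_eq (w : V × V) : ∃ c : Fˣ, C.rinv w = sc c * C.W9 (w + w) * C.iota := by
  obtain ⟨a, ha⟩ := C.W9_inv w
  obtain ⟨b, hb⟩ := C.lift_iota (-w)
  rw [mul_inv_eq_iff_eq_mul] at hb
  simp only [neg_neg] at hb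
  apply Exists.intro
  rw [rinv, ha, mul_sc_mul, mul_assoc (C.W9 w), hb, mul_assoc (sc b), mul_sc_mul, ← mul_assoc (C.W9 w), C.W9_mul]
  simp only [← mul_assoc, ← sc_mul]
  rfl

theorem rinv_mul (u w : V × V) : ∃ c : Fˣ, C.rinv u * C.rinv w = sc c * C.W9 ((u + u) + -(w + w)) := by
  obtain ⟨a, ha⟩ := C.rinv_eq u
  obtain ⟨b, hb⟩ := C.rinv_eq w
  obtain ⟨d, hd⟩ := C.lift_iota (w + w)
  rw [mul_inv_eq_iff_eq_mul] at hd
  beta_reduce at hd
  apply Exists.intro
  rw [ha, hb, mul_assoc (sc b), mul_sc_mul, ← mul_assoc (sc a * C.W9 (u + u) * C.iota), mul_assoc (sc a * _) C.iota,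
    hd, mul_assoc (sc a * C.W9 (u + u)), mul_assoc _ C.iota C.iota, C.iota_mul_self, mul_one, mul_assoc (sc a),
    mul_sc_mul (C.W9 (u + u)), C.W9_mul]
  simp only [← mul_assoc, ← sc_mul]
  rfl

theorem rinv_conj (x w : V × V) : C.W9 x * C.rinv w * (C.W9 x)⁻¹ = C.rinv (x + w) := by
  simp only [rinv]
  rw [show C.W9 x * (C.W9 w * C.iota * (C.W9 w)⁻¹) * (C.W9 x)⁻¹ =
    (C.W9 x * C.W9 w) * C.iota * (C.W9 x * C.W9 w)⁻¹ by group, C.W9_mul,
    show ∀ (z : Fˣ) (X k : G9), (sc z * X) * k * (sc z * X)⁻¹ = X * k * X⁻¹ from fun z X k => conj_of_scalar_mul z X k]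

theorem rinv_swap (u : V) : swapG * C.rinv (0, u) * swapG⁻¹ = C.rinv (u, 0) := by
  simp only [rinv]
  rw [show swapG * (C.W9 (0, u) * C.iota * (C.W9 (0, u))⁻¹) * swapG⁻¹ =
    (swapG * C.W9 (0, u) * swapG⁻¹) * (swapG * C.iota * swapG⁻¹) * (swapG * C.W9 (0, u) * swapG⁻¹)⁻¹ by group,
    C.swap_W9, C.swap_iota, mul_inv_cancel_right]
  rfl

theorem trace_rinv (w : V × V) : (C.rinv w : M9).trace = 1 := by rw [rinv, trace_conj9, C.trace_iota]

/-- The elements of the normaliser squaring to scalars. -/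
theorem involution_NZ {n : G3} (hn : n ∈ C.NZ) {e : Fˣ} (h : n * n = sc e) :
    (∃ c : Fˣ, n = sc c) ∨ ∃ (c : Fˣ) (v : V), n = sc c * (C.W v * C.flip) := by
  obtain ⟨σ, hσ⟩ := hn
  have h2 := C.lift_mul hσ hσ
  rw [h] at h2
  have h1 : C.Lift (sc e : G3) id := fun v => ⟨1, by rw [sc_comm, mul_inv_cancel_right, sc_one, one_mul]; rfl⟩
  have hu := C.lift_unique h2 h1
  have lin : ∀ v, σ v = v.1 • σ (1, 0) + v.2 • σ (0, 1) := C.lift_linear hσ
  have dec : ∀ a b : V, det2 a b = 1 → (∀ v : V, (v.1 • a + v.2 • b).1 • a + (v.1 • a + v.2 • b).2 • b = v) →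
      (a = (1, 0) ∧ b = (0, 1)) ∨ (a = -(1, 0) ∧ b = -(0, 1)) := by decide +kernel
  rcases dec (σ (1, 0)) (σ (0, 1)) (C.lift_det_one hσ) (fun v => by rw [← lin, ← lin]; exact congrFun hu v) with
    ⟨ea, eb⟩ | ⟨ea, eb⟩
  · obtain ⟨c, v, hcv⟩ := C.inR_of_fix (g := n) fun v => by
      obtain ⟨c, hc⟩ := hσ v
      exact ⟨c, by rw [hc, lin, ea, eb]; simp⟩
    left
    refine ⟨c, ?_⟩
    have hsq : n * n = sc (c * c) * (C.W v * C.W v) := by
      rw [hcv, mul_assoc (sc c), ← mul_assoc (C.W v), ← sc_comm, mul_assoc (sc c) (C.W v), ← mul_assoc, ← sc_mul]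
    rw [h, C.W_mul, ← mul_assoc, ← sc_mul] at hsq
    have := (C.sc_W_inj (u := 0) (v := v + v) (c := e) (by rw [C.W_zero, mul_one]; exact hsq)).2
    rw [hcv, (by decide : ∀ v : V, 0 = v + v → v = 0) v this, C.W_zero, mul_one]
  · obtain ⟨c, v, hcv⟩ := C.inR_of_fix (g := n * C.flip) fun v => by
      obtain ⟨a, ha⟩ := C.lift_flip v
      obtain ⟨b, hb⟩ := hσ (-v)
      refine ⟨a * b, ?_⟩
      rw [show n * C.flip * C.W v * (n * C.flip)⁻¹ = n * (C.flip * C.W v * C.flip⁻¹) * n⁻¹ by group, ha,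
        conj_sc_mul, hb, ← mul_assoc, ← sc_mul, lin, ea, eb]
      simp
    right
    refine ⟨c, v, ?_⟩
    rw [← mul_assoc, ← hcv, mul_assoc, C.flip_mul_flip, mul_one]

theorem tl_tr_scalar {x y : G3} {d : Fˣ} (h : (tl x : G9) * tr y = sc d) :
    (∃ a : Fˣ, x = sc a) ∧ ∃ b : Fˣ, y = sc b := by
  have ent : ∀ i j a b : T3, (x : M3) i j * (y : M3) a b = (d : F) * (if (i, a) = (j, b) then 1 else 0) := by
    intro i j a b
    have := congrArg (fun u : G9 => (u : M9) (i, a) (j, b)) h
    beta_reduce at this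
    rw [coe_tl_tr] at this
    simpa [ coe_sc, Matrix.kroneckerMap_apply, Matrix.one_apply] using this
  have hy0 : (y : M3) 0 0 ≠ 0 := fun e => by
    have := ent 0 0 0 0
    simp [e] at this
    exact d.ne_zero this.symm
  have hx0 : (x : M3) 0 0 ≠ 0 := fun e => by
    have := ent 0 0 0 0
    simp [e] at this
    exact d.ne_zero this.symm
  constructor
  · refine ⟨Units.mk0 _ hx0, ?_⟩
    apply Units.ext
    ext i j
    apply mul_right_cancel₀ hy0
    rw [ent]
    by_cases hij : i = j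
    · subst hij
      have h0 := ent 0 0 0 0
      simp [coe_sc] at h0 ⊢
      exact h0.symm
    · simp [coe_sc, hij]
  · refine ⟨Units.mk0 _ hy0, ?_⟩
    apply Units.ext
    ext a b
    apply mul_left_cancel₀ hx0
    rw [ent]
    by_cases hab : a = b
    · subst hab
      have h0 := ent 0 0 0 0
      simp [coe_sc] at h0 ⊢
      exact h0.symm
    · simp [coe_sc, hab]

end Cube

variable [Fintype F] {p : ℕ} {C : Cube F}

omit [Fintype F] in
theorem four_ne_zero_of (hp2 : p ≠ 2) (hp : p.Prime) [CharP F p] : (4 : F) ≠ 0 := fun h => by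
  have h2 : (2 : F) ≠ 0 := two_ne_zero_of hp2 hp
  exact mul_ne_zero h2 h2 (by linear_combination h)

/-- A conjugate of the involution lies in the normaliser or commutes with a translate. -/
theorem classify (hp : p.Prime) (hF : Fintype.card F = p) (hp2 : p ≠ 2)
    {M : Subgroup (GL (ZMod 3 × ZMod 3) F)} (hM : ContainsN9 C M)
    (hno : ¬ ∀ g : G9, (g : M9).det = 1 → g ∈ M) {t : G9} (ht : t ∈ M) (ht2 : t * t = 1)
    (htr : (t : M9).trace = 1) (htd : (t : M9).det = 1) :
    t ∈ C.NZ9 ∨ ∃ u : V, t * C.rinv (0, u) = C.rinv (0, u) * t := by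
  have := charP_of_card hp hF
  have := Fact.mk hp
  have h2 : (2 : F) ≠ 0 := two_ne_zero_of hp2 hp
  set j : G9 := tl C.flip with hj
  have hj2 : j * j = 1 := by rw [hj, ← map_mul, C.flip_mul_flip, map_one]
  have hjM : j ∈ M := hM.tlN C.flip_mem_NZ
  set x := t * j with hx
  have htx : t * x * t = x⁻¹ := by
    rw [hx, _root_.mul_inv_rev, inv_eq_of_mul_eq_one_right ht2, inv_eq_of_mul_eq_one_right hj2, ← mul_assoc t t j,
      ht2, one_mul]
  have hti : t⁻¹ = t := inv_eq_of_mul_eq_one_right ht2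
  have hji : j⁻¹ = j := inv_eq_of_mul_eq_one_right hj2
  have hjx : j * x * j = x⁻¹ := by
    rw [hx, _root_.mul_inv_rev, hti, hji, mul_assoc j (t * j) j, mul_assoc t j j, hj2, mul_one]
  have hpow : ∀ (y : G9), y * y = 1 → y * x * y = x⁻¹ → ∀ n : ℕ, y * x ^ n * y = (x ^ n)⁻¹ := by
    intro y hy hyx n
    have hyi : y⁻¹ = y := inv_eq_of_mul_eq_one_right hy
    have := conj_pow (a := y) (b := x) (i := n)
    rw [hyi, hyx, inv_pow] at this
    exact this.symm
  have hord : 0 < orderOf x := orderOf_pos _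
  rcases Nat.even_or_odd (orderOf x) with ⟨k, hk⟩ | ⟨r, hr⟩
  swap
  · exfalso
    set z := j * x ^ r with hz
    have e1 : t = z * j * z⁻¹ := by
      have e2 : x ^ r * j = j * (x ^ r)⁻¹ := by
        rw [← hpow j hj2 hjx r, ← mul_assoc, ← mul_assoc, hj2, one_mul]
      have e3 : x ^ r * x ^ r = x⁻¹ := by
        rw [eq_inv_iff_mul_eq_one, ← pow_add, ← pow_succ, show r + r + 1 = orderOf x by omega, pow_orderOf_eq_one]
      calc t = x * j := by rw [hx, mul_assoc, hj2, mul_one]
        _ = (x ^ r * x ^ r)⁻¹ * j := by rw [e3, inv_inv]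
        _ = z * j * z⁻¹ := by
          rw [hz, mul_assoc j, e2, ← mul_assoc j j, hj2, one_mul, _root_.mul_inv_rev, _root_.mul_inv_rev, hji]
          group
    have h3 := trace_conj9 z j
    rw [← e1, htr, hj, trace_tl, trace_flip] at h3
    exact four_ne_zero_of hp2 hp (by linear_combination h3)
  set w := x ^ k with hw
  have hw2 : w * w = 1 := by rw [hw, ← pow_add, ← hk, pow_orderOf_eq_one]
  have hw1 : w ≠ 1 := fun h => by
    have := Nat.le_of_dvd (by omega) (orderOf_dvd_of_pow_eq_one h)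
    omega
  have hwi : w⁻¹ = w := inv_eq_of_mul_eq_one_right hw2
  have hcomm : ∀ y : G9, y * y = 1 → y * x * y = x⁻¹ → y * w = w * y := by
    intro y hy hyx
    have e := hpow y hy hyx k
    rw [← hw, hwi] at e
    calc y * w = y * w * (y * y) := by rw [hy, mul_one]
      _ = (y * w * y) * y := by simp only [mul_assoc]
      _ = w * y := by rw [e]
  have hwt := hcomm t ht2 htx
  have hwj := hcomm j hj2 hjx
  have hwM : w ∈ M := pow_mem (mul_mem ht hjM) k
  have hw9 : w ∈ C.NZ9 := comm_flip_mem hp hF hp2 hM hno hwM hwj.symm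
  obtain ⟨a, ha, b, hb, e⟩ := C.comm_flip_decomp hw9 hwj.symm
  have hsq : (tl ((a : G3) * a) : G9) * tr (b * b) = sc 1 := by rw [← tl_tr_mul, ← e, hw2, sc_one]
  obtain ⟨⟨ea, hea⟩, ⟨eb, heb⟩⟩ := Cube.tl_tr_scalar hsq
  have hwdet : (w : M9).det = 1 := by
    rw [hw, Units.val_pow_eq_pow_val, Matrix.det_pow, hx, Units.val_mul, Matrix.det_mul, htd, hj, Cube.det_tl,
      C.det_flip]
    norm_num
  -- the shape of the first factor
  have ha' : ∃ (c : Fˣ), (a : G3) = sc c ∨ (a : G3) = sc c * C.flip := by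
    rcases C.involution_NZ ha hea with ⟨c, hc⟩ | ⟨c, v, hc⟩
    · exact ⟨c, Or.inl hc⟩
    · refine ⟨c, Or.inr ?_⟩
      have hf := Subgroup.mem_centralizer_singleton_iff.1 a.2
      rw [hc, mul_sc_mul, mul_assoc (sc c), mul_right_inj, mul_assoc, C.flip_mul_flip, ← mul_assoc C.flip, C.flip_W,
        mul_assoc (C.W (-v)), C.flip_mul_flip] at hf
      have hv : v = -v := C.W_inj (mul_right_cancel hf)
      rw [hc, (by decide : ∀ v : V, v = -v → v = 0) v hv, C.W_zero, one_mul]
  have hscal : ∀ (d : Fˣ) (y : G9), w = sc d * y → t * y = y * t := by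
    intro d y hy
    have h := hwt
    rw [hy, mul_sc_mul, mul_assoc] at h
    exact mul_left_cancel h
  have hb' : (∃ c : Fˣ, b = sc c) ∨ ∃ (c : Fˣ) (u : V), b = sc c * (C.W u * C.flip * (C.W u)⁻¹) := by
    rcases C.involution_NZ hb heb with h | ⟨c, v, hc⟩
    · exact Or.inl h
    · refine Or.inr ?_
      obtain ⟨d, hd⟩ : ∃ d : Fˣ, C.W (v + v) * C.flip * (C.W (v + v))⁻¹ = sc d * (C.W v * C.flip) := by
        obtain ⟨q, hq⟩ := C.lift_flip (-(v + v))
        rw [mul_inv_eq_iff_eq_mul] at hq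
        simp only [neg_neg] at hq
        have hi : (C.W (v + v))⁻¹ = (sc (Units.mk0 _ (C.ch_ne_zero ((v + v).2 * (-(v + v)).1))))⁻¹ * C.W (-(v + v)) := by
          refine inv_eq_of_mul_eq_one_right ?_
          rw [← sc_inv, mul_sc_mul, C.W_mul, add_neg_cancel, C.W_zero, mul_one, ← sc_mul, inv_mul_cancel, sc_one]
        rw [hi, ← sc_inv, mul_sc_mul, mul_assoc (C.W (v + v)), hq, mul_assoc (sc q), mul_sc_mul,
          ← mul_assoc (C.W (v + v)), C.W_mul, (by decide : ∀ v : V, v + v + (v + v) = v) v]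
        exact ⟨_, by simp only [← mul_assoc, ← sc_mul]; rfl⟩
      refine ⟨c * d⁻¹, v + v, ?_⟩
      rw [hd, ← mul_assoc, ← sc_mul, inv_mul_cancel_right, hc]
  rcases ha' with ⟨c, hc | hc⟩ <;> rcases hb' with ⟨c', hc'⟩ | ⟨c', u, hc'⟩
  · exfalso
    apply hw1
    have e' : w = sc (c * c') := by rw [e, hc, hc', tl_sc, tr_sc, sc_mul]
    rw [e', ← sc_mul, ← sc_one] at hw2
    have hcc := sc_inj hw2
    rw [e', coe_sc, Matrix.det_smul, Matrix.det_one, mul_one] at hwdet
    rw [e', ← sc_one]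
    refine congrArg sc (Units.ext ?_)
    have h1 := congrArg (fun z : Fˣ => (z : F)) hcc
    simp only [Units.val_mul, Units.val_one] at h1 hwdet ⊢
    simp only [Fintype.card_prod, ZMod.card] at hwdet
    calc (c : F) * c' = ((c : F) * c') * ((c : F) * c' * ((c : F) * c')) ^ 4 := by rw [h1, one_pow, mul_one]
      _ = 1 := by rw [← hwdet]; ring
  · left
    have h1 : t * (tr (C.W u) * tr C.flip * (tr (C.W u))⁻¹) = (tr (C.W u) * tr C.flip * (tr (C.W u))⁻¹) * t :=
      hscal (c * c') _ (by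
                         rw [e, hc, hc', tl_sc, map_mul tr (sc c'), tr_sc, sc_mul, map_mul, map_mul, map_inv]
                         simp only [mul_assoc])
    set t' := swapG * ((tr (C.W u))⁻¹ * t * tr (C.W u)) * swapG⁻¹ with ht'
    have hnM : tr (C.W u) ∈ M := hM.trN (C.W_mem_NZ u)
    have hn9 : tr (C.W u) ∈ C.NZ9 := C.tr_mem_NZ9 (C.W_mem_NZ u)
    have h9 : t' ∈ C.NZ9 := by
      refine comm_flip_mem hp hF hp2 hM hno
        (mul_mem (mul_mem hM.swap (mul_mem (mul_mem (inv_mem hnM) ht) hnM)) (inv_mem hM.swap)) ?_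
      have h3 : (tr (C.W u))⁻¹ * t * tr (C.W u) * tr C.flip = tr C.flip * ((tr (C.W u))⁻¹ * t * tr (C.W u)) := by
        calc _ = (tr (C.W u))⁻¹ * (t * (tr (C.W u) * tr C.flip * (tr (C.W u))⁻¹)) * tr (C.W u) := by group
          _ = _ := by rw [h1]; group
      have e1 : swapG * tr C.flip * swapG⁻¹ = (tl C.flip : G9) := by rw [swap_tr, mul_inv_cancel_right]
      calc t' * tl C.flip = swapG * ((tr (C.W u))⁻¹ * t * tr (C.W u) * tr C.flip) * swapG⁻¹ := by
            rw [ht', ← e1]; group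
        _ = swapG * (tr C.flip * ((tr (C.W u))⁻¹ * t * tr (C.W u))) * swapG⁻¹ := by rw [h3]
        _ = tl C.flip * t' := by rw [ht', ← e1]; group
    have e2 : t = tr (C.W u) * (swapG⁻¹ * t' * swapG) * (tr (C.W u))⁻¹ := by rw [ht']; group
    rw [e2]
    exact mul_mem (mul_mem hn9 (mul_mem (mul_mem (inv_mem C.swap_mem_NZ9) h9) C.swap_mem_NZ9)) (inv_mem hn9)
  · left
    exact comm_flip_mem hp hF hp2 hM hno ht (hscal (c * c') _ (by
      rw [e, hc, hc', map_mul tl (sc c), tl_sc, tr_sc, mul_assoc, ← sc_comm c', ← mul_assoc, ← sc_mul]))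
  · right
    refine ⟨u, hscal (c * c') _ ?_⟩
    rw [e, hc, hc', map_mul tl (sc c), tl_sc, map_mul tr (sc c'), tr_sc, mul_assoc (sc c), mul_sc_mul,
      ← mul_assoc (sc c), ← sc_mul, Cube.rinv, C.W9_snd, Cube.iota, map_mul tr (C.W u * C.flip), map_mul tr, map_inv]
    congr 1
    rw [← mul_assoc, ← mul_assoc (tr (C.W u)) (tl C.flip), ← tl_tr_comm, mul_assoc (tl C.flip) (tr _) (tr _)]

theorem conj_iota_mem (hp : p.Prime) (hF : Fintype.card F = p) (hp2 : p ≠ 2)
    {M : Subgroup (GL (ZMod 3 × ZMod 3) F)} (hM : ContainsN9 C M)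
    (hno : ¬ ∀ g : G9, (g : M9).det = 1 → g ∈ M) {t : G9} (ht : t ∈ M) (ht2 : t * t = 1)
    (htr : (t : M9).trace = 1) (htd : (t : M9).det = 1) : t ∈ C.NZ9 := by
  by_contra hN
  have uniq : ∀ v w : V × V, t * C.rinv v = C.rinv v * t → t * C.rinv w = C.rinv w * t → v = w := by
    intro v w hv hw
    by_contra hne
    obtain ⟨c, hc⟩ := C.rinv_mul v w
    have h : Commute t (C.rinv v * C.rinv w) := (show Commute t (C.rinv v) from hv).mul_right hw
    rw [hc] at h
    refine hN (comm_W9_mem hp hF hp2 hM hno ht (w := v + v + -(w + w))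
      (fun h0 => hne ((by decide : ∀ a b : V, a + a + -(b + b) = 0 → a = b) v.1 w.1 (congrArg Prod.fst h0) |>
        fun h1 => Prod.ext h1 ((by decide : ∀ a b : V, a + a + -(b + b) = 0 → a = b) v.2 w.2 (congrArg Prod.snd h0)))) ?_)
    have h' := h.eq
    rw [mul_sc_mul, mul_assoc] at h'
    exact mul_left_cancel h'
  have moved : ∀ n ∈ M, n ∈ C.NZ9 → ∃ u : V, t * (n * C.rinv (0, u) * n⁻¹) = (n * C.rinv (0, u) * n⁻¹) * t := by
    intro n hn hn9
    rcases classify hp hF hp2 hM hno (t := n⁻¹ * t * n) (mul_mem (mul_mem (inv_mem hn) ht) hn)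
      (by rw [show n⁻¹ * t * n * (n⁻¹ * t * n) = n⁻¹ * (t * t) * n by group, ht2]; group)
      (by have := trace_conj9 n⁻¹ t; rw [inv_inv] at this; rw [this, htr])
      (by
        rw [Units.val_mul, Units.val_mul, Matrix.det_mul, Matrix.det_mul, htd, mul_one, ← Matrix.det_mul,
          Units.inv_mul, Matrix.det_one]) with h | ⟨u, hu⟩
    · exfalso
      apply hN
      rw [show t = n * (n⁻¹ * t * n) * n⁻¹ by group]
      exact mul_mem (mul_mem hn9 h) (inv_mem hn9)
    · refine ⟨u, ?_⟩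
      calc t * (n * C.rinv (0, u) * n⁻¹) = n * (n⁻¹ * t * n * C.rinv (0, u)) * n⁻¹ := by group
        _ = _ := by rw [hu]; group
  obtain ⟨v, hv⟩ := moved 1 (one_mem _) (one_mem _)
  obtain ⟨u, hu⟩ := moved swapG hM.swap C.swap_mem_NZ9
  obtain ⟨q, hq⟩ := moved (C.W9 ((1, 0), 0)) (hM.W9 _) (C.W9_mem_NZ9 _)
  rw [one_mul, inv_one, mul_one] at hv
  rw [C.rinv_swap] at hu
  rw [C.rinv_conj] at hq
  have e1 := congrArg Prod.fst (uniq _ _ hv hu)
  have e2 := congrArg Prod.fst (uniq _ _ hv hq)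
  simp at e1 e2
  exact absurd e2 (by decide)

/-- The normaliser of the extraspecial group is maximal. -/
theorem nine_main (hp : p.Prime) (hF : Fintype.card F = p) (hp2 : p ≠ 2)
    {M : Subgroup (GL (ZMod 3 × ZMod 3) F)} (hM : ContainsN9 C M) :
    M ≤ C.NZ9 ∨ ∀ g : G9, (g : M9).det = 1 → g ∈ M := by
  refine or_iff_not_imp_right.2 fun hno => ?_
  classical
  have := charP_of_card hp hF
  have h2 : (2 : F) ≠ 0 := two_ne_zero_of hp2 hp
  have hp5 : (5 : F) ≠ 0 := fun h => by
    have hd : p ∣ 5 := (CharP.cast_eq_zero_iff F p 5).1 (by exact_mod_cast h)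
    have := (Nat.prime_dvd_prime_iff_eq hp Nat.prime_five).1 hd
    have := p_mod_three C hp hF
    omega
  intro g hg
  have hiM : C.iota ∈ M := mul_mem (hM.tlN C.flip_mem_NZ) (hM.trN C.flip_mem_NZ)
  -- every conjugate of the involution is a translate
  have key : ∀ h ∈ M, ∃ a : V × V, h * C.iota * h⁻¹ = C.rinv a := by
    intro h hh
    set t := h * C.iota * h⁻¹ with ht
    have htM : t ∈ M := mul_mem (mul_mem hh hiM) (inv_mem hh)
    have ht2 : t * t = 1 := by
      rw [ht, show h * C.iota * h⁻¹ * (h * C.iota * h⁻¹) = h * (C.iota * C.iota) * h⁻¹ by group, C.iota_mul_self]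
      group
    have htr : (t : M9).trace = 1 := by rw [ht, trace_conj9, C.trace_iota]
    have htd : (t : M9).det = 1 := by
      rw [ht, Units.val_mul, Units.val_mul, Matrix.det_mul, Matrix.det_mul, C.det_iota, mul_one, ← Matrix.det_mul,
        Units.mul_inv, Matrix.det_one]
    obtain ⟨σ, hσ⟩ := conj_iota_mem hp hF hp2 hM hno htM ht2 htr htd
    have hsq : ∀ w, σ (σ w) = w := by
      intro w
      obtain ⟨c, hc⟩ := hσ w
      obtain ⟨d, hd⟩ := hσ (σ w)
      have e : C.W9 w = sc (c * d) * C.W9 (σ (σ w)) := by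
        calc C.W9 w = (t * t) * C.W9 w * (t * t)⁻¹ := by rw [ht2]; group
          _ = t * (t * C.W9 w * t⁻¹) * t⁻¹ := by group
          _ = _ := by rw [hc, conj_sc_mul, hd, ← mul_assoc, ← sc_mul]
      exact (C.sc_W9_inj (c := 1) (d := c * d) (by rw [sc_one, one_mul]; exact e)).2.symm
    have nofix : ∀ w, σ w = w → w = 0 := by
      intro w hfix
      by_contra hw
      obtain ⟨c, hc⟩ := hσ w
      rw [hfix] at hc
      have hc1 : c = 1 := by
        have e1 : sc (c * c) * C.W9 w = sc 1 * C.W9 w := by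
          rw [sc_one, one_mul, sc_mul, mul_assoc, ← hc, ← conj_sc_mul, ← hc]
          rw [show t * (t * C.W9 w * t⁻¹) * t⁻¹ = (t * t) * C.W9 w * (t * t)⁻¹ by group, ht2]
          group
        have e2 : c * c = 1 := (C.sc_W9_inj e1).1
        have e3 := congrArg (· ^ 3) hc
        simp only [conj_pow, C.W9_cube, (show Commute (sc c) (C.W9 w) from sc_comm c _).mul_pow, sc_pow,
          mul_one, mul_inv_cancel] at e3
        have e4 : c ^ 3 = 1 := sc_inj (e3.symm.trans sc_one.symm)
        calc c = c * (c * c) := by rw [e2, mul_one]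
          _ = 1 := by rw [← e4, pow_succ, pow_two, mul_assoc]
      rw [hc1, sc_one, one_mul, mul_inv_eq_iff_eq_mul] at hc
      obtain ⟨n, hn, -, d, hd⟩ := conj_W9_trans hM hw
      set t' := n⁻¹ * t * n with ht'
      have h0 : t' * tl (C.W (0, 1)) = tl (C.W (0, 1)) * t' := by
        rw [← C.W9_fst, ht']
        have e : C.W9 ((0, 1), 0) = sc d * (n⁻¹ * C.W9 w * n) := by
          calc C.W9 ((0, 1), 0) = n⁻¹ * (n * C.W9 ((0, 1), 0) * n⁻¹) * n := by group
            _ = _ := by rw [hd, mul_sc_mul n⁻¹, mul_assoc (sc d)]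
        rw [e, mul_sc_mul, mul_assoc (sc d)]
        congr 1
        calc n⁻¹ * t * n * (n⁻¹ * C.W9 w * n) = n⁻¹ * (t * C.W9 w) * n := by group
          _ = _ := by rw [hc]; group
      obtain ⟨f, hf⟩ := C.exists_bd h0
      have hfM : bd f ∈ M := hf ▸ mul_mem (mul_mem (inv_mem hn) htM) hn
      have hfsq : ∀ i, f i * f i = 1 := by
        intro i
        have e : (bd f : G9) * bd f = bd 1 := by
          rw [← hf, map_one, ht', show n⁻¹ * t * n * (n⁻¹ * t * n) = n⁻¹ * (t * t) * n by group, ht2]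
          group
        rw [← map_mul] at e
        exact congrFun (bd_injective e) i
      have hfN := fun i => blocks_mem hp hF hp2 hM hno hfM i
      have htrace : ((f 0 : G3) : M3).trace + ((f 1 : G3) : M3).trace + ((f 2 : G3) : M3).trace = 1 := by
        have e := trace_conj9 n⁻¹ t
        rw [inv_inv, ← ht', hf, htr] at e
        rw [← e]
        simp [Matrix.trace, Fintype.sum_prod_type, sum3, coe_bd]
      -- all blocks are scalars or all are reflections
      have hshape := fun i => C.involution_NZ (hfN i) (e := 1) (by rw [hfsq, sc_one])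
      choose τ hτ using fun i => hfN i
      have hsum : ∀ z : V, τ 0 z + τ 1 z + τ 2 z = 0 := by
        intro z
        choose a ha using fun i => hτ i z
        have hmem : bd (f * (fun _ => C.W z) * f⁻¹) ∈ M := by
          rw [map_mul, map_mul, map_inv]
          exact mul_mem (mul_mem hfM (hM.const_mem (C.W_mem_NZ z))) (inv_mem hfM)
        exact inR_sum hp hF hp2 hM hno hmem (c := a) (v := fun i => τ i z) fun i => ha i
      have hkind : ∀ i, (∃ e : Fˣ, f i = sc e) → τ i (1, 0) = (1, 0) := by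
        rintro i ⟨e, he⟩
        obtain ⟨b, hb⟩ := hτ i (1, 0)
        rw [he, sc_comm, mul_inv_cancel_right] at hb
        exact ((C.sc_W_inj (c := 1) (d := b) (by rw [sc_one, one_mul]; exact hb)).2).symm
      have hkind' : ∀ i, (∃ (e : Fˣ) (v : V), f i = sc e * (C.W v * C.flip)) → τ i (1, 0) = -(1, 0) := by
        rintro i ⟨e, v, he⟩
        obtain ⟨b, hb⟩ := hτ i (1, 0)
        obtain ⟨q, hq⟩ := C.lift_flip (1, 0)
        obtain ⟨r, hr, -⟩ := C.W_conj v (-(1, 0))
        have e1 : f i * C.W (1, 0) * (f i)⁻¹ = sc (q * r) * C.W (-(1, 0)) := by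
          rw [he, conj_of_scalar_mul, show C.W v * C.flip * C.W (1, 0) * (C.W v * C.flip)⁻¹ =
            C.W v * (C.flip * C.W (1, 0) * C.flip⁻¹) * (C.W v)⁻¹ by group, hq, conj_sc_mul, hr, ← mul_assoc,
            ← sc_mul]
        exact ((C.sc_W_inj (e1.symm.trans hb)).2).symm
      have hε : ∀ i, τ i (1, 0) = (1, 0) ∨ τ i (1, 0) = -(1, 0) := fun i =>
        (hshape i).imp (hkind i) (hkind' i)
      have hall : ∀ i, τ i (1, 0) = τ 0 (1, 0) := by
        have h3 := hsum (1, 0)
        intro i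
        rcases hε 0 with a | a <;> rcases hε 1 with b | b <;> rcases hε 2 with c | c <;>
          rw [a, b, c] at h3 <;>
          first
            | (exfalso; revert h3; decide)
            | (rw [a]; rcases T3_cases i with rfl | rfl | rfl <;> assumption)
      have hneg1 : ((1, 0) : V) ≠ -(1, 0) := by decide
      rcases hshape 0 with h0s | h0r
      · -- scalar blocks
        have hs : ∀ i, ∃ e : Fˣ, f i = sc e := fun i => (hshape i).resolve_right fun hr =>
          hneg1 ((hkind 0 h0s).symm.trans ((hall i).symm.trans (hkind' i hr)))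
        choose e he using hs
        have hmem : bd (fun i => (sc (e i) : G3)) ∈ M := by rwa [← (funext he : f = _)]
        have h3 := (scalar_triple hp hF hp2 hM hno hmem).1
        have he1 : ∀ i, (e i : F) ^ 3 = e i := by
          intro i
          have := hfsq i
          rw [he, ← sc_mul, ← sc_one] at this
          have h1 := congrArg (fun u : Fˣ => (u : F)) (sc_inj this)
          simp at h1
          linear_combination (e i : F) * h1
        have heq : ∀ i, (e i : F) = e 0 := fun i => by rw [← he1, h3, he1]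
        simp only [he, coe_sc, Matrix.trace_smul, Matrix.trace_one, heq, ZMod.card, Nat.cast_ofNat, smul_eq_mul] at htrace
        have he2 : (e 0 : F) ^ 2 = 1 := by
          apply mul_left_cancel₀ (e 0).ne_zero
          linear_combination he1 0
        exact mul_ne_zero (mul_ne_zero (mul_ne_zero h2 h2) (mul_ne_zero h2 h2)) hp5
          (by linear_combination (9 * (e 0 : F) + 1) * htrace - 81 * he2)
      · -- reflection blocks
        have hs : ∀ i, ∃ (e : Fˣ) (v : V), f i = sc e * (C.W v * C.flip) := fun i => (hshape i).resolve_left fun hr =>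
          hneg1 ((hkind i hr).symm.trans ((hall i).trans (hkind' 0 h0r)))
        choose e v he using hs
        have hmem : bd (fun i => (sc (e i ^ 3) : G3)) ∈ M := by
          have e1 : (fun i => (sc (e i ^ 3) : G3)) = (f * fun _ => C.flip) ^ 3 := by
            funext i
            simp only [Pi.pow_apply, Pi.mul_apply]
            rw [he, mul_assoc, mul_assoc, C.flip_mul_flip, mul_one,
              (show Commute (sc (e i)) (C.W (v i)) from sc_comm _ _).mul_pow, C.W_cube, mul_one, sc_pow]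
          rw [e1, map_pow, map_mul, ← tr_eq_bd]
          exact pow_mem (mul_mem hfM (hM.trN C.flip_mem_NZ)) 3
        have h9 := (scalar_triple hp hF hp2 hM hno hmem).1
        have htv : ∀ i, ∃ ε : F, ((f i : G3) : M3).trace = -ε ∧ ε ^ 2 = 1 ∧ ε ^ 3 = (e i : F) ^ 3 := by
          intro i
          set u := v i + v i
          obtain ⟨q, hq⟩ := C.lift_flip (-u)
          rw [mul_inv_eq_iff_eq_mul] at hq
          simp only [neg_neg] at hq
          have hi : (C.W u)⁻¹ = (sc (Units.mk0 _ (C.ch_ne_zero (u.2 * (-u).1))))⁻¹ * C.W (-u) := by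
            refine inv_eq_of_mul_eq_one_right ?_
            rw [← sc_inv, mul_sc_mul, C.W_mul, add_neg_cancel, C.W_zero, mul_one, ← sc_mul, inv_mul_cancel, sc_one]
          obtain ⟨d, hd, hd3⟩ : ∃ d : Fˣ, C.W u * C.flip * (C.W u)⁻¹ = sc d * (C.W (v i) * C.flip) ∧ d ^ 3 = 1 := by
            obtain ⟨d, hd⟩ : ∃ d : Fˣ, C.W u * C.flip * (C.W u)⁻¹ = sc d * (C.W (v i) * C.flip) := by
              rw [hi, ← sc_inv, mul_sc_mul, mul_assoc (C.W u), hq, mul_assoc (sc q), mul_sc_mul,
                ← mul_assoc (C.W u), C.W_mul, (by decide : ∀ v : V, v + v + (v + v) = v) (v i)]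
              exact ⟨_, by simp only [← mul_assoc, ← sc_mul]; rfl⟩
            refine ⟨d, hd, ?_⟩
            have hd' : C.W u * C.flip * (C.W u)⁻¹ * C.flip = sc d * C.W (v i) := by
              rw [hd, mul_assoc, mul_assoc, C.flip_mul_flip, mul_one]
            obtain ⟨q', hq'⟩ := C.lift_flip (-u)
            have h3a := congrArg (· ^ 3) hd'
            rw [hi] at hd'
            have e3 : C.W u * C.flip * (C.W u)⁻¹ * C.flip = C.W u * (C.flip * C.W u * C.flip⁻¹)⁻¹ := by
              rw [C.flip_inv]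
              simp only [_root_.mul_inv_rev, C.flip_inv, mul_assoc]
            rw [e3, C.flip_W, mul_inv_cancel_right] at h3a
            simp only [(show Commute (sc d) (C.W (v i)) from sc_comm _ _).mul_pow, C.W_cube, mul_one, sc_pow] at h3a
            have h1 : (C.W u * (C.W (-u))⁻¹) ^ 3 = 1 := by
              have hc : Commute (C.W u) (C.W (-u))⁻¹ := by
                refine Commute.inv_right ?_
                show C.W u * C.W (-u) = C.W (-u) * C.W u
                rw [C.W_mul, C.W_mul, neg_add_cancel, add_neg_cancel]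
                congr 2
                exact Units.ext (by simp [mul_comm])
              rw [hc.mul_pow, inv_pow, C.W_cube, C.W_cube, inv_one, mul_one]
            rw [h1] at h3a
            exact sc_inj (h3a.symm.trans sc_one.symm)
          refine ⟨(e i : F) * ((d⁻¹ : Fˣ) : F), ?_, ?_, ?_⟩
          · have e1 : f i = sc (e i * d⁻¹) * (C.W u * C.flip * (C.W u)⁻¹) := by
              rw [hd, ← mul_assoc, ← sc_mul, inv_mul_cancel_right, he]
            rw [e1, Units.val_mul, coe_sc, Matrix.smul_mul, one_mul, Matrix.trace_smul, trace_conj, trace_flip,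
              smul_eq_mul, Units.val_mul, mul_neg, mul_one]
          · have e1 : f i = sc (e i * d⁻¹) * (C.W u * C.flip * (C.W u)⁻¹) := by
              rw [hd, ← mul_assoc, ← sc_mul, inv_mul_cancel_right, he]
            have h1 := hfsq i
            rw [e1, mul_assoc, mul_sc_mul, ← mul_assoc (sc _), ← sc_mul,
              show C.W u * C.flip * (C.W u)⁻¹ * (C.W u * C.flip * (C.W u)⁻¹) = C.W u * (C.flip * C.flip) * (C.W u)⁻¹ by group,
              C.flip_mul_flip, mul_one, mul_inv_cancel, mul_one, ← sc_one] at h1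
            rw [pow_two, ← Units.val_mul, ← Units.val_mul, sc_inj h1, Units.val_one]
          · rw [mul_pow, ← Units.val_pow_eq_pow_val d⁻¹, inv_pow, hd3, inv_one, Units.val_one, mul_one]
        choose ε hεt hε2 hε3 using htv
        have he9 : ∀ i, ε i = ε 0 := fun i => by
          have a := h9 i
          rw [Units.val_pow_eq_pow_val, Units.val_pow_eq_pow_val, ← hε3, ← hε3] at a
          have b : ∀ k, (ε k ^ 3) ^ 3 = ε k := fun k => by
            rw [← pow_mul, show 3 * 3 = 2 * 4 + 1 by norm_num, pow_succ, pow_mul, hε2, one_pow, one_mul]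
          rw [← b, a, b]
        rw [hεt, hεt, hεt, he9 1, he9 2] at htrace
        exact mul_ne_zero (mul_ne_zero h2 h2) h2
          (by linear_combination (-3 * ε 0 + 1) * htrace - 9 * hε2 0)
    have hneg : ∀ w, σ w = -w := fun w => by
      have h1 := nofix (w + σ w) (by rw [C.lift9_add hσ, hsq, add_comm])
      exact eq_neg_of_add_eq_zero_right h1
    have hfix : C.Lift9 (t * C.iota) id := by
      intro w
      obtain ⟨a, ha⟩ := C.lift_iota w
      obtain ⟨b, hb⟩ := hσ (-w)
      refine ⟨a * b, ?_⟩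
      rw [show t * C.iota * C.W9 w * (t * C.iota)⁻¹ = t * (C.iota * C.W9 w * C.iota⁻¹) * t⁻¹ by group, ha,
        conj_sc_mul, hb, ← mul_assoc, ← sc_mul, hneg, neg_neg]
      rfl
    obtain ⟨c, u, hcu⟩ := C.inR9_of_fix hfix
    have hu : u + u + (u + u) = u :=
      Prod.ext ((by decide : ∀ v : V, v + v + (v + v) = v) u.1) ((by decide : ∀ v : V, v + v + (v + v) = v) u.2)
    obtain ⟨d, hd⟩ := C.rinv_eq (u + u)
    rw [hu] at hd
    refine ⟨u + u, ?_⟩
    have e : t = sc (c * d⁻¹) * C.rinv (u + u) := by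
      rw [hd, ← mul_assoc, ← mul_assoc, ← sc_mul, inv_mul_cancel_right, ← hcu, mul_assoc, C.iota_mul_self, mul_one]
    have h1 := congrArg (fun x : G9 => (x : M9).trace) e
    beta_reduce at h1
    rw [htr, Units.val_mul, coe_sc, Matrix.smul_mul, one_mul, Matrix.trace_smul, C.trace_rinv, smul_eq_mul, mul_one] at h1
    rw [e, show c * d⁻¹ = 1 from Units.ext h1.symm, sc_one, one_mul]
  refine C.mem_NZ9_of_conj fun w => ?_
  set v := w + w with hv
  have hvv : v + v + -((0 : V × V) + 0) = w := by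
    rw [add_zero, neg_zero, add_zero, hv]
    exact Prod.ext ((by decide : ∀ v : V, v + v + (v + v) = v) w.1) ((by decide : ∀ v : V, v + v + (v + v) = v) w.2)
  obtain ⟨c, hc⟩ := C.rinv_mul v 0
  rw [C.rinv_zero, hvv] at hc
  obtain ⟨a, ha⟩ := key g hg
  obtain ⟨b, hb⟩ := key (g * C.W9 v) (mul_mem hg (hM.W9 v))
  obtain ⟨d, hd⟩ := C.rinv_mul b a
  have e : g * (C.rinv v * C.iota) * g⁻¹ = C.rinv b * C.rinv a := by
    rw [← ha, ← hb, Cube.rinv]; group
  rw [hc, conj_sc_mul, hd] at e
  exact ⟨c⁻¹ * d, b + b + -(a + a), by rw [sc_mul, mul_assoc (sc c⁻¹), ← e, sc_inv, inv_mul_cancel_left]⟩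

end Cfsg.Agent.H1.HeisThree
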