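import Cfsg.Agent.H1.HeisThree.FromData
import Cfsg.Agent.H1.HeisThree.NineMain

/-!
The symplectic type clause in nine dimensions.
-/

set_option autoImplicit false

namespace Cfsg.Agent.H1.HeisThree

open Matrix
open scoped Kronecker

variable {F : Type*} [Field F]

local notation "T3" => ZMod 3
local notation "V" => ZMod 3 × ZMod 3
local notation "J" => ZMod 3 × ZMod 3
local notation "M3" => Matrix (ZMod 3) (ZMod 3) F
local notation "G3" => GL (ZMod 3) F
local notation "M9" => Matrix (ZMod 3 × ZMod 3) (ZMod 3 × ZMod 3) F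
local notation "G9" => GL (ZMod 3 × ZMod 3) F

namespace Cube

variable (C : Cube F)

theorem cube_eq_one_of_mem_RF {g : G9} (h : g ∈ C.RF) : g ^ 3 = 1 := by
  obtain ⟨a, w, rfl⟩ := h
  rw [(show Commute (sc (C.chU a)) (C.W9 w) from sc_comm _ _).mul_pow, C.W9_cube, mul_one, sc_pow, C.chU_pow]
  rw [show ((3 : ℕ) : T3) = 0 from rfl, zero_mul, C.chU_zero, sc_one]

theorem conj_mem_RF {g : G9} (hg : g ∈ C.NZ9) {x : G9} (hx : x ∈ C.RF) : g * x * g⁻¹ ∈ C.RF := by
  obtain ⟨a, w, rfl⟩ := hx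
  obtain ⟨σ, hσ⟩ := hg
  obtain ⟨c, hc⟩ := hσ w
  rw [conj_sc_mul]
  refine mul_mem (C.chU_mem_RF a) ?_
  have h3 : (g * C.W9 w * g⁻¹) ^ 3 = 1 := by rw [conj_pow, C.W9_cube, mul_one, mul_inv_cancel]
  rw [hc, (show Commute (sc c) (C.W9 (σ w)) from sc_comm _ _).mul_pow, C.W9_cube, mul_one, sc_pow, ← sc_one] at h3
  obtain ⟨b, rfl⟩ := C.exists_chU (sc_inj h3)
  exact ⟨b, σ w, hc⟩

theorem mem_NZ9_iff (g : G9) : g ∈ C.NZ9 ↔ ∀ x, x ∈ C.RF ↔ g * x * g⁻¹ ∈ C.RF := by
  constructor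
  · intro hg x
    refine ⟨C.conj_mem_RF hg, fun h => ?_⟩
    have := C.conj_mem_RF (inv_mem hg) h
    rwa [show g⁻¹ * (g * x * g⁻¹) * g⁻¹⁻¹ = x by group] at this
  · intro h
    exact C.mem_NZ9_of_conj fun w => C.inR9_of_mem_RF ((h _).1 (C.W9_mem_RF w))

theorem det_W_cube (v : V) : (C.W v : M3).det ^ 3 = 1 := by
  rw [← Matrix.det_pow, ← Units.val_pow_eq_pow_val, C.W_cube, Units.val_one, Matrix.det_one]

theorem det_tl_W (v : V) : ((tl (C.W v) : G9) : M9).det = 1 := by rw [det_tl, C.det_W_cube]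

theorem det_tl_y : ((tl C.y : G9) : M9).det = 1 := by
  rw [det_tl, show (C.y : M3) = Matrix.diagonal fun i => C.ch (i * i) from rfl, Matrix.det_diagonal,
    ← Finset.prod_pow]
  refine Finset.prod_eq_one fun i _ => ?_
  rw [ch, ← pow_mul, mul_comm, pow_mul, C.cube, one_pow]

theorem det_tl_S : ((tl C.S : G9) : M9).det = 1 ∨ ((tl C.S : G9) : M9).det = -1 := by
  have h : (C.S : M3).det * (C.S : M3).det = 1 := by
    rw [← Matrix.det_mul, ← Units.val_mul, C.S_mul_S, C.det_flip]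
  rw [det_tl]
  rcases mul_self_eq_one_iff.1 h with h | h
  · exact Or.inl (by rw [h, one_pow])
  · exact Or.inr (by rw [h]; norm_num)

theorem det_CZ : (C.CZ : M9).det = 1 := by
  have e : (C.CZ : M9) = Matrix.diagonal fun x : J => C.ch (x.1 * x.2) := by
    ext x y
    rw [CZ, coe_bd, C.W_diag, Matrix.diagonal_apply, Matrix.diagonal_apply]
    by_cases h : x.1 = y.1 <;> simp [h, Prod.ext_iff]
  have hprod : ∀ t : Finset J, ∏ x ∈ t, C.ch (x.1 * x.2) = C.ch (∑ x ∈ t, x.1 * x.2) := by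
    intro t
    induction t using Finset.induction_on with
    | empty => simp [C.ch_zero]
    | insert x t hx ih => rw [Finset.prod_insert hx, Finset.sum_insert hx, ih, C.ch_add]
  rw [e, Matrix.det_diagonal, hprod, show (∑ x : J, x.1 * x.2) = 0 by decide, C.ch_zero]

end Cube

theorem det_sc9 (c : Fˣ) : ((sc c : G9) : M9).det = (c : F) ^ 9 := by
  rw [coe_sc, Matrix.det_smul, Matrix.det_one, mul_one, Fintype.card_prod, ZMod.card]

/-- A shear with determinant one outside the normaliser. -/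
theorem exists_not_mem_NZ9 (C : Cube F) : ∃ g : G9, (g : M9).det = 1 ∧ g ∉ C.NZ9 := by
  have hxy : ((0, 0) : J) ≠ (1, 0) := by decide
  have hdet : (Matrix.transvection ((0, 0) : J) (1, 0) (1 : F)).det = 1 := Matrix.det_transvection_of_ne _ _ hxy _
  obtain ⟨T, hT⟩ : ∃ T : G9, (T : M9) = Matrix.transvection ((0, 0) : J) (1, 0) (1 : F) :=
    ⟨Matrix.GeneralLinearGroup.mkOfDetNeZero _ (ne_of_eq_of_ne hdet one_ne_zero), rfl⟩
  refine ⟨T, by rw [hT]; exact hdet, fun h => ?_⟩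
  obtain ⟨σ, hσ⟩ := h
  obtain ⟨c, hc⟩ := hσ ((0, 1), 0)
  rw [mul_inv_eq_iff_eq_mul] at hc
  have key : ∀ x y : J,
      (((1 + Matrix.single ((0, 0) : J) ((1, 0) : J) (1 : F) : M9) * (C.W9 ((0, 1), 0) : M9) : M9)) x y =
      (c : F) * (((C.W9 (σ ((0, 1), 0)) : M9) * (1 + Matrix.single ((0, 0) : J) ((1, 0) : J) (1 : F) : M9) : M9)) x y := by
    intro x y
    have := congrArg (fun g : G9 => (g : M9) x y) hc
    beta_reduce at this
    rw [Units.val_mul, Units.val_mul, Units.val_mul, hT, Matrix.transvection, coe_sc, Matrix.smul_mul, one_mul, Matrix.smul_mul,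
      Matrix.smul_apply, smul_eq_mul] at this
    exact this
  have k1 := key (0, 0) (0, 0)
  have k2 := key (0, 0) (1, 0)
  generalize σ ((0, 1), 0) = w at k1 k2
  simp [add_mul, mul_add, Matrix.single_mul_apply_same, Matrix.mul_single_apply_same, C.W9_apply,
    C.ch_zero, C.ch_one] at k1 k2
  by_cases hw : ((0 : T3), (0 : T3)) = (w.1.1, w.2.1)
  · obtain ⟨a, b⟩ := Prod.mk.inj hw
    simp [← a, ← b, C.ch_zero] at k1 k2
    exact C.ne_one (by rw [k2, ← k1])
  · rw [if_neg (fun h => hw (Prod.ext h.1 h.2))] at k1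
    exact one_ne_zero k1

/-- The symplectic type clause. -/
theorem symp_clause [Fintype F] (hp : ∃ p : ℕ, p.Prime ∧ Fintype.card F = p ∧ p % 3 = 1)
    {R : Subgroup (GL (Fin 9) F)} (hR : Cfsg.Geo.IsLinearSymplecticTypeData 3 R) :
    Cfsg.Geo.IsMaximalIn (Cfsg.Geo.specialLinear (Fin 9) F)
      (Cfsg.Geo.subgroupNormalizer R ⊓ Cfsg.Geo.specialLinear (Fin 9) F) := by
  obtain ⟨p, hp, hF, h3⟩ := hp
  have hp2 : p ≠ 2 := fun e => by rw [e] at h3; norm_num at h3
  obtain ⟨C, ψ, hψR, hψdet, hψsc⟩ := exists_standard hR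
  set N := Cfsg.Geo.subgroupNormalizer R
  set SL := Cfsg.Geo.specialLinear (Fin 9) F
  have hSL : ∀ g, g ∈ SL ↔ ((ψ g : G9) : M9).det = 1 := fun g => by
    rw [hψdet]
    show Matrix.GeneralLinearGroup.det g = 1 ↔ _
    rw [Units.ext_iff, Matrix.GeneralLinearGroup.val_det_apply, Units.val_one]
  have hN : ∀ g, g ∈ N ↔ ψ g ∈ C.NZ9 := fun g => by
    rw [C.mem_NZ9_iff]
    show g ∈ Subgroup.normalizer (R : Set _) ↔ _
    rw [Subgroup.mem_normalizer_iff]
    constructor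
    · intro h x
      have := h (ψ.symm x)
      rwa [hψR, hψR, map_mul, map_mul, map_inv, ψ.apply_symm_apply] at this
    · intro h x
      rw [hψR, hψR, map_mul, map_mul, map_inv]
      exact h _
  refine ⟨lt_of_le_of_ne inf_le_right fun e => ?_, fun M hM1 hM2 => ?_⟩
  · obtain ⟨g, hg, hgN⟩ := exists_not_mem_NZ9 C
    have h : ψ.symm g ∈ N ⊓ SL := by rw [e, hSL, ψ.apply_symm_apply]; exact hg
    exact hgN (by simpa using (hN _).1 h.1)
  let M' : Subgroup G9 :=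
    { carrier := {g | ∃ c : Fˣ, ψ.symm (sc c * g) ∈ M}
      one_mem' := ⟨1, by rw [sc_one, one_mul, map_one]; exact one_mem _⟩
      mul_mem' := by
        rintro g h ⟨c, hc⟩ ⟨d, hd⟩
        refine ⟨c * d, ?_⟩
        rw [show sc (c * d) * (g * h) = (sc c * g) * (sc d * h) by
          rw [sc_mul, mul_assoc (sc c) g, mul_sc_mul g, mul_assoc], map_mul]
        exact mul_mem hc hd
      inv_mem' := by
        rintro g ⟨c, hc⟩
        refine ⟨c⁻¹, ?_⟩
        rw [sc_comm, sc_inv, ← _root_.mul_inv_rev, map_inv]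
        exact inv_mem hc }
  have gen : ∀ g ∈ C.NZ9, ((g : M9).det = 1 ∨ (g : M9).det = -1) → g ∈ M' := by
    intro g hg hdet
    obtain ⟨c, hc⟩ : ∃ c : Fˣ, (c : F) ^ 9 * (g : M9).det = 1 := by
      rcases hdet with h | h
      · exact ⟨1, by rw [h]; simp⟩
      · exact ⟨-1, by rw [h, Units.val_neg, Units.val_one]; norm_num⟩
    refine ⟨c, hM1 ⟨(hN _).2 ?_, (hSL _).2 ?_⟩⟩
    · rw [ψ.apply_symm_apply]; exact mul_mem (C.sc_mem_NZ9 c) hg
    · rw [ψ.apply_symm_apply, Units.val_mul, Matrix.det_mul, det_sc9, hc]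
  have hC : ContainsN9 C M' :=
    { sc := fun c => ⟨c⁻¹, by rw [← sc_mul, inv_mul_cancel, sc_one, map_one]; exact one_mem _⟩
      W := fun v => gen _ (C.tl_mem_NZ9 (C.W_mem_NZ v)) (Or.inl (C.det_tl_W v))
      S := gen _ (C.tl_mem_NZ9 C.S_mem_NZ) C.det_tl_S
      y := gen _ (C.tl_mem_NZ9 C.y_mem_NZ) (Or.inl C.det_tl_y)
      swap := gen _ C.swap_mem_NZ9 (mul_self_eq_one_iff.1 (by
        rw [← Matrix.det_mul, ← Units.val_mul, swapG_mul_self, Units.val_one, Matrix.det_one]))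
      CZ := gen _ C.CZ_mem_NZ9 (Or.inl C.det_CZ) }
  rcases nine_main hp hF hp2 hC with h | h
  · left
    refine le_antisymm (le_inf (fun m hm => (hN m).2 (h ⟨1, ?_⟩)) hM2) hM1
    rwa [sc_one, one_mul, ψ.symm_apply_apply]
  · right
    refine le_antisymm hM2 fun g hg => ?_
    obtain ⟨c, hc⟩ := h (ψ g) ((hSL g).1 hg)
    have e := (hSL _).1 (hM2 hc)
    rw [ψ.apply_symm_apply, Units.val_mul, Matrix.det_mul, det_sc9, (hSL g).1 hg, mul_one] at e
    have hs : ψ.symm (sc c) ∈ M := hM1 ⟨(hN _).2 (by rw [ψ.apply_symm_apply]; exact C.sc_mem_NZ9 c),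
      (hSL _).2 (by rw [ψ.apply_symm_apply, det_sc9, e])⟩
    have := mul_mem (inv_mem hs) hc
    rwa [map_mul, inv_mul_cancel_left, ψ.symm_apply_apply] at this

end Cfsg.Agent.H1.HeisThree
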