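import Cfsg.Agent.H1.HeisThree.NineModel

/-!
Two commuting pairs with commutator a cube root of unity in nine dimensions are conjugate to the standard ones.
-/

set_option autoImplicit false

namespace Cfsg.Agent.H1.HeisThree

open Matrix
open scoped Kronecker

variable {F : Type*} [Field F]

local notation "T3" => ZMod 3
local notation "V" => ZMod 3 × ZMod 3
local notation "J" => ZMod 3 × ZMod 3
local notation "M9" => Matrix (ZMod 3 × ZMod 3) (ZMod 3 × ZMod 3) F
local notation "G9" => GL (ZMod 3 × ZMod 3) F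

namespace Cube

variable (C : Cube F)

/-- The powers of the root of unity as units. -/
def chU (a : T3) : Fˣ := Units.mk0 (C.ch a) (C.ch_ne_zero a)

theorem coe_chU (a : T3) : (C.chU a : F) = C.ch a := rfl

theorem chU_add (a b : T3) : C.chU (a + b) = C.chU a * C.chU b := Units.ext (C.ch_add a b)

theorem chU_zero : C.chU 0 = 1 := Units.ext C.ch_zero

theorem chU_pow (a : T3) (n : ℕ) : C.chU a ^ n = C.chU ((n : T3) * a) := by
  induction n with
  | zero => rw [pow_zero, Nat.cast_zero, zero_mul, C.chU_zero]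
  | succ n ih => rw [pow_succ, ih, ← C.chU_add, Nat.cast_succ, add_mul, one_mul]

theorem chU_inj {a b : T3} (h : C.chU a = C.chU b) : a = b := C.ch_inj (congrArg Units.val h)

theorem exists_chU {c : Fˣ} (h : c ^ 3 = 1) : ∃ a : T3, c = C.chU a := by
  have h1 : (c : F) ^ 3 = 1 := by rw [← Units.val_pow_eq_pow_val, h, Units.val_one]
  obtain ⟨i, hi, e⟩ := C.prim.eq_pow_of_pow_eq_one h1
  refine ⟨(i : T3), Units.ext ?_⟩
  rw [coe_chU, ch, ZMod.val_natCast, Nat.mod_eq_of_lt hi, e]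

/-- The entries of the standard elements. -/
theorem W9_apply (u : V × V) (x y : J) : (C.W9 u : M9) x y =
    if x = y + (u.1.1, u.2.1) then C.ch (u.1.2 * y.1 + u.2.2 * y.2) else 0 := by
  rw [W9, coe_tl_tr, Matrix.kroneckerMap_apply, coe_W, coe_W, wMat_apply, wMat_apply, C.ch_add]
  simp only [Prod.ext_iff, Prod.fst_add, Prod.snd_add]
  split_ifs <;> simp_all

theorem mul_W9_apply (P : M9) (u : V × V) (x k : J) :
    (P * (C.W9 u : M9)) x k = P x (k + (u.1.1, u.2.1)) * C.ch (u.1.2 * k.1 + u.2.2 * k.2) := by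
  rw [Matrix.mul_apply, Finset.sum_eq_single (k + (u.1.1, u.2.1))]
  · rw [C.W9_apply, if_pos rfl]
  · intro y _ hy
    rw [C.W9_apply, if_neg hy, mul_zero]
  · intro h
    exact absurd (Finset.mem_univ _) h

end Cube

theorem comm_mul {G : Type*} [Group G] {a b x g h : G} (hb : ∀ y, b * y = y * b) (h1 : x * g = a * (g * x))
    (h2 : x * h = b * (h * x)) : x * (g * h) = a * b * (g * h * x) := by
  rw [← mul_assoc x, h1, mul_assoc a (g * x) h, mul_assoc g x h, h2, ← mul_assoc g b, ← hb g]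
  simp only [mul_assoc]

theorem sc_comm_mul {a b : Fˣ} {x g h : G9} (h1 : x * g = sc a * (g * x)) (h2 : x * h = sc b * (h * x)) :
    x * (g * h) = sc (a * b) * (g * h * x) := by
  rw [sc_mul]
  exact comm_mul (sc_comm b) h1 h2

theorem sc_comm_pow {a : Fˣ} {x g : G9} (h : x * g = sc a * (g * x)) (n : ℕ) :
    x * g ^ n = sc (a ^ n) * (g ^ n * x) := by
  induction n with
  | zero => simp [sc_one]
  | succ n ih =>
    rw [pow_succ, pow_succ]
    exact sc_comm_mul ih h

theorem pow_val_add {G : Type*} [Monoid G] {g : G} (h : g ^ 3 = 1) (a b : T3) :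
    g ^ (a + b).val = g ^ a.val * g ^ b.val := by
  rw [← pow_add, ZMod.val_add, ← pow_eq_pow_mod _ h]

/-- Standardisation of two pairs. -/
theorem exists_frame (C : Cube F) {X₁ Y₁ X₂ Y₂ : GL (ZMod 3 × ZMod 3) F} (hX₁ : X₁ ^ 3 = 1) (hY₁ : Y₁ ^ 3 = 1)
    (hX₂ : X₂ ^ 3 = 1) (hY₂ : Y₂ ^ 3 = 1) (h1 : X₁ * Y₁ = sc (C.chU 1) * (Y₁ * X₁))
    (h2 : X₂ * Y₂ = sc (C.chU 1) * (Y₂ * X₂)) (hXX : X₁ * X₂ = X₂ * X₁) (hXY : X₁ * Y₂ = Y₂ * X₁)
    (hYX : Y₁ * X₂ = X₂ * Y₁) (hYY : Y₁ * Y₂ = Y₂ * Y₁) :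
    ∃ P : G9, X₁ * P = P * C.W9 ((0, 1), 0) ∧ Y₁ * P = P * C.W9 ((1, 0), 0) ∧
      X₂ * P = P * C.W9 (0, (0, 1)) ∧ Y₂ * P = P * C.W9 (0, (1, 0)) := by
  classical
  set Yk : J → G9 := fun k => Y₁ ^ k.1.val * Y₂ ^ k.2.val with hYk
  have hY : ∀ k l, Yk (k + l) = Yk k * Yk l := fun k l => by
    simp only [hYk, Prod.fst_add, Prod.snd_add]
    rw [pow_val_add hY₁, pow_val_add hY₂]
    exact (Commute.pow_pow hYY _ _).mul_mul_mul_comm _ _
  have hY0 : Yk 0 = 1 := by simp [hYk]
  have cX1 : ∀ k, X₁ * Yk k = sc (C.chU k.1) * (Yk k * X₁) := fun k => by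
    have a := sc_comm_pow h1 k.1.val
    have b : X₁ * Y₂ ^ k.2.val = sc 1 * (Y₂ ^ k.2.val * X₁) := by
      rw [sc_one, one_mul]; exact Commute.pow_right hXY _
    have := sc_comm_mul a b
    rwa [C.chU_pow, ZMod.natCast_val, ZMod.cast_id, mul_one, mul_one] at this
  have cX2 : ∀ k, X₂ * Yk k = sc (C.chU k.2) * (Yk k * X₂) := fun k => by
    have a : X₂ * Y₁ ^ k.1.val = sc 1 * (Y₁ ^ k.1.val * X₂) := by
      rw [sc_one, one_mul]; exact Commute.pow_right hYX.symm _
    have b := sc_comm_pow h2 k.2.val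
    have := sc_comm_mul a b
    rwa [C.chU_pow, ZMod.natCast_val, ZMod.cast_id, mul_one, one_mul] at this
  set x₁ : M9 := (X₁ : M9) with hx₁
  set x₂ : M9 := (X₂ : M9) with hx₂
  have mX1 : ∀ k, x₁ * (Yk k : M9) = C.ch k.1 • ((Yk k : M9) * x₁) := fun k => by
    have := congrArg (fun g : G9 => (g : M9)) (cX1 k)
    simpa [coe_sc, Cube.coe_chU] using this
  have mX2 : ∀ k, x₂ * (Yk k : M9) = C.ch k.2 • ((Yk k : M9) * x₂) := fun k => by
    have := congrArg (fun g : G9 => (g : M9)) (cX2 k)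
    simpa [coe_sc, Cube.coe_chU] using this
  have c₁ : x₁ * (x₁ * x₁) = 1 := by
    rw [hx₁, ← Units.val_mul, ← Units.val_mul, ← pow_two, ← pow_succ', hX₁, Units.val_one]
  have c₂ : x₂ * (x₂ * x₂) = 1 := by
    rw [hx₂, ← Units.val_mul, ← Units.val_mul, ← pow_two, ← pow_succ', hX₂, Units.val_one]
  have hcomm : x₁ * x₂ = x₂ * x₁ := by rw [hx₁, hx₂, ← Units.val_mul, hXX, Units.val_mul]
  set A : M9 := 1 + x₁ + x₁ * x₁ with hA
  set B : M9 := 1 + x₂ + x₂ * x₂ with hB
  have hx₁A : x₁ * A = A := by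
    rw [hA, mul_add, mul_add, mul_one, c₁]; abel
  have hAx₁ : A * x₁ = A := by
    rw [hA, add_mul, add_mul, one_mul, mul_assoc, c₁]; abel
  have hx₂B : x₂ * B = B := by
    rw [hB, mul_add, mul_add, mul_one, c₂]; abel
  have hBx₂ : B * x₂ = B := by
    rw [hB, add_mul, add_mul, one_mul, mul_assoc, c₂]; abel
  have hAB : A * B = B * A := by
    have c : Commute x₁ x₂ := hcomm
    exact (((Commute.one_left x₂).add_left c).add_left (c.mul_left c) |> fun cA : Commute A x₂ =>
      ((Commute.one_right A).add_right cA).add_right (cA.mul_right cA))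
  set P0 : M9 := A * B with hP0
  have l1 : x₁ * P0 = P0 := by rw [hP0, ← mul_assoc, hx₁A]
  have r1 : P0 * x₁ = P0 := by rw [hAB, mul_assoc, hAx₁]
  have l2 : x₂ * P0 = P0 := by rw [hAB, ← mul_assoc, hx₂B]
  have r2 : P0 * x₂ = P0 := by rw [hP0, mul_assoc, hBx₂]
  have hsq : P0 * P0 = (9 : F) • P0 := by
    have a : P0 * A = (3 : F) • P0 := by
      rw [hA, mul_add, mul_add, mul_one, r1, ← mul_assoc, r1, r1, ← two_smul F P0]
      module
    have b : P0 * B = (3 : F) • P0 := by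
      rw [hB, mul_add, mul_add, mul_one, r2, ← mul_assoc, r2, r2, ← two_smul F P0]
      module
    calc P0 * P0 = P0 * A * B := by rw [hP0]; simp only [mul_assoc]
      _ = (9 : F) • P0 := by rw [a, Matrix.smul_mul, b, smul_smul]; norm_num
  have horth : ∀ k, k ≠ 0 → P0 * (Yk k : M9) * P0 = 0 := by
    intro k hk
    set Z := P0 * (Yk k : M9) * P0 with hZ
    have e1 : Z = C.ch k.1 • Z := by
      calc Z = P0 * x₁ * (Yk k : M9) * P0 := by rw [r1]
        _ = P0 * (x₁ * (Yk k : M9)) * P0 := by rw [mul_assoc P0]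
        _ = C.ch k.1 • (P0 * (Yk k : M9) * (x₁ * P0)) := by
          rw [mX1, Matrix.mul_smul, Matrix.smul_mul]; simp only [mul_assoc]
        _ = C.ch k.1 • Z := by rw [l1]
    have e2 : Z = C.ch k.2 • Z := by
      calc Z = P0 * x₂ * (Yk k : M9) * P0 := by rw [r2]
        _ = P0 * (x₂ * (Yk k : M9)) * P0 := by rw [mul_assoc P0]
        _ = C.ch k.2 • (P0 * (Yk k : M9) * (x₂ * P0)) := by
          rw [mX2, Matrix.mul_smul, Matrix.smul_mul]; simp only [mul_assoc]
        _ = C.ch k.2 • Z := by rw [l2]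
    by_contra hZ0
    have out : ∀ c : F, Z = c • Z → c = 1 := fun c hc => by
      by_contra hc1
      have : (c - 1) • Z = 0 := by rw [sub_smul, ← hc, one_smul, sub_self]
      exact hZ0 ((smul_eq_zero.1 this).resolve_left (sub_ne_zero.2 hc1))
    exact hk (Prod.ext (C.ch_eq_one (out _ e1)) (C.ch_eq_one (out _ e2)))
  have h3 : (3 : F) ≠ 0 := C.three_ne_zero
  have tw : ∀ (x g : M9) (c : F), g * x = c • (x * g) → g * (1 + x + x * x) = (1 + c • x + (c * c) • (x * x)) * g := by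
    intro x g c hc
    rw [mul_add, mul_add, mul_one, ← mul_assoc, hc, Matrix.smul_mul, mul_assoc x g x, hc, Matrix.mul_smul, smul_smul]
    simp only [add_mul, one_mul, Matrix.smul_mul, mul_assoc]
  have key : ∀ (x : M9) (y : G9) (Z : M9), x * (y : M9) = C.ω • ((y : M9) * x) → Commute (y : M9) Z →
      (1 + x + x * x) * Z = 0 → Z = 0 := by
    intro x y Z hxy hyZ h0
    have hu : IsUnit (y : M9) := y.isUnit
    have hyx : (y : M9) * x = (C.ω * C.ω) • (x * (y : M9)) := by
      rw [hxy, smul_smul, show C.ω * C.ω * C.ω = 1 by rw [← pow_two, ← pow_succ, C.cube], one_smul]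
    have e1 : (1 + (C.ω * C.ω) • x + C.ω • (x * x)) * Z = 0 := by
      have e := congrArg ((y : M9) * ·) h0
      beta_reduce at e
      rw [mul_zero, ← mul_assoc, tw x _ _ hyx, mul_assoc, hyZ.eq, ← mul_assoc,
        show C.ω * C.ω * (C.ω * C.ω) = C.ω by linear_combination C.ω * C.cube] at e
      exact hu.mul_left_eq_zero.1 e
    have hyy : Commute (((y * y : G9)) : M9) Z := by rw [Units.val_mul]; exact hyZ.mul_left hyZ
    have hy2x : ((y * y : G9) : M9) * x = C.ω • (x * ((y * y : G9) : M9)) := by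
      rw [Units.val_mul, mul_assoc, hyx, Matrix.mul_smul, ← mul_assoc, hyx, Matrix.smul_mul, smul_smul, mul_assoc x,
        show C.ω * C.ω * (C.ω * C.ω) = C.ω by linear_combination C.ω * C.cube]
    have e2 : (1 + C.ω • x + (C.ω * C.ω) • (x * x)) * Z = 0 := by
      have e := congrArg (((y * y : G9) : M9) * ·) h0
      beta_reduce at e
      rw [mul_zero, ← mul_assoc, tw x _ _ hy2x, mul_assoc, hyy.eq, ← mul_assoc] at e
      exact (y * y).isUnit.mul_left_eq_zero.1 e
    have hsum : (1 + x + x * x) + (1 + (C.ω * C.ω) • x + C.ω • (x * x)) +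
        (1 + C.ω • x + (C.ω * C.ω) • (x * x)) = (3 : F) • (1 : M9) := by
      have h := C.sq_add
      match_scalars <;> first | linear_combination h | linear_combination -h | ring
    have := congrArg (· * Z) hsum
    beta_reduce at this
    rw [add_mul, add_mul, h0, e1, e2, add_zero, add_zero, Matrix.smul_mul, one_mul] at this
    exact (smul_eq_zero.1 this.symm).resolve_left h3
  have hP0ne : P0 ≠ 0 := by
    intro h0
    have hB0 : B = 0 := by
      refine key x₁ Y₁ B ?_ ?_ h0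
      · have := congrArg (fun g : G9 => (g : M9)) h1
        simpa [coe_sc, Cube.coe_chU, C.ch_one] using this
      · have c : Commute (Y₁ : M9) x₂ := by
          rw [hx₂]; exact (show Commute Y₁ X₂ from hYX).units_val
        exact ((Commute.one_right _).add_right c).add_right (c.mul_right c)
    have h10 : (1 : M9) = 0 := by
      refine key x₂ Y₂ 1 ?_ (Commute.one_right _) (by rw [mul_one]; exact hB0)
      have := congrArg (fun g : G9 => (g : M9)) h2
      simpa [coe_sc, Cube.coe_chU, C.ch_one] using this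
    exact one_ne_zero h10
  obtain ⟨a, b, hab⟩ : ∃ a b, P0 a b ≠ 0 := by
    by_contra hh
    push Not at hh
    exact hP0ne (Matrix.ext fun i j => hh i j)
  have h9 : (9 : F) * P0 a b ≠ 0 := mul_ne_zero (by rw [show (9 : F) = 3 * 3 by norm_num]; exact mul_ne_zero h3 h3) hab
  set Pm : M9 := Matrix.of fun x k => ((Yk k : M9) * P0) x b with hPm
  set Qm : M9 := Matrix.of fun k x => (P0 * (Yk (-k) : M9)) a x / (9 * P0 a b) with hQm
  have hQP : Qm * Pm = 1 := by
    ext k l
    have e : (Qm * Pm) k l = (P0 * (Yk (l - k) : M9) * P0) a b / (9 * P0 a b) := by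
      rw [sub_eq_neg_add, hY, Units.val_mul,
        show P0 * ((Yk (-k) : M9) * (Yk l : M9)) * P0 = (P0 * (Yk (-k) : M9)) * ((Yk l : M9) * P0) by
          simp only [mul_assoc],
        Matrix.mul_apply, Matrix.mul_apply, Finset.sum_div]
      exact Finset.sum_congr rfl fun x _ => by simp [hPm, hQm, div_mul_eq_mul_div]
    rw [e]
    by_cases hkl : k = l
    · subst hkl
      rw [sub_self, hY0, Units.val_one, mul_one, hsq, Matrix.smul_apply, smul_eq_mul, div_self h9, Matrix.one_apply_eq]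
    · rw [horth _ (sub_ne_zero.2 (Ne.symm hkl)), Matrix.zero_apply, zero_div, Matrix.one_apply_ne hkl]
  refine ⟨⟨Pm, Qm, mul_eq_one_comm.1 hQP, hQP⟩, ?_, ?_, ?_, ?_⟩
  all_goals
    apply Units.ext
    rw [Units.val_mul, Units.val_mul]
    ext x k
    rw [C.mul_W9_apply]
    show ((_ : M9) * Pm) x k = Pm x _ * _
    rw [Matrix.mul_apply]
  · have e : ∑ y, x₁ x y * Pm y k = (x₁ * (Yk k : M9) * P0) x b := by
      rw [mul_assoc, Matrix.mul_apply (M := x₁)]; rfl
    rw [hx₁] at e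
    rw [e, ← hx₁, mX1, Matrix.smul_mul, mul_assoc, l1]
    simp [hPm, mul_comm, show ((0 : T3), (0 : T3)) = (0 : J) from rfl]
  · have e : ∑ y, (Y₁ : M9) x y * Pm y k = ((Yk (k + (1, 0)) : M9) * P0) x b := by
      rw [add_comm, hY, show Yk (1, 0) = Y₁ by simp [hYk, ZMod.val_one], Units.val_mul, mul_assoc,
        Matrix.mul_apply (M := (Y₁ : M9))]
      rfl
    rw [e]
    simp [hPm, C.ch_zero]
  · have e : ∑ y, x₂ x y * Pm y k = (x₂ * (Yk k : M9) * P0) x b := by
      rw [mul_assoc, Matrix.mul_apply (M := x₂)]; rfl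
    rw [hx₂] at e
    rw [e, ← hx₂, mX2, Matrix.smul_mul, mul_assoc, l2]
    simp [hPm, mul_comm, show ((0 : T3), (0 : T3)) = (0 : J) from rfl]
  · have e : ∑ y, (Y₂ : M9) x y * Pm y k = ((Yk (k + (0, 1)) : M9) * P0) x b := by
      rw [add_comm, hY, show Yk (0, 1) = Y₂ by simp [hYk, ZMod.val_one], Units.val_mul, mul_assoc,
        Matrix.mul_apply (M := (Y₂ : M9))]
      rfl
    rw [e]
    simp [hPm, C.ch_zero]

end Cfsg.Agent.H1.HeisThree
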