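import Cfsg.Agent.H1.HeisThree.Frame

/-!
A group of exponent three with scalar commutators and large span is conjugate to the standard one.
-/

set_option autoImplicit false

namespace Cfsg.Agent.H1.HeisThree

open Matrix

variable {F : Type*} [Field F]

local notation "T3" => ZMod 3
local notation "V" => ZMod 3 × ZMod 3
local notation "J" => ZMod 3 × ZMod 3
local notation "G9" => GL (ZMod 3 × ZMod 3) F

/-- A predicate closed under addition is everywhere true once it holds at the four generators. -/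
theorem forall_of_gen {Q : V × V → Prop} (h0 : Q 0) (hadd : ∀ u w, Q u → Q w → Q (u + w))
    (h1 : Q ((1, 0), 0)) (h2 : Q ((0, 1), 0)) (h3 : Q (0, (1, 0))) (h4 : Q (0, (0, 1))) : ∀ w, Q w := by
  intro w
  have mult : ∀ (a : T3) u, Q u → Q (a • u) := by
    intro a u hu
    obtain rfl | rfl | rfl : a = 0 ∨ a = 1 ∨ a = 2 := by revert a; decide
    · rwa [zero_smul]
    · rwa [one_smul]
    · rw [show (2 : T3) = 1 + 1 from rfl, add_smul, one_smul]; exact hadd _ _ hu hu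
  have hw : w = w.1.1 • (((1, 0), 0) : V × V) + w.1.2 • (((0, 1), 0) : V × V) +
      w.2.1 • ((0, (1, 0)) : V × V) + w.2.2 • ((0, (0, 1)) : V × V) := by
    simp [Prod.ext_iff]
  rw [hw]
  exact hadd _ _ (hadd _ _ (hadd _ _ (mult _ _ h1) (mult _ _ h2)) (mult _ _ h3)) (mult _ _ h4)

namespace Cube

variable (C : Cube F)

theorem W9_mul' (u w : V × V) :
    C.W9 u * C.W9 w = sc (C.chU (u.1.2 * w.1.1 + u.2.2 * w.2.1)) * C.W9 (u + w) := C.W9_mul u w

/-- The extraspecial group. -/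
def RF : Subgroup G9 where
  carrier := {g | ∃ (a : T3) (w : V × V), g = sc (C.chU a) * C.W9 w}
  one_mem' := ⟨0, 0, by rw [C.chU_zero, sc_one, C.W9_zero, one_mul]⟩
  mul_mem' := by
    rintro _ _ ⟨a, u, rfl⟩ ⟨b, w, rfl⟩
    refine ⟨a + b + (u.1.2 * w.1.1 + u.2.2 * w.2.1), u + w, ?_⟩
    rw [mul_assoc (sc _) (C.W9 u), ← mul_assoc (C.W9 u), ← sc_comm, mul_assoc (sc _) (C.W9 u), C.W9_mul',
      C.chU_add (a + b), C.chU_add a, sc_mul, sc_mul]
    simp only [mul_assoc]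
  inv_mem' := by
    rintro _ ⟨a, u, rfl⟩
    refine ⟨-a + -(u.1.2 * (-u).1.1 + u.2.2 * (-u).2.1), -u, inv_eq_of_mul_eq_one_right ?_⟩
    rw [mul_assoc (sc _) (C.W9 u), ← mul_assoc (C.W9 u), ← sc_comm, mul_assoc (sc _) (C.W9 u), C.W9_mul',
      add_neg_cancel, C.W9_zero, mul_one, ← sc_mul, ← sc_mul, ← C.chU_add, ← C.chU_add]
    rw [show a + (-a + -(u.1.2 * (-u).1.1 + u.2.2 * (-u).2.1) + (u.1.2 * (-u).1.1 + u.2.2 * (-u).2.1)) = 0 by abel,
      C.chU_zero, sc_one]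

theorem chU_mem_RF (a : T3) : sc (C.chU a) ∈ C.RF := ⟨a, 0, by rw [C.W9_zero, mul_one]⟩

theorem W9_mem_RF (w : V × V) : C.W9 w ∈ C.RF := ⟨0, w, by rw [C.chU_zero, sc_one, one_mul]⟩

theorem inR9_of_mem_RF {g : G9} (h : g ∈ C.RF) : C.InR9 g := by
  obtain ⟨a, w, rfl⟩ := h; exact ⟨_, w, rfl⟩

/-- An element commuting with the extraspecial group is a scalar. -/
theorem eq_sc_of_comm {k : G9} (h : ∀ w, k * C.W9 w = C.W9 w * k) : ∃ c : Fˣ, k = sc c := by
  obtain ⟨c, w, rfl⟩ := C.inR9_of_fix (g := k) fun w => ⟨1, by rw [h, mul_inv_cancel_right, sc_one, one_mul]; rfl⟩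
  have hw : ∀ u, e9 w u = 0 := by
    intro u
    obtain ⟨d, hd, hd'⟩ := C.W9_conj w u
    have e : C.W9 u = sc d * C.W9 u := by
      rw [← hd]
      have := h u
      rw [mul_assoc, ← mul_assoc (C.W9 u), ← sc_comm, mul_assoc (sc c) (C.W9 u)] at this
      rw [mul_left_cancel this, mul_inv_cancel_right]
    have : (1 : Fˣ) = d := (C.sc_W9_inj (c := 1) (d := d) (u := u) (w := u) (by rw [sc_one, one_mul]; exact e)).1
    exact C.ch_eq_one (by rw [← hd', ← this, Units.val_one])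
  have h1 := hw ((1, 0), 0)
  have h2 := hw ((0, 1), 0)
  have h3 := hw (0, (1, 0))
  have h4 := hw (0, (0, 1))
  simp [e9] at h1 h2 h3 h4
  have : w = 0 := Prod.ext (Prod.ext h2 h1) (Prod.ext h4 h3)
  exact ⟨c, by rw [this, C.W9_zero, mul_one]⟩

/-- The conditions on a group to be standardised. -/
structure Heis (R : Subgroup (GL (ZMod 3 × ZMod 3) F)) : Prop where
  cen : ∀ g ∈ R, (∀ x ∈ R, g * x = x * g) → ∃ a : T3, g = sc (C.chU a)
  scMem : ∀ a : T3, sc (C.chU a) ∈ R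
  cube : ∀ g ∈ R, g ^ 3 = 1
  comm : ∀ x ∈ R, ∀ y ∈ R, ∃ a : T3, x * y = sc (C.chU a) * (y * x)
  big : 27 < Nat.card R

variable {C}

theorem Heis.exists_pair {R : Subgroup G9} (hR : C.Heis R) {x y : G9} (hx : x ∈ R) (hy : y ∈ R)
    (h : x * y ≠ y * x) : ∃ n : ℕ, x * y ^ n = sc (C.chU 1) * (y ^ n * x) := by
  obtain ⟨a, ha⟩ := hR.comm x hx y hy
  have ha0 : a ≠ 0 := fun e => h (by rw [ha, e, C.chU_zero, sc_one, one_mul])
  refine ⟨a.val, ?_⟩
  rw [sc_comm_pow ha, C.chU_pow, ZMod.natCast_val, ZMod.cast_id,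
    (by decide : ∀ b : T3, b ≠ 0 → b * b = 1) a ha0]

/-- Reduction modulo a pair. -/
theorem Heis.reduce {R : Subgroup G9} (hR : C.Heis R) {X Y : G9} (hX : X ∈ R) (hY : Y ∈ R)
    (h : X * Y = sc (C.chU 1) * (Y * X)) {g : G9} (hg : g ∈ R) :
    ∃ a b : ℕ, X * (g * (Y ^ a * X ^ b)) = g * (Y ^ a * X ^ b) * X ∧
      Y * (g * (Y ^ a * X ^ b)) = g * (Y ^ a * X ^ b) * Y := by
  obtain ⟨α, hα⟩ := hR.comm X hX g hg
  obtain ⟨β, hβ⟩ := hR.comm Y hY g hg
  refine ⟨(-α).val, β.val, ?_, ?_⟩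
  · have h1 := sc_comm_mul hα (sc_comm_mul (sc_comm_pow h (-α).val)
      (b := 1) (h := X ^ β.val) (by rw [sc_one, one_mul]; exact (Commute.self_pow X _).eq))
    rw [C.chU_pow, ZMod.natCast_val, ZMod.cast_id, mul_one, mul_one, ← C.chU_add, add_neg_cancel,
      C.chU_zero, sc_one, one_mul] at h1
    exact h1
  · have h' : Y * X = sc (C.chU (-1)) * (X * Y) := by
      rw [h, ← mul_assoc, ← sc_mul, ← C.chU_add, neg_add_cancel, C.chU_zero, sc_one, one_mul]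
    have h1 := sc_comm_mul hβ (sc_comm_mul (a := 1) (g := Y ^ (-α).val)
      (by rw [sc_one, one_mul]; exact (Commute.self_pow Y _).eq) (sc_comm_pow h' β.val))
    rw [C.chU_pow, ZMod.natCast_val, ZMod.cast_id, one_mul, ← C.chU_add, mul_neg, mul_one, add_neg_cancel,
      C.chU_zero, sc_one, one_mul] at h1
    exact h1

/-- Standardisation. -/
theorem Heis.exists_conj [Finite F] {R : Subgroup (GL (ZMod 3 × ZMod 3) F)} (hR : C.Heis R) :
    ∃ P : G9, ∀ g, g ∈ R ↔ P⁻¹ * g * P ∈ C.RF := by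
  classical
  obtain ⟨X₁, hX₁, Y₀, hY₀, hne⟩ : ∃ x ∈ R, ∃ y ∈ R, x * y ≠ y * x := by
    by_contra hh
    push Not at hh
    have : Nat.card R ≤ Nat.card T3 := by
      refine Nat.card_le_card_of_surjective (fun a : T3 => (⟨sc (C.chU a), hR.scMem a⟩ : R)) ?_
      rintro ⟨g, hg⟩
      obtain ⟨a, ha⟩ := hR.cen g hg (hh g hg)
      exact ⟨a, Subtype.ext ha.symm⟩
    have := hR.big
    simp at *
    omega
  obtain ⟨n, h1⟩ := hR.exists_pair hX₁ hY₀ hne
  set Y₁ := Y₀ ^ n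
  have hY₁ : Y₁ ∈ R := pow_mem hY₀ n
  obtain ⟨X₂, hX₂, c1, c2, Z, hZ, hne2⟩ :
      ∃ x ∈ R, X₁ * x = x * X₁ ∧ Y₁ * x = x * Y₁ ∧ ∃ z ∈ R, x * z ≠ z * x := by
    by_contra hh
    push Not at hh
    have : Nat.card R ≤ Nat.card (T3 × T3 × T3) := by
      refine Nat.card_le_card_of_surjective (fun t : T3 × T3 × T3 =>
        (⟨sc (C.chU t.1) * (X₁ ^ t.2.1.val * Y₁ ^ t.2.2.val),
          mul_mem (hR.scMem _) (mul_mem (pow_mem hX₁ _) (pow_mem hY₁ _))⟩ : R)) ?_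
      rintro ⟨g, hg⟩
      obtain ⟨a, b, e1, e2⟩ := hR.reduce hX₁ hY₁ h1 hg
      have hk : g * (Y₁ ^ a * X₁ ^ b) ∈ R := mul_mem hg (mul_mem (pow_mem hY₁ _) (pow_mem hX₁ _))
      obtain ⟨c, hc⟩ := hR.cen _ hk (hh _ hk e1 e2)
      refine ⟨(c, -(b : T3), -(a : T3)), Subtype.ext ?_⟩
      have inv : ∀ (u : G9) (i : ℕ), u ∈ R → u ^ (-(i : T3)).val = (u ^ i)⁻¹ := by
        intro u i hu
        refine eq_inv_of_mul_eq_one_left ?_
        rw [← pow_add, pow_eq_pow_mod _ (hR.cube u hu), show ((-(i : T3)).val + i) % 3 = 0 from ?_, pow_zero]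
        rw [← ZMod.val_natCast, Nat.cast_add, ZMod.natCast_val, ZMod.cast_id, neg_add_cancel, ZMod.val_zero]
      show sc (C.chU c) * (X₁ ^ (-(b : T3)).val * Y₁ ^ (-(a : T3)).val) = g
      rw [inv _ _ hX₁, inv _ _ hY₁, ← hc]
      group
    have := hR.big
    simp at *
    omega
  obtain ⟨a, b, e1, e2⟩ := hR.reduce hX₁ hY₁ h1 hZ
  set Z' := Z * (Y₁ ^ a * X₁ ^ b) with hZ'
  have hZ'R : Z' ∈ R := mul_mem hZ (mul_mem (pow_mem hY₁ _) (pow_mem hX₁ _))
  have hne3 : X₂ * Z' ≠ Z' * X₂ := by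
    intro h
    apply hne2
    have hc : Commute X₂ (Y₁ ^ a * X₁ ^ b) :=
      (Commute.pow_right c2.symm a).mul_right (Commute.pow_right c1.symm b)
    have := (show Commute X₂ Z' from h).mul_right hc.inv_right
    rwa [hZ', mul_inv_cancel_right] at this
  obtain ⟨m, h2⟩ := hR.exists_pair hX₂ hZ'R hne3
  set Y₂ := Z' ^ m
  have hY₂ : Y₂ ∈ R := pow_mem hZ'R m
  obtain ⟨P, q1, q2, q3, q4⟩ := exists_frame C (hR.cube _ hX₁) (hR.cube _ hY₁) (hR.cube _ hX₂) (hR.cube _ hY₂)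
    h1 h2 c1 (Commute.pow_right e1 m) c2 (Commute.pow_right e2 m)
  refine ⟨P, ?_⟩
  set Q : V × V → Prop := fun w => P * C.W9 w * P⁻¹ ∈ R
  have hQ : ∀ w, Q w := by
    refine forall_of_gen (by show _ ∈ R; rw [C.W9_zero, mul_one, mul_inv_cancel]; exact one_mem _) ?_ ?_ ?_ ?_ ?_
    · intro u w hu hw
      have h := mul_mem hu hw
      rw [show P * C.W9 u * P⁻¹ * (P * C.W9 w * P⁻¹) = P * (C.W9 u * C.W9 w) * P⁻¹ by group, C.W9_mul',
        conj_sc_mul] at h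
      exact (Subgroup.mul_mem_cancel_left R (hR.scMem _)).1 h
    all_goals show _ ∈ R
    · rwa [← q2, mul_inv_cancel_right]
    · rwa [← q1, mul_inv_cancel_right]
    · rwa [← q4, mul_inv_cancel_right]
    · rwa [← q3, mul_inv_cancel_right]
  intro g
  constructor
  · intro hg
    obtain ⟨i, j, f1, f2⟩ := hR.reduce hX₁ hY₁ h1 hg
    set g' := g * (Y₁ ^ i * X₁ ^ j) with hg'
    have hg'R : g' ∈ R := mul_mem hg (mul_mem (pow_mem hY₁ _) (pow_mem hX₁ _))
    obtain ⟨k, l, f3, f4⟩ := hR.reduce hX₂ hY₂ h2 hg'R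
    set g'' := g' * (Y₂ ^ k * X₂ ^ l) with hg''
    have hg''R : g'' ∈ R := mul_mem hg'R (mul_mem (pow_mem hY₂ _) (pow_mem hX₂ _))
    have f1' : X₁ * g'' = g'' * X₁ :=
      (show Commute X₁ g' from f1).mul_right
        ((Commute.pow_right (Commute.pow_right e1 m) k).mul_right (Commute.pow_right c1 l))
    have f2' : Y₁ * g'' = g'' * Y₁ :=
      (show Commute Y₁ g' from f2).mul_right
        ((Commute.pow_right (Commute.pow_right e2 m) k).mul_right (Commute.pow_right c2 l))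
    obtain ⟨c, hc⟩ := C.eq_sc_of_comm (k := P⁻¹ * g'' * P) (by
      have conv : ∀ X u, X * P = P * C.W9 u → X * g'' = g'' * X →
          Commute (P⁻¹ * g'' * P) (C.W9 u) := by
        intro X u hu hX
        rw [show C.W9 u = P⁻¹ * X * P by rw [mul_assoc, hu, inv_mul_cancel_left]]
        show _ = _
        calc P⁻¹ * g'' * P * (P⁻¹ * X * P) = P⁻¹ * (g'' * X) * P := by group
          _ = P⁻¹ * (X * g'') * P := by rw [hX]
          _ = _ := by group
      refine forall_of_gen (Q := fun w => Commute (P⁻¹ * g'' * P) (C.W9 w)) ?_ ?_ (conv _ _ q2 f2')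
        (conv _ _ q1 f1') (conv _ _ q4 f4) (conv _ _ q3 f3)
      · rw [C.W9_zero]; exact Commute.one_right _
      · intro u w hu hw
        have h := hu.mul_right hw
        rw [C.W9_mul'] at h
        have hs := (show Commute (sc (C.chU (u.1.2 * w.1.1 + u.2.2 * w.2.1))) (P⁻¹ * g'' * P) from
          sc_comm _ _).symm.inv_right.mul_right h
        rwa [inv_mul_cancel_left] at hs)
    have hgc : g'' = sc c := by
      rw [show g'' = P * (P⁻¹ * g'' * P) * P⁻¹ by group, hc, ← sc_comm, mul_inv_cancel_right]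
    obtain ⟨d, hd⟩ : ∃ d : T3, c = C.chU d := by
      refine C.exists_chU (sc_inj (F := F) (κ := J) ?_)
      rw [← sc_pow, ← hgc, hR.cube _ hg''R, sc_one]
    set S := C.RF.comap (MulAut.conj P⁻¹).toMonoidHom with hS
    have memS : ∀ X, X ∈ S ↔ P⁻¹ * X * P ∈ C.RF := fun X => by simp [hS]
    rw [← memS]
    have mem : ∀ X u, X * P = P * C.W9 u → X ∈ S := fun X u hu => by
      rw [memS, mul_assoc, hu, inv_mul_cancel_left]; exact C.W9_mem_RF u
    rw [show g = g'' * (Y₂ ^ k * X₂ ^ l)⁻¹ * (Y₁ ^ i * X₁ ^ j)⁻¹ by rw [hg'', hg']; group]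
    refine mul_mem (mul_mem ?_ (inv_mem (mul_mem (pow_mem (mem _ _ q4) _) (pow_mem (mem _ _ q3) _))))
      (inv_mem (mul_mem (pow_mem (mem _ _ q2) _) (pow_mem (mem _ _ q1) _)))
    rw [memS, hc, hd]
    exact C.chU_mem_RF d
  · rintro ⟨a, w, e⟩
    rw [show g = P * (P⁻¹ * g * P) * P⁻¹ by group, e, conj_sc_mul]
    exact mul_mem (hR.scMem a) (hQ w)

end Cube

end Cfsg.Agent.H1.HeisThree
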