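import Cfsg.Prelude.Def_GeometricClasses
import Cfsg.Agent.Aschbacher.Subfield
import Cfsg.Agent.H1.HeisThree.Rep
import Cfsg.Agent.H1.HeisThree.Centre

/-!
The standardisation of a linear symplectic type group of order `3^5`.
-/

set_option autoImplicit false

namespace Cfsg.Agent.H1.HeisThree

open Matrix
open scoped commutatorElement

section Card

variable {F : Type*} [Field F] [Finite F] {n : Type} [Fintype n] [DecidableEq n] [Nonempty n]

/-- A lower bound from spanning. -/
theorem card_ge {R : Subgroup (GL n F)} (hRi : Cfsg.Geo.ActsAbsolutelyIrreducibly (Cfsg.Geo.matrixSet R)) {z : ℕ}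
    (hRZ : Nat.card (Subgroup.center R) = z) : z * (Fintype.card n * Fintype.card n) ≤ Nat.card R := by
  classical
  have hfin : Finite R := Finite.of_injective (fun g : R => ((g : GL n F) : Matrix n n F))
    fun a b h => Subtype.ext (Units.ext h)
  rw [Subgroup.card_eq_card_quotient_mul_card_subgroup (Subgroup.center R), hRZ, mul_comm]
  refine Nat.mul_le_mul_right z ?_
  letI := Fintype.ofFinite (R ⧸ Subgroup.center R)
  let v : R ⧸ Subgroup.center R → Matrix n n F := fun q => ((q.out : R) : GL n F)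
  set S := Submodule.span F (Set.range v) with hS
  have hmem : ∀ g : R, ((g : GL n F) : Matrix n n F) ∈ S := by
    intro g
    obtain ⟨z, hz⟩ : ∃ z : Subgroup.center R, (QuotientGroup.mk g : R ⧸ Subgroup.center R).out = g * z :=
      QuotientGroup.mk_out_eq_mul _ g
    obtain ⟨c, hc⟩ := hRi.2 ((z : R) : GL n F) (by
      rintro _ ⟨h, hh, rfl⟩
      have e := congrArg (fun a : R => ((a : GL n F) : Matrix n n F)) (Subgroup.mem_center_iff.1 z.2 ⟨h, hh⟩)
      exact e.symm)
    have hc0 : c ≠ 0 := by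
      rintro rfl
      exact ((z : R) : GL n F).ne_zero (by rw [hc, zero_smul])
    have e : ((g : GL n F) : Matrix n n F) = c⁻¹ • v (QuotientGroup.mk g) := by
      show _ = c⁻¹ • ((((QuotientGroup.mk g : R ⧸ Subgroup.center R).out : R) : GL n F) : Matrix n n F)
      rw [hz, Subgroup.coe_mul, Units.val_mul, hc, mul_smul_comm, mul_one, smul_smul, inv_mul_cancel₀ hc0, one_smul]
    rw [e]
    exact Submodule.smul_mem _ _ (Submodule.subset_span ⟨_, rfl⟩)
  have hclosed : ∀ a ∈ S, ∀ b ∈ S, a * b ∈ S := by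
    intro a ha b hb
    induction ha using Submodule.span_induction with
    | mem a ha =>
      induction hb using Submodule.span_induction with
      | mem b hb =>
        obtain ⟨p, rfl⟩ := ha
        obtain ⟨q, rfl⟩ := hb
        exact hmem ((p.out : R) * (q.out : R))
      | zero => rw [mul_zero]; exact zero_mem _
      | add b b' _ _ h h' => rw [mul_add]; exact add_mem h h'
      | smul t b _ h => rw [mul_smul_comm]; exact Submodule.smul_mem _ _ h
    | zero => rw [zero_mul]; exact zero_mem _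
    | add a a' _ _ h h' => rw [add_mul]; exact add_mem h h'
    | smul t a _ h => rw [smul_mul_assoc]; exact Submodule.smul_mem _ _ h
  have htop : S = ⊤ := by
    rw [eq_top_iff]
    intro M _
    have hM : M ∈ Aschbacher.env R := by rw [Aschbacher.env_eq_top hRi]; trivial
    induction hM using Algebra.adjoin_induction with
    | mem x hx => obtain ⟨g, hg, rfl⟩ := hx; exact hmem ⟨g, hg⟩
    | algebraMap c =>
      rw [Algebra.algebraMap_eq_smul_one]
      exact Submodule.smul_mem _ _ (by simpa using hmem 1)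
    | add x y _ _ hx hy => exact Submodule.add_mem _ (hx trivial) (hy trivial)
    | mul x y _ _ hx hy => exact hclosed _ (hx trivial) _ (hy trivial)
  have h1 := finrank_range_le_card (R := F) v
  rw [Set.finrank, ← hS, htop, finrank_top, Module.finrank_matrix, Module.finrank_self, mul_one] at h1
  rwa [Nat.card_eq_fintype_card]

end Card

variable {F : Type*} [Field F]

local notation "T3" => ZMod 3
local notation "J" => ZMod 3 × ZMod 3
local notation "G9" => GL (ZMod 3 × ZMod 3) F

/-- Standardisation of the data. -/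
theorem exists_standard [Fintype F] {R : Subgroup (GL (Fin 9) F)} (hR : Cfsg.Geo.IsLinearSymplecticTypeData 3 R) :
    ∃ (C : Cube F) (ψ : GL (Fin 9) F ≃* GL (ZMod 3 × ZMod 3) F), (∀ g, g ∈ R ↔ ψ g ∈ C.RF) ∧
      (∀ g, ((ψ g : G9) : Matrix J J F).det = (g : Matrix (Fin 9) (Fin 9) F).det) ∧
      ∀ c : Fˣ, ψ (sc c) = sc c := by
  classical
  obtain ⟨p, e, -, -, h⟩ := hR.field
  have hZ : Nat.card (Subgroup.center R) = 3 := by
    rcases h with ⟨-, -, hZ, -⟩ | ⟨h2, -⟩ | ⟨h2, -⟩
    · exact hZ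
    all_goals exact absurd h2 (by decide)
  have hs := hR.symplecticType
  have hexp : ∀ x : R, x ^ 3 = 1 := fun x => by
    have := Monoid.pow_exponent_eq_one x
    rwa [hs.exponent_eq, show 3 * Nat.gcd 2 3 = 3 by decide] at this
  have hcomm2 := commutator_le_center hs.pGroup hexp hs.cyclic_of_characteristic
  have hscal : ∀ g ∈ R, (∀ x ∈ R, g * x = x * g) → ∃ c : Fˣ, g = sc c := by
    intro g hg hx
    obtain ⟨c, hc⟩ := hR.absIrred.2 (g : Matrix (Fin 9) (Fin 9) F) (by
      rintro _ ⟨y, hy, rfl⟩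
      exact congrArg Units.val (hx y hy))
    have hc0 : c ≠ 0 := by
      rintro rfl
      exact g.ne_zero (by rw [hc, zero_smul])
    exact ⟨Units.mk0 c hc0, Units.ext (by rw [coe_sc, hc, Units.val_mk0])⟩
  haveI : Nontrivial (Subgroup.center R) := Finite.one_lt_card_iff_nontrivial.1 (by rw [hZ]; norm_num)
  obtain ⟨⟨⟨z, hz⟩, hzc⟩, hz1⟩ := exists_ne (1 : Subgroup.center R)
  obtain ⟨c, rfl⟩ := hscal z hz fun x hx => (congrArg Subtype.val (Subgroup.mem_center_iff.1 hzc ⟨x, hx⟩)).symm
  have hc3 : c ^ 3 = 1 := sc_inj (κ := Fin 9) (by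
    rw [← sc_pow, sc_one]; exact congrArg Subtype.val (hexp ⟨_, hz⟩))
  have hc1 : c ≠ 1 := fun e => hz1 (Subtype.ext (Subtype.ext (by show sc c = 1; rw [e, sc_one])))
  let C : Cube F := ⟨(c : F), IsPrimitiveRoot.coe_units_iff.2 (IsPrimitiveRoot.iff_orderOf.2
    (orderOf_eq_prime (hp := ⟨Nat.prime_three⟩) hc3 hc1))⟩
  have hc' : C.chU 1 = c := Units.ext (by rw [Cube.coe_chU, C.ch_one])
  set φ : GL (Fin 9) F ≃* G9 :=
    Cfsg.Geo.glReindex ((Fintype.equivFinOfCardEq (by simp : Fintype.card J = 9)).symm) with hφ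
  have φsc : ∀ d : Fˣ, φ (sc d) = sc d := by
    intro d
    apply Units.ext
    show Matrix.reindexAlgEquiv F F _ ((sc d : GL (Fin 9) F) : Matrix (Fin 9) (Fin 9) F) = _
    rw [coe_sc, map_smul, map_one, coe_sc]
  have φdet : ∀ g, ((φ g : G9) : Matrix J J F).det = (g : Matrix (Fin 9) (Fin 9) F).det := fun g =>
    Matrix.det_reindexAlgEquiv F F _ _
  have hmem : ∀ g, g ∈ R.map φ.toMonoidHom ↔ φ.symm g ∈ R := fun g => by
    rw [Subgroup.mem_map]
    exact ⟨by rintro ⟨x, hx, rfl⟩; simpa using hx, fun h => ⟨_, h, by simp⟩⟩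
  have sym : ∀ d : Fˣ, φ.symm (sc d) = sc d := fun d => by rw [MulEquiv.symm_apply_eq, φsc]
  have hH : C.Heis (R.map φ.toMonoidHom) := by
    refine ⟨?_, fun a => ?_, ?_, ?_, ?_⟩
    · intro g hg hx
      obtain ⟨d, hd⟩ := hscal _ ((hmem g).1 hg) fun y hy => φ.injective (by
        simpa using hx (φ y) (Subgroup.mem_map_of_mem _ hy))
      obtain ⟨a, rfl⟩ := C.exists_chU (c := d) (sc_inj (κ := Fin 9) (by
        rw [← sc_pow, ← hd, sc_one]; exact congrArg Subtype.val (hexp ⟨_, (hmem g).1 hg⟩)))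
      exact ⟨a, by rw [← φsc, ← hd, φ.apply_symm_apply]⟩
    · rw [hmem, sym, show C.chU a = c ^ a.val by
        rw [← hc', C.chU_pow, ZMod.natCast_val, ZMod.cast_id, mul_one], ← sc_pow]
      exact pow_mem hz _
    · intro g hg
      apply φ.symm.injective
      rw [map_pow, map_one]
      exact congrArg Subtype.val (hexp ⟨_, (hmem g).1 hg⟩)
    · intro x hx y hy
      set x' : R := ⟨_, (hmem x).1 hx⟩ with hx'
      set y' : R := ⟨_, (hmem y).1 hy⟩ with hy'
      have hw := hcomm2 (Subgroup.commutator_mem_commutator (Subgroup.mem_top x') (Subgroup.mem_top y'))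
      obtain ⟨d, hd⟩ := hscal _ (⁅x', y'⁆).2 fun u hu =>
        (congrArg Subtype.val (Subgroup.mem_center_iff.1 hw ⟨u, hu⟩)).symm
      obtain ⟨a, rfl⟩ := C.exists_chU (c := d) (sc_inj (κ := Fin 9) (by
        rw [← sc_pow, ← hd, sc_one]; exact congrArg Subtype.val (hexp _)))
      refine ⟨a, φ.symm.injective ?_⟩
      rw [map_mul, map_mul, map_mul, sym, ← hd, commutatorElement_def]
      simp only [Subgroup.coe_mul, Subgroup.coe_inv, hx', hy']
      group
    · have h1 := card_ge hR.absIrred hZ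
      rw [← Nat.card_congr (R.equivMapOfInjective φ.toMonoidHom φ.injective).toEquiv]
      rw [Fintype.card_fin] at h1
      omega
  obtain ⟨P, hP⟩ := hH.exists_conj
  refine ⟨C, φ.trans (MulAut.conj P⁻¹), fun g => ?_, fun g => ?_, fun d => ?_⟩
  · show _ ↔ MulAut.conj P⁻¹ (φ g) ∈ _
    rw [MulAut.conj_apply, inv_inv, ← hP, hmem, φ.symm_apply_apply]
  · show ((MulAut.conj P⁻¹ (φ g) : G9) : Matrix J J F).det = _
    rw [MulAut.conj_apply, inv_inv, Units.val_mul, Units.val_mul, Matrix.det_mul, Matrix.det_mul,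
      mul_comm (P⁻¹ : G9).val.det, mul_assoc, ← Matrix.det_mul, Units.inv_mul, Matrix.det_one, mul_one, φdet]
  · show MulAut.conj P⁻¹ (φ (sc d)) = _
    rw [MulAut.conj_apply, inv_inv, φsc, ← sc_comm, mul_assoc, inv_mul_cancel, mul_one]

end Cfsg.Agent.H1.HeisThree
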