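import Mathlib

/-!
The Heisenberg group of order 27 in three dimensions and its normaliser.
-/

set_option autoImplicit false

namespace Cfsg.Agent.H1.HeisThree

open Matrix

/-- A field with a primitive cube root of unity. -/
structure Cube (F : Type*) [Field F] where
  ω : F
  prim : IsPrimitiveRoot ω 3

variable {F : Type*} [Field F] (C : Cube F)

local notation "T3" => ZMod 3
local notation "V" => ZMod 3 × ZMod 3
local notation "M3" => Matrix (ZMod 3) (ZMod 3) F
local notation "G3" => GL (ZMod 3) F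

theorem sum3 {M : Type*} [AddCommMonoid M] (f : T3 → M) : ∑ i, f i = f 0 + f 1 + f 2 := by
  rw [show (Finset.univ : Finset T3) = {0, 1, 2} by decide, Finset.sum_insert (by decide),
    Finset.sum_insert (by decide), Finset.sum_singleton, add_assoc]

namespace Cube

theorem sq_add : C.ω ^ 2 + C.ω + 1 = 0 := by
  have := C.prim.geom_sum_eq_zero (by norm_num : 1 < 3)
  simp only [Finset.sum_range_succ, Finset.sum_range_zero, pow_zero, pow_one, zero_add] at this
  linear_combination this

theorem cube : C.ω ^ 3 = 1 := C.prim.pow_eq_one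

theorem ne_zero : C.ω ≠ 0 := C.prim.ne_zero (by norm_num)

theorem ne_one : C.ω ≠ 1 := C.prim.ne_one (by norm_num)

theorem three_ne_zero (C : Cube F) : (3 : F) ≠ 0 := fun h => by
  have : (C.ω - 1) ^ 2 = 0 := by linear_combination C.sq_add - C.ω * h
  exact C.ne_one (sub_eq_zero.1 (eq_zero_of_pow_eq_zero this))

theorem root_ne_zero : 1 + 2 * C.ω ≠ 0 := fun h => C.three_ne_zero (by
  linear_combination 4 * C.sq_add - (1 + 2 * C.ω) * h)

/-- The character of the integers modulo three. -/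
def ch (i : T3) : F := C.ω ^ i.val

theorem ch_zero : C.ch 0 = 1 := pow_zero _
theorem ch_one : C.ch 1 = C.ω := pow_one _
theorem ch_two : C.ch 2 = C.ω ^ 2 := rfl

theorem ch_add (i j : T3) : C.ch (i + j) = C.ch i * C.ch j := by
  rw [ch, ch, ch, ← pow_add, ZMod.val_add, ← pow_eq_pow_mod _ C.cube]

theorem ch_mul_neg (i : T3) : C.ch i * C.ch (-i) = 1 := by rw [← C.ch_add, add_neg_cancel, C.ch_zero]

theorem ch_ne_zero (i : T3) : C.ch i ≠ 0 := pow_ne_zero _ C.ne_zero

theorem ch_eq_one {i : T3} (h : C.ch i = 1) : i = 0 := by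
  rw [ch, C.prim.pow_eq_one_iff_dvd] at h
  have h' := i.val_lt
  exact (ZMod.val_eq_zero i).1 (Nat.eq_zero_of_dvd_of_lt h h')

theorem ch_inj {i j : T3} (h : C.ch i = C.ch j) : i = j := by
  have : C.ch (i + -j) = 1 := by rw [C.ch_add, h, C.ch_mul_neg]
  exact add_neg_eq_zero.1 (C.ch_eq_one this)

theorem sum_ch_mul (k : T3) : ∑ j, C.ch (j * k) = if k = 0 then (3 : F) else 0 := by
  rw [sum3]
  obtain rfl | rfl | rfl : k = 0 ∨ k = 1 ∨ k = 2 := by revert k; decide
  · simp [C.ch_zero]; norm_num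
  · rw [if_neg (by decide)]
    simp only [show (0 : T3) * 1 = 0 from rfl, show (1 : T3) * 1 = 1 from rfl,
      show (2 : T3) * 1 = 2 from rfl, ch_zero, ch_one, ch_two]
    linear_combination C.sq_add
  · rw [if_neg (by decide)]
    simp only [show (0 : T3) * 2 = 0 from rfl, show (1 : T3) * 2 = 2 from rfl,
      show (2 : T3) * 2 = 1 from rfl, ch_zero, ch_one, ch_two]
    linear_combination C.sq_add

/-- The matrix `X^a Z^b`. -/
def wMat (v : V) : M3 := Matrix.of fun i j => if i = j + v.1 then C.ch (v.2 * j) else 0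

theorem wMat_apply (v : V) (i j : T3) : C.wMat v i j = if i = j + v.1 then C.ch (v.2 * j) else 0 := rfl

theorem wMat_mul (u v : V) : C.wMat u * C.wMat v = C.ch (u.2 * v.1) • C.wMat (u + v) := by
  ext i k
  rw [Matrix.mul_apply, Finset.sum_eq_single (k + v.1)]
  · simp only [wMat_apply, Matrix.smul_apply, smul_eq_mul, Prod.fst_add, Prod.snd_add]
    rw [show k + (u.1 + v.1) = k + v.1 + u.1 by ring]
    split_ifs with h
    · rw [← C.ch_add, ← C.ch_add]
      congr 1
      ring
    · simp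
  · intro j _ hj
    simp [wMat_apply, hj]
  · simp

theorem wMat_zero : C.wMat 0 = 1 := by
  ext i j
  simp [wMat_apply, Matrix.one_apply, C.ch_zero]

/-- The element `X^a Z^b`. -/
def W (v : V) : G3 where
  val := C.wMat v
  inv := C.ch (v.2 * v.1) • C.wMat (-v)
  val_inv := by
    rw [Matrix.mul_smul, C.wMat_mul, add_neg_cancel, C.wMat_zero, smul_smul, Prod.fst_neg, mul_neg,
      C.ch_mul_neg, one_smul]
  inv_val := by
    rw [Matrix.smul_mul, C.wMat_mul, neg_add_cancel, C.wMat_zero, smul_smul, Prod.snd_neg, neg_mul,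
      C.ch_mul_neg, one_smul]

theorem coe_W (v : V) : (C.W v : M3) = C.wMat v := rfl

end Cube

/-- Scalar elements. -/
def sc {κ : Type*} [Fintype κ] [DecidableEq κ] (c : Fˣ) : GL κ F :=
  Units.map (algebraMap F (Matrix κ κ F)).toMonoidHom c

section Scalar

variable {κ : Type*} [Fintype κ] [DecidableEq κ]

theorem coe_sc (c : Fˣ) : ((sc c : GL κ F) : Matrix κ κ F) = (c : F) • 1 := Algebra.algebraMap_eq_smul_one _

theorem sc_mul (c d : Fˣ) : (sc (c * d) : GL κ F) = sc c * sc d := map_mul _ c d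
theorem sc_one : (sc (1 : Fˣ) : GL κ F) = 1 := map_one _
theorem sc_inv (c : Fˣ) : (sc c⁻¹ : GL κ F) = (sc c)⁻¹ := map_inv _ c
theorem sc_pow (c : Fˣ) (n : ℕ) : (sc c : GL κ F) ^ n = sc (c ^ n) := (map_pow _ c n).symm

theorem sc_comm (c : Fˣ) (g : GL κ F) : sc c * g = g * sc c := by
  apply Units.ext
  rw [Units.val_mul, Units.val_mul, coe_sc, Matrix.smul_mul, one_mul, Matrix.mul_smul, mul_one]

theorem sc_inj [Nonempty κ] {c d : Fˣ} (h : (sc c : GL κ F) = sc d) : c = d := by
  obtain ⟨i⟩ := ‹Nonempty κ›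
  have := congrArg (fun g : GL κ F => (g : Matrix κ κ F) i i) h
  simp only [coe_sc, Matrix.smul_apply, Matrix.one_apply_eq, smul_eq_mul, mul_one] at this
  exact Units.ext this

theorem conj_sc_mul (g : GL κ F) (c : Fˣ) (x : GL κ F) : g * (sc c * x) * g⁻¹ = sc c * (g * x * g⁻¹) := by
  rw [← mul_assoc g, ← sc_comm, mul_assoc (sc c) g, mul_assoc (sc c)]

/-- The scalar elements. -/
def scGrp (F κ : Type*) [Field F] [Fintype κ] [DecidableEq κ] : Subgroup (GL κ F) :=
  (Units.map (algebraMap F (Matrix κ κ F)).toMonoidHom).range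

end Scalar

namespace Cube

theorem W_mul (u v : V) :
    C.W u * C.W v = sc (Units.mk0 _ (C.ch_ne_zero (u.2 * v.1))) * C.W (u + v) := by
  apply Units.ext
  rw [Units.val_mul, Units.val_mul, coe_sc, coe_W, coe_W, coe_W, C.wMat_mul, Units.val_mk0,
    Matrix.smul_mul, one_mul]

theorem W_zero : C.W 0 = 1 := Units.ext C.wMat_zero

theorem sc_W_inj {c d : Fˣ} {u v : V} (h : sc c * C.W u = sc d * C.W v) : c = d ∧ u = v := by
  have key : ∀ i j : T3, (c : F) * C.wMat u i j = (d : F) * C.wMat v i j := fun i j => by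
    have := congrArg (fun g : G3 => (g : M3) i j) h
    simpa [coe_sc, coe_W] using this
  have ha : u.1 = v.1 := by
    by_contra hne
    have := key u.1 0
    simp [wMat_apply, hne, C.ch_zero] at this
  have hc : c = d := Units.ext (by
    have := key u.1 0
    simpa [wMat_apply, ha, C.ch_zero] using this)
  subst hc
  refine ⟨rfl, Prod.ext ha ?_⟩
  have := key (1 + u.1) 1
  simp [wMat_apply, ha] at this
  exact C.ch_inj this

theorem W_inj {u v : V} (h : C.W u = C.W v) : u = v :=
  (C.sc_W_inj (c := 1) (d := 1) (by rw [sc_one, h])).2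

theorem W_cube (v : V) : C.W v ^ 3 = 1 := by
  rw [pow_succ, pow_two, C.W_mul, mul_assoc, C.W_mul, ← mul_assoc, ← sc_mul]
  have : v + v + v = 0 := by revert v; decide
  rw [this, C.W_zero, mul_one]
  refine (congrArg sc (Units.ext ?_)).trans sc_one
  simp only [Units.val_mul, Units.val_mk0, Units.val_one, ← C.ch_add, Prod.snd_add]
  rw [show v.2 * v.1 + (v.2 + v.2) * v.1 = 3 * (v.2 * v.1) by ring, show (3 : T3) = 0 from rfl,
    zero_mul, C.ch_zero]

/-- The diagonal element of the normaliser. -/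
def y : G3 where
  val := Matrix.diagonal fun i => C.ch (i * i)
  inv := Matrix.diagonal fun i => C.ch (-(i * i))
  val_inv := by simp [Matrix.diagonal_mul_diagonal, C.ch_mul_neg, Matrix.diagonal_one]
  inv_val := by simp [Matrix.diagonal_mul_diagonal, mul_comm (C.ch (-_)), C.ch_mul_neg, Matrix.diagonal_one]

/-- The inverse of the square root of minus three. -/
def s : F := (1 + 2 * C.ω)⁻¹

theorem s_sq : C.s * C.s * 3 = -1 := by
  have h := C.root_ne_zero
  rw [s, ← mul_inv, inv_mul_eq_iff_eq_mul₀ (mul_ne_zero h h)]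
  linear_combination 4 * C.sq_add

/-- The Fourier element of the normaliser. -/
def S : G3 where
  val := Matrix.of fun i j => C.s * C.ch (i * j)
  inv := Matrix.of fun i j => -C.s * C.ch (-(i * j))
  val_inv := by
    ext i k
    rw [Matrix.mul_apply]
    simp only [Matrix.of_apply]
    rw [Finset.sum_congr rfl fun j _ => show C.s * C.ch (i * j) * (-C.s * C.ch (-(j * k)))
      = -(C.s * C.s) * C.ch (j * (i - k)) by
        rw [show j * (i - k) = i * j + -(j * k) by ring, C.ch_add]; ring,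
      ← Finset.mul_sum, C.sum_ch_mul, Matrix.one_apply]
    by_cases h : i = k
    · rw [if_pos (sub_eq_zero.2 h), if_pos h]; linear_combination -C.s_sq
    · rw [if_neg (sub_ne_zero.2 h), if_neg h, mul_zero]
  inv_val := by
    ext i k
    rw [Matrix.mul_apply]
    simp only [Matrix.of_apply]
    rw [Finset.sum_congr rfl fun j _ => show -C.s * C.ch (-(i * j)) * (C.s * C.ch (j * k))
      = -(C.s * C.s) * C.ch (j * (k - i)) by
        rw [show j * (k - i) = -(i * j) + j * k by ring, C.ch_add]; ring,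
      ← Finset.mul_sum, C.sum_ch_mul, Matrix.one_apply]
    by_cases h : i = k
    · rw [if_pos (sub_eq_zero.2 h.symm), if_pos h]; linear_combination -C.s_sq
    · rw [if_neg (sub_ne_zero.2 (Ne.symm h)), if_neg h, mul_zero]

theorem coe_S (i j : T3) : (C.S : M3) i j = C.s * C.ch (i * j) := rfl

/-- The involution `-P`. -/
def flip (_C : Cube F) : G3 where
  val := Matrix.of fun i j => if i = -j then -1 else 0
  inv := Matrix.of fun i j => if i = -j then -1 else 0
  val_inv := by
    ext i k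
    rw [Matrix.mul_apply, Finset.sum_eq_single (-k)]
    · by_cases h : i = k <;> simp [Matrix.one_apply, h]
    · intro j _ hj; simp [hj]
    · simp
  inv_val := by
    ext i k
    rw [Matrix.mul_apply, Finset.sum_eq_single (-k)]
    · by_cases h : i = k <;> simp [Matrix.one_apply, h]
    · intro j _ hj; simp [hj]
    · simp

theorem coe_flip (i j : T3) : (C.flip : M3) i j = if i = -j then -1 else 0 := rfl

theorem flip_mul_flip : C.flip * C.flip = 1 := Units.ext C.flip.val_inv

theorem flip_inv : C.flip⁻¹ = C.flip := inv_eq_of_mul_eq_one_right C.flip_mul_flip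

theorem S_mul_S : C.S * C.S = C.flip := by
  apply Units.ext
  ext i k
  rw [Units.val_mul, Matrix.mul_apply, Finset.sum_congr rfl fun j _ => show (C.S : M3) i j * (C.S : M3) j k
      = C.s * C.s * C.ch (j * (i + k)) by
        rw [coe_S, coe_S, show j * (i + k) = i * j + j * k by ring, C.ch_add]; ring,
    ← Finset.mul_sum, C.sum_ch_mul]
  rw [coe_flip]
  by_cases h : i = -k
  · rw [if_pos (by rw [h, neg_add_cancel]), if_pos h]; exact C.s_sq
  · rw [if_neg (fun e => h (eq_neg_of_add_eq_zero_left e)), if_neg h, mul_zero]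

theorem flip_W (v : V) : C.flip * C.W v = C.W (-v) * C.flip := by
  apply Units.ext
  ext i k
  rw [Units.val_mul, Units.val_mul, Matrix.mul_apply, Matrix.mul_apply,
    Finset.sum_eq_single (-i) (fun j _ hj => ?_) (by simp),
    Finset.sum_eq_single (-k) (fun j _ hj => ?_) (by simp)]
  · simp only [coe_W, wMat_apply, coe_flip, Prod.fst_neg, Prod.snd_neg, neg_neg, if_true, neg_mul_neg]
    by_cases h : -i = k + v.1
    · rw [if_pos h, if_pos (by linear_combination -h)]; ring
    · rw [if_neg h, if_neg (fun e => h (by linear_combination -e))]; ring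
  · simp [coe_flip, hj]
  · have : i ≠ -j := fun e => hj (by rw [e, neg_neg])
    simp [coe_flip, this]

theorem S_W (v : V) :
    C.S * C.W v = sc (Units.mk0 _ (C.ch_ne_zero (-(v.1 * v.2)))) * C.W (-v.2, v.1) * C.S := by
  apply Units.ext
  ext i k
  rw [Units.val_mul, Units.val_mul, Units.val_mul, coe_sc, Units.val_mk0, Matrix.smul_mul, one_mul,
    Matrix.mul_apply, Matrix.smul_mul, Matrix.smul_apply, Matrix.mul_apply,
    Finset.sum_eq_single (k + v.1) (fun j _ hj => ?_) (by simp),
    Finset.sum_eq_single (i + v.2) (fun j _ hj => ?_) (by simp)]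
  · simp only [coe_W, wMat_apply, coe_S, smul_eq_mul, add_neg_cancel_right, if_true]
    calc C.s * C.ch (i * (k + v.1)) * C.ch (v.2 * k) = C.s * C.ch (i * (k + v.1) + v.2 * k) := by
          rw [C.ch_add]; ring
      _ = C.s * C.ch (-(v.1 * v.2) + (v.1 * (i + v.2) + (i + v.2) * k)) := by
          congr 2; ring
      _ = _ := by rw [C.ch_add, C.ch_add]; ring
  · have : i ≠ j + -v.2 := fun e => hj (by rw [e, neg_add_cancel_right])
    simp [coe_W, wMat_apply, this]
  · simp [coe_W, wMat_apply, hj]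

theorem y_W (v : V) :
    C.y * C.W v = sc (Units.mk0 _ (C.ch_ne_zero (v.1 * v.1))) * C.W (v.1, v.2 + 2 * v.1) * C.y := by
  apply Units.ext
  ext i k
  simp only [Units.val_mul, coe_sc, Units.val_mk0, Matrix.smul_mul, one_mul, Matrix.smul_apply,
    smul_eq_mul, y, Matrix.diagonal_mul, Matrix.mul_diagonal, coe_W, wMat_apply]
  by_cases h : i = k + v.1
  · rw [if_pos h, if_pos h]
    subst h
    simp only [← C.ch_add]
    congr 1
    ring
  · simp [h]

/-- The element lies in the scalar multiples of the Heisenberg group. -/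
def InR (g : G3) : Prop := ∃ (c : Fˣ) (v : V), g = sc c * C.W v

/-- Conjugation by `g` induces `σ` on the Heisenberg group modulo scalars. -/
def Lift (g : G3) (σ : V → V) : Prop := ∀ v, ∃ c : Fˣ, g * C.W v * g⁻¹ = sc c * C.W (σ v)

/-- The normaliser of the Heisenberg group times scalars. -/
def NZ : Subgroup G3 where
  carrier := {g | ∃ σ : V ≃ V, C.Lift g σ}
  one_mem' := ⟨Equiv.refl _, fun v => ⟨1, by simp [sc_one]⟩⟩
  mul_mem' := fun {g h} => by
    rintro ⟨σ, hσ⟩ ⟨τ, hτ⟩
    refine ⟨τ.trans σ, fun v => ?_⟩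
    obtain ⟨c, hc⟩ := hτ v
    obtain ⟨d, hd⟩ := hσ (τ v)
    exact ⟨c * d, by
      rw [show g * h * C.W v * (g * h)⁻¹ = g * (h * C.W v * h⁻¹) * g⁻¹ by group, hc, conj_sc_mul, hd,
        ← mul_assoc, ← sc_mul]; rfl⟩
  inv_mem' := fun {g} => by
    rintro ⟨σ, hσ⟩
    refine ⟨σ.symm, fun v => ?_⟩
    obtain ⟨c, hc⟩ := hσ (σ.symm v)
    refine ⟨c⁻¹, ?_⟩
    rw [σ.apply_symm_apply] at hc
    rw [sc_inv, eq_inv_mul_iff_mul_eq, ← conj_sc_mul, ← hc]
    group

theorem lift_unique {g : G3} {σ τ : V → V} (h : C.Lift g σ) (h' : C.Lift g τ) : σ = τ := by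
  funext v
  obtain ⟨c, hc⟩ := h v
  obtain ⟨d, hd⟩ := h' v
  exact (C.sc_W_inj (hc.symm.trans hd)).2

theorem lift_injective {g : G3} {σ : V → V} (h : C.Lift g σ) : Function.Injective σ := by
  intro u v e
  obtain ⟨c, hc⟩ := h u
  obtain ⟨d, hd⟩ := h v
  have : g * (sc d * C.W u) * g⁻¹ = g * (sc c * C.W v) * g⁻¹ := by
    rw [conj_sc_mul, conj_sc_mul, hc, hd, e, ← mul_assoc, ← mul_assoc, ← sc_mul, ← sc_mul, mul_comm c]
  exact (C.sc_W_inj (mul_left_cancel (mul_right_cancel this))).2

theorem mem_NZ_of_conj {g : G3} (h : ∀ v, C.InR (g * C.W v * g⁻¹)) : g ∈ C.NZ := by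
  choose c σ hσ using h
  have hl : C.Lift g σ := fun v => ⟨c v, hσ v⟩
  exact ⟨Equiv.ofBijective σ (Finite.injective_iff_bijective.1 (C.lift_injective hl)), hl⟩

theorem sc_mem_NZ (c : Fˣ) : sc c ∈ C.NZ :=
  C.mem_NZ_of_conj fun v => ⟨1, v, by rw [sc_comm, mul_inv_cancel_right, sc_one, one_mul]⟩

theorem W_conj (u v : V) :
    ∃ c : Fˣ, C.W u * C.W v * (C.W u)⁻¹ = sc c * C.W v ∧ (c : F) = C.ch (u.2 * v.1 - v.2 * u.1) := by
  refine ⟨Units.mk0 _ (C.ch_ne_zero _), ?_, rfl⟩
  rw [mul_inv_eq_iff_eq_mul, mul_assoc, C.W_mul, C.W_mul, ← mul_assoc, ← sc_mul, add_comm v u]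
  congr 2
  apply Units.ext
  simp only [Units.val_mul, Units.val_mk0, ← C.ch_add, sub_add_cancel]

theorem W_mem_NZ (u : V) : C.W u ∈ C.NZ := C.mem_NZ_of_conj fun v => by
  obtain ⟨c, hc, -⟩ := C.W_conj u v
  exact ⟨c, v, hc⟩

theorem flip_mem_NZ : C.flip ∈ C.NZ := C.mem_NZ_of_conj fun v =>
  ⟨1, -v, by rw [C.flip_W, mul_inv_cancel_right, sc_one, one_mul]⟩

theorem S_mem_NZ : C.S ∈ C.NZ := C.mem_NZ_of_conj fun v =>
  ⟨_, _, by rw [C.S_W, mul_inv_cancel_right]⟩

theorem y_mem_NZ : C.y ∈ C.NZ := C.mem_NZ_of_conj fun v =>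
  ⟨_, _, by rw [C.y_W, mul_inv_cancel_right]⟩

/-- An element centralising the Heisenberg group modulo scalars is in it. -/
theorem inR_of_fix {g : G3} (h : C.Lift g id) : C.InR g := by
  have key : ∀ v, ∃ c : Fˣ, g * C.W v * g⁻¹ = sc c * C.W v ∧ ∃ k : T3, (c : F) = C.ch k := by
    intro v
    obtain ⟨c, hc⟩ := h v
    refine ⟨c, hc, ?_⟩
    have h3 := congrArg (· ^ 3) hc
    simp only [id, conj_pow, C.W_cube, (show Commute (sc c) (C.W v) from sc_comm c _).mul_pow, sc_pow,
      mul_one, mul_inv_cancel] at h3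
    have hc3 : (c : F) ^ 3 = 1 := by
      rw [← Units.val_pow_eq_pow_val, sc_inj (h3.symm.trans sc_one.symm), Units.val_one]
    obtain ⟨i, hi, hci⟩ := C.prim.eq_pow_of_pow_eq_one hc3
    exact ⟨(i : T3), by rw [ch, ZMod.val_natCast, Nat.mod_eq_of_lt hi, hci]⟩
  obtain ⟨cx, hx, k, hk⟩ := key (1, 0)
  obtain ⟨cz, hz, l, hl⟩ := key (0, 1)
  -- correct by an element of the group
  set u : V := (-l, k) with hu
  set g' := (C.W u)⁻¹ * g with hg'
  have fix : ∀ v (c : Fˣ), g * C.W v * g⁻¹ = sc c * C.W v → (c : F) = C.ch (u.2 * v.1 - v.2 * u.1) →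
      g' * C.W v = C.W v * g' := by
    intro v c hc hc'
    obtain ⟨d, hd, hd'⟩ := C.W_conj u v
    have : d = c := Units.ext (hd'.trans hc'.symm)
    subst this
    have h1 : g * C.W v * g⁻¹ = C.W u * C.W v * (C.W u)⁻¹ := hc.trans hd.symm
    calc g' * C.W v = (C.W u)⁻¹ * (g * C.W v * g⁻¹) * g := by rw [hg']; group
      _ = C.W v * g' := by rw [h1, hg']; group
  have fx := fix _ cx hx (by rw [hk, hu]; congr 1; ring)
  have fz := fix _ cz hz (by rw [hl, hu]; congr 1; ring)
  have e1 : ∀ i j, (g' : M3) i (j + 1) = (g' : M3) (i - 1) j := by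
    intro i j
    have := congrArg (fun M : G3 => (M : M3) i j) fx
    simp only [Units.val_mul, coe_W, Matrix.mul_apply, wMat_apply, zero_mul, C.ch_zero, mul_ite, ite_mul,
      mul_one, one_mul, mul_zero, Finset.sum_ite_eq', Finset.mem_univ, if_true] at this
    rw [this, Finset.sum_eq_single (i - 1)]
    · simp
    · intro m _ hm
      rw [if_neg]; exact fun e => hm (by rw [e, add_sub_cancel_right])
    · simp
  have e2 : ∀ i j, i ≠ j → (g' : M3) i j = 0 := by
    intro i j hij
    have := congrArg (fun M : G3 => (M : M3) i j) fz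
    simp only [Units.val_mul, coe_W, Matrix.mul_apply, wMat_apply, add_zero, one_mul, mul_ite, ite_mul,
      zero_mul, mul_zero, Finset.sum_ite_eq, Finset.sum_ite_eq', Finset.mem_univ, if_true] at this
    have h' : (g' : M3) i j * (C.ch j - C.ch i) = 0 := by linear_combination this
    exact (mul_eq_zero.1 h').resolve_right (sub_ne_zero.2 fun e => hij (C.ch_inj e).symm)
  have hd : ∀ i, (g' : M3) i i = (g' : M3) 0 0 := by
    have h1 := e1 1 0
    have h2 := e1 2 1
    simp only [show (0 : T3) + 1 = 1 from rfl, show (1 : T3) + 1 = 2 from rfl,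
      show (1 : T3) - 1 = 0 from rfl, show (2 : T3) - 1 = 1 from rfl] at h1 h2
    intro i
    obtain rfl | rfl | rfl : i = 0 ∨ i = 1 ∨ i = 2 := by revert i; decide
    · rfl
    · exact h1
    · exact h2.trans h1
  have hne : (g' : M3) 0 0 ≠ 0 := by
    intro h0
    have : (g' : M3) = 0 := by
      ext i j
      by_cases hij : i = j
      · subst hij; rw [hd, h0]; rfl
      · exact e2 i j hij
    exact g'.ne_zero this
  refine ⟨Units.mk0 _ hne, u, ?_⟩
  have : g' = sc (Units.mk0 _ hne) := by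
    apply Units.ext
    ext i j
    rw [coe_sc]
    by_cases hij : i = j
    · subst hij; simp [hd]
    · simp [e2 i j hij, hij]
  rw [sc_comm, ← this, hg', mul_inv_cancel_left]

theorem inR_mem_NZ {g : G3} (h : C.InR g) : g ∈ C.NZ := by
  obtain ⟨c, v, rfl⟩ := h
  exact mul_mem (C.sc_mem_NZ c) (C.W_mem_NZ v)

end Cube

end Cfsg.Agent.H1.HeisThree
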