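import Cfsg.Agent.H1.HeisThree.Model
import Cfsg.Agent.Linear.Simple

/-!
A subgroup normalised by the special linear group and not scalar contains it.
-/

set_option autoImplicit false

namespace Cfsg.Agent.H1.HeisThree

open Matrix
open scoped commutatorElement

variable {F : Type*} [Field F]

local notation "T3" => ZMod 3
local notation "M3" => Matrix (ZMod 3) (ZMod 3) F
local notation "G3" => GL (ZMod 3) F
local notation "S3" => Matrix.SpecialLinearGroup (ZMod 3) F

theorem eq_scalar_of_comm_sl {x : G3}
    (h : ∀ g : G3, (g : M3).det = 1 → g * x = x * g) : ∃ c : Fˣ, x = sc c := by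
  have key : ∀ i j : T3, i ≠ j → (x : M3) i i = (x : M3) j j ∧ (x : M3) j i = 0 := by
    intro i j hij
    set T : G3 := Matrix.SpecialLinearGroup.toGL (Matrix.SpecialLinearGroup.transvection hij (1 : F)) with hT
    have hTc : (T : M3) = 1 + Matrix.single i j 1 := by
      simp [hT, Matrix.SpecialLinearGroup.transvection_coe]
    have e := congrArg (fun g : G3 => (g : M3))
      (h T (Matrix.SpecialLinearGroup.transvection hij (1 : F)).2)
    simp only [Units.val_mul, hTc, Matrix.add_mul, Matrix.mul_add, one_mul, mul_one, add_right_inj] at e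
    have e1 := congrFun (congrFun e i) j
    have e2 := congrFun (congrFun e j) j
    constructor
    · simpa using e1.symm
    · have := congrFun (congrFun e i) i
      simpa [hij, Ne.symm hij] using this
  have hd : ∀ i : T3, (x : M3) i i = (x : M3) 0 0 := fun i => by
    by_cases hi : i = 0
    · rw [hi]
    · exact (key i 0 hi).1
  have h0 : (x : M3) 0 0 ≠ 0 := fun h0 => x.ne_zero (by
    ext i j
    by_cases hij : i = j
    · subst hij; rw [hd, h0]; rfl
    · exact (key j i (Ne.symm hij)).2)
  refine ⟨Units.mk0 _ h0, Units.ext ?_⟩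
  ext i j
  rw [coe_sc]
  by_cases hij : i = j
  · subst hij; simp [hd]
  · simp [(key j i (Ne.symm hij)).2, hij]


/-- A nonscalar subgroup normalised by the special linear group contains it. -/
theorem sl_le_of_normalized [Finite F] {L : Subgroup G3}
    (hL : ∀ g : G3, (g : M3).det = 1 → ∀ l ∈ L, g * l * g⁻¹ ∈ L) {x : G3} (hx : x ∈ L)
    (hns : ¬ ∃ c : Fˣ, x = sc c) :
    ∀ g : G3, (g : M3).det = 1 → g ∈ L := by
  let N : Subgroup S3 := L.comap Matrix.SpecialLinearGroup.toGL
  have hN : N.Normal := ⟨fun n hn g => by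
    show Matrix.SpecialLinearGroup.toGL (g * n * g⁻¹) ∈ L
    rw [map_mul, map_mul, map_inv]
    exact hL _ g.2 _ hn⟩
  have h3 : 3 ≤ Fintype.card T3 := by simp
  have hperf : commutator S3 = ⊤ :=
    Cfsg.Agent.Linear.commutator_SL_eq_top_of_card (Or.inl h3)
  let q := QuotientGroup.mk' (Subgroup.center S3)
  have hsimp : IsSimpleGroup (Matrix.ProjectiveSpecialLinearGroup T3 F) :=
    Cfsg.Agent.Linear.isSimpleGroup_PSL (Or.inl h3)
  have hNq : (N.map q).Normal := hN.map q (QuotientGroup.mk'_surjective _)
  rcases hsimp.eq_bot_or_eq_top_of_normal _ hNq with h | h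
  · exfalso
    rw [Subgroup.map_eq_bot_iff, QuotientGroup.ker_mk'] at h
    apply hns
    have hcen : ∀ s : S3, ∃ z ∈ Subgroup.center S3,
        Matrix.SpecialLinearGroup.toGL z = (Matrix.SpecialLinearGroup.toGL s : G3) * x *
          (Matrix.SpecialLinearGroup.toGL s)⁻¹ * x⁻¹ := by
      intro s
      set y : G3 := (Matrix.SpecialLinearGroup.toGL s : G3) * x * (Matrix.SpecialLinearGroup.toGL s)⁻¹ * x⁻¹
      have hy : y ∈ L := mul_mem (hL _ s.2 x hx) (inv_mem hx)
      have hdet : (y : M3).det = 1 := by
        have : Matrix.GeneralLinearGroup.det y = 1 := by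
          simp only [y, map_mul, map_inv, mul_right_comm _ (Matrix.GeneralLinearGroup.det x), mul_inv_cancel, one_mul]
        simpa using congrArg Units.val this
      let z : S3 := ⟨(y : M3), hdet⟩
      have hz : Matrix.SpecialLinearGroup.toGL z = y := Units.ext rfl
      exact ⟨z, h (show Matrix.SpecialLinearGroup.toGL z ∈ L by rw [hz]; exact hy), hz⟩
    choose z hzc hz using hcen
    have zhom : ∀ s t : S3, z (s * t) = z s * z t := by
      intro s t
      apply Matrix.SpecialLinearGroup.toGL_injective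
      simp only [map_mul, hz]
      set a : G3 := Matrix.SpecialLinearGroup.toGL s
      set b : G3 := Matrix.SpecialLinearGroup.toGL t
      have hc : a * (Matrix.SpecialLinearGroup.toGL (z t) : G3) = Matrix.SpecialLinearGroup.toGL (z t) * a := by
        rw [← map_mul, ← map_mul, Subgroup.mem_center_iff.1 (hzc t) s]
      rw [hz] at hc
      calc a * b * x * (a * b)⁻¹ * x⁻¹ = (a * (b * x * b⁻¹ * x⁻¹)) * x * a⁻¹ * x⁻¹ := by group
        _ = _ := by
          rw [hc]
          have hc' : (b * x * b⁻¹ * x⁻¹) * (a * x * a⁻¹ * x⁻¹) = (a * x * a⁻¹ * x⁻¹) * (b * x * b⁻¹ * x⁻¹) := by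
            rw [← hz s, ← hz t, ← map_mul, ← map_mul, Subgroup.mem_center_iff.1 (hzc s) (z t)]
          rw [← hc']
          simp only [a, b]
          group
    let f : S3 →* Subgroup.center S3 :=
      MonoidHom.mk' (fun s => ⟨z s, hzc s⟩) fun s t => Subtype.ext (zhom s t)
    have hf : f.ker = ⊤ := by
      rw [eq_top_iff, ← hperf, commutator_def, Subgroup.commutator_le]
      intro a _ b _
      rw [MonoidHom.mem_ker, map_commutatorElement, commutatorElement_def]
      have : f a * f b = f b * f a := Subtype.ext (Subgroup.mem_center_iff.1 (f b).2 (f a : S3))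
      rw [this, mul_inv_cancel_right, mul_inv_cancel]
    refine eq_scalar_of_comm_sl fun g hg => ?_
    let s : S3 := ⟨(g : M3), hg⟩
    have hs : Matrix.SpecialLinearGroup.toGL s = g := Units.ext rfl
    have hs1 : f s = 1 := (hf ▸ Subgroup.mem_top s : s ∈ f.ker)
    have h1 := hz s
    rw [show z s = 1 from congrArg Subtype.val hs1, map_one, hs, eq_comm, mul_inv_eq_one] at h1
    exact mul_inv_eq_iff_eq_mul.1 h1
  · have hN' : N = ⊤ := by
      rw [eq_top_iff, ← hperf, commutator_def, Subgroup.commutator_le]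
      intro a _ b _
      have ha : q a ∈ N.map q := h ▸ Subgroup.mem_top _
      have hb : q b ∈ N.map q := h ▸ Subgroup.mem_top _
      obtain ⟨a', ha', ea⟩ := ha
      obtain ⟨b', hb', eb⟩ := hb
      have ca : a'⁻¹ * a ∈ Subgroup.center S3 := QuotientGroup.eq.1 ea
      have cb : b'⁻¹ * b ∈ Subgroup.center S3 := QuotientGroup.eq.1 eb
      have e : ⁅a, b⁆ = ⁅a', b'⁆ := by
        have ha1 : a = a' * (a'⁻¹ * a) := by group
        have hb1 : b = b' * (b'⁻¹ * b) := by group
        set u := a'⁻¹ * a
        set v := b'⁻¹ * b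
        have hu := Subgroup.mem_center_iff.1 ca
        have hv := Subgroup.mem_center_iff.1 cb
        rw [ha1, hb1, commutatorElement_def, commutatorElement_def]
        simp only [_root_.mul_inv_rev, mul_assoc]
        rw [show u * (b' * (v * (u⁻¹ * (a'⁻¹ * (v⁻¹ * b'⁻¹))))) = b' * (v * (a'⁻¹ * (v⁻¹ * b'⁻¹))) by
          rw [← mul_assoc u b', ← hu b', mul_assoc, ← mul_assoc u v, ← hu v, mul_assoc v u,
            mul_inv_cancel_left],
          ← mul_assoc v a'⁻¹, ← hv a'⁻¹, mul_assoc a'⁻¹ v, mul_inv_cancel_left]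
      rw [e, commutatorElement_def]
      exact mul_mem (mul_mem (mul_mem ha' hb') (inv_mem ha')) (inv_mem hb')
    intro g hg
    let m : S3 := ⟨(g : M3), hg⟩
    have hm : m ∈ N := hN' ▸ Subgroup.mem_top m
    have e : Matrix.SpecialLinearGroup.toGL m = g := Units.ext rfl
    exact e ▸ Subgroup.mem_comap.1 hm

end Cfsg.Agent.H1.HeisThree
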