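import Cfsg.Agent.H1.HeisThree.Cases

/-!
The normaliser in three dimensions is generated by scalars, the Heisenberg group, `S` and `y`.
-/

set_option autoImplicit false

namespace Cfsg.Agent.H1.HeisThree

open Matrix

variable {F : Type*} [Field F]

local notation "T3" => ZMod 3
local notation "V" => ZMod 3 × ZMod 3
local notation "M3" => Matrix (ZMod 3) (ZMod 3) F
local notation "G3" => GL (ZMod 3) F

/-- The action of `S`. -/
def sMap (v : V) : V := (-v.2, v.1)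

/-- The action of `y`. -/
def yMap (v : V) : V := (v.1, v.2 + 2 * v.1)

/-- The determinant of a pair of vectors. -/
def det2 (u v : V) : T3 := u.1 * v.2 - u.2 * v.1

/-- The action of a short word. -/
def wordMap (w : Fin 3 × Fin 4 × Fin 3 × Fin 4 × Fin 3) (v : V) : V :=
  yMap^[(w.1 : ℕ)] (sMap^[(w.2.1 : ℕ)] (yMap^[(w.2.2.1 : ℕ)] (sMap^[(w.2.2.2.1 : ℕ)] (yMap^[(w.2.2.2.2 : ℕ)] v))))

theorem exists_word : ∀ a b : V, det2 a b = 1 → ∃ w, wordMap w (1, 0) = a ∧ wordMap w (0, 1) = b := by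
  decide +kernel

namespace Cube

variable (C : Cube F)

theorem lift_S : C.Lift C.S sMap := fun v => ⟨_, by rw [C.S_W, mul_inv_cancel_right]; rfl⟩

theorem lift_y : C.Lift C.y yMap := fun v => ⟨_, by rw [C.y_W, mul_inv_cancel_right]; rfl⟩

theorem lift_mul {g h : G3} {σ τ : V → V} (hg : C.Lift g σ) (hh : C.Lift h τ) : C.Lift (g * h) (σ ∘ τ) := by
  intro v
  obtain ⟨c, hc⟩ := hh v
  obtain ⟨d, hd⟩ := hg (τ v)
  exact ⟨c * d, by
    rw [show g * h * C.W v * (g * h)⁻¹ = g * (h * C.W v * h⁻¹) * g⁻¹ by group, hc, conj_sc_mul, hd,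
      ← mul_assoc, ← sc_mul]; rfl⟩

theorem lift_pow {g : G3} {σ : V → V} (hg : C.Lift g σ) (n : ℕ) : C.Lift (g ^ n) σ^[n] := by
  induction n with
  | zero => intro v; exact ⟨1, by simp [sc_one]⟩
  | succ n ih => rw [pow_succ, Function.iterate_succ]; exact C.lift_mul ih hg

theorem lift_inv {g : G3} {σ : V ≃ V} (hg : C.Lift g σ) : C.Lift g⁻¹ σ.symm := by
  intro v
  obtain ⟨c, hc⟩ := hg (σ.symm v)
  refine ⟨c⁻¹, ?_⟩
  rw [σ.apply_symm_apply] at hc
  rw [sc_inv, eq_inv_mul_iff_mul_eq, ← conj_sc_mul, ← hc]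
  group

theorem lift_W (u : V) : C.Lift (C.W u) id := fun v => by
  obtain ⟨c, hc, -⟩ := C.W_conj u v
  exact ⟨c, hc⟩

theorem lift_add {g : G3} {σ : V → V} (h : C.Lift g σ) (u w : V) : σ (u + w) = σ u + σ w := by
  obtain ⟨a, ha⟩ := h u
  obtain ⟨b, hb⟩ := h w
  obtain ⟨d, hd⟩ := h (u + w)
  have h1 : g * (C.W u * C.W w) * g⁻¹ = (g * C.W u * g⁻¹) * (g * C.W w * g⁻¹) := by group
  rw [C.W_mul, conj_sc_mul, hd, ha, hb, mul_assoc (sc a), ← mul_assoc (C.W (σ u)), ← sc_comm,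
    mul_assoc (sc b), C.W_mul, ← mul_assoc, ← mul_assoc, ← mul_assoc, ← sc_mul, ← sc_mul, ← sc_mul] at h1
  exact (C.sc_W_inj h1).2

theorem lift_linear {g : G3} {σ : V → V} (h : C.Lift g σ) (v : V) :
    σ v = v.1 • σ (1, 0) + v.2 • σ (0, 1) := by
  have h0 : σ 0 = 0 := by
    have := C.lift_add h 0 0
    rw [add_zero] at this
    exact left_eq_add.1 this
  have mult : ∀ (a : T3) (u : V), σ (a • u) = a • σ u := by
    intro a u
    obtain rfl | rfl | rfl : a = 0 ∨ a = 1 ∨ a = 2 := by revert a; decide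
    · simp [h0]
    · simp
    · rw [show (2 : T3) = 1 + 1 from rfl, add_smul, add_smul, one_smul, one_smul, C.lift_add h]
  conv_lhs => rw [show v = v.1 • ((1, 0) : V) + v.2 • ((0, 1) : V) by simp]
  rw [C.lift_add h, mult, mult]

theorem lift_det {g : G3} {σ : V → V} (h : C.Lift g σ) (u v : V) : det2 (σ u) (σ v) = det2 u v := by
  obtain ⟨a, ha⟩ := h u
  obtain ⟨b, hb⟩ := h v
  obtain ⟨c, hc, hc'⟩ := C.W_conj u v
  obtain ⟨d, hd, hd'⟩ := C.W_conj (σ u) (σ v)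
  have key : (g * C.W u * g⁻¹) * (g * C.W v * g⁻¹) * (g * C.W u * g⁻¹)⁻¹ =
      g * (C.W u * C.W v * (C.W u)⁻¹) * g⁻¹ := by group
  rw [hc, conj_sc_mul, ha, hb,
    show sc a * C.W (σ u) * (sc b * C.W (σ v)) * (sc a * C.W (σ u))⁻¹ =
      sc b * (C.W (σ u) * C.W (σ v) * (C.W (σ u))⁻¹) by
      rw [← mul_assoc (sc a * C.W (σ u)), mul_assoc (sc a) (C.W _) (sc b), ← sc_comm b, _root_.mul_inv_rev,
        ← sc_inv]
      simp only [← mul_assoc]
      rw [← sc_comm a⁻¹]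
      simp only [← mul_assoc, ← sc_mul]
      rw [inv_mul_cancel, one_mul],
    hd, ← mul_assoc, ← mul_assoc, ← sc_mul, ← sc_mul] at key
  have h1 := congrArg (fun x : Fˣ => (x : F)) (C.sc_W_inj key).1
  simp only [Units.val_mul] at h1
  rw [hc', hd', mul_comm (b : F)] at h1
  have h2 := C.ch_inj (mul_right_cancel₀ b.ne_zero h1)
  simp only [det2]
  linear_combination -h2

theorem lift_det_one {g : G3} {σ : V → V} (h : C.Lift g σ) : det2 (σ (1, 0)) (σ (0, 1)) = 1 := by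
  rw [C.lift_det h]; rfl

end Cube

variable [Fintype F] {C : Cube F}

omit [Fintype F] in
theorem containsN_NZ : ContainsN C C.NZ :=
  ⟨C.sc_mem_NZ, C.W_mem_NZ, C.S_mem_NZ, C.y_mem_NZ⟩

omit [Fintype F] in
/-- Every determinant-one action is induced by an element of the subgroup. -/
theorem exists_lift {M : Subgroup G3} (hM : ContainsN C M) (a b : V) (hab : det2 a b = 1) :
    ∃ n ∈ M, ∃ σ : V ≃ V, C.Lift n σ ∧ σ (1, 0) = a ∧ σ (0, 1) = b := by
  obtain ⟨w, ha, hb⟩ := exists_word a b hab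
  have hl : C.Lift (C.y ^ (w.1 : ℕ) * (C.S ^ (w.2.1 : ℕ) * (C.y ^ (w.2.2.1 : ℕ) *
      (C.S ^ (w.2.2.2.1 : ℕ) * C.y ^ (w.2.2.2.2 : ℕ))))) (wordMap w) :=
    C.lift_mul (C.lift_pow C.lift_y _) (C.lift_mul (C.lift_pow C.lift_S _) (C.lift_mul (C.lift_pow C.lift_y _)
      (C.lift_mul (C.lift_pow C.lift_S _) (C.lift_pow C.lift_y _))))
  exact ⟨_, mul_mem (pow_mem hM.y _) (mul_mem (pow_mem hM.S _) (mul_mem (pow_mem hM.y _)
      (mul_mem (pow_mem hM.S _) (pow_mem hM.y _)))),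
    Equiv.ofBijective _ (Finite.injective_iff_bijective.1 (C.lift_injective hl)), hl, ha, hb⟩

omit [Fintype F] in
/-- A subgroup containing the generators contains the normaliser. -/
theorem NZ_le {M : Subgroup G3} (hM : ContainsN C M) : C.NZ ≤ M := by
  intro g hg
  obtain ⟨σ, hσ⟩ := hg
  obtain ⟨n, hn, τ, hτ, ha, hb⟩ := exists_lift hM _ _ (C.lift_det_one hσ)
  have hl : C.Lift (n⁻¹ * g) id := by
    convert C.lift_mul (C.lift_inv hτ) hσ using 1
    funext v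
    show v = τ.symm (σ v)
    rw [Equiv.eq_symm_apply, C.lift_linear hτ v, ha, hb, ← C.lift_linear hσ v]
  obtain ⟨c, v, hcv⟩ := C.inR_of_fix hl
  have : g = n * (sc c * C.W v) := by rw [← hcv, mul_inv_cancel_left]
  rw [this]
  exact mul_mem hn (mul_mem (hM.sc c) (hM.W v))

end Cfsg.Agent.H1.HeisThree
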