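import Cfsg.Agent.H1.HeisThree.NineSL
import Cfsg.Agent.H1.HeisThree.Base
import Cfsg.Agent.H1.HeisThree.Normal
import Cfsg.Agent.H1.HeisThree.Surj

/-!
The centraliser of a nontrivial element of the extraspecial group lies in the normaliser.
-/

set_option autoImplicit false

namespace Cfsg.Agent.H1.HeisThree

open Matrix
open scoped Kronecker

variable {F : Type*} [Field F]

local notation "T3" => ZMod 3
local notation "V" => ZMod 3 × ZMod 3
local notation "J" => ZMod 3 × ZMod 3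
local notation "M3" => Matrix (ZMod 3) (ZMod 3) F
local notation "G3" => GL (ZMod 3) F
local notation "M9" => Matrix (ZMod 3 × ZMod 3) (ZMod 3 × ZMod 3) F
local notation "G9" => GL (ZMod 3 × ZMod 3) F

/-- The subgroup contains generators of the normaliser. -/
structure ContainsN9 (C : Cube F) (M : Subgroup G9) : Prop where
  sc : ∀ c : Fˣ, sc c ∈ M
  W : ∀ v, tl (C.W v) ∈ M
  S : tl C.S ∈ M
  y : tl C.y ∈ M
  swap : swapG ∈ M
  CZ : C.CZ ∈ M

variable {C : Cube F}

namespace ContainsN9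

variable {M : Subgroup (GL (ZMod 3 × ZMod 3) F)} (hM : ContainsN9 C M)
include hM

theorem comap_tl : ContainsN C (M.comap tl) :=
  ⟨fun c => by show tl (HeisThree.sc c) ∈ M; rw [tl_sc]; exact hM.sc c, hM.W, hM.S, hM.y⟩

theorem tlN {g : G3} (hg : g ∈ C.NZ) : tl g ∈ M := NZ_le hM.comap_tl hg

theorem tr_of_tl {g : G3} (hg : tl g ∈ M) : tr g ∈ M := by
  have := mul_mem (mul_mem hM.swap hg) hM.swap
  rwa [swap_tl, mul_assoc, swapG_mul_self, mul_one] at this

theorem trN {g : G3} (hg : g ∈ C.NZ) : tr g ∈ M := hM.tr_of_tl (hM.tlN hg)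

theorem W9 (w : V × V) : C.W9 w ∈ M := mul_mem (hM.W _) (hM.tr_of_tl (hM.W _))

/-- The triples of blocks in the subgroup. -/
theorem const_mem {g : G3} (hg : g ∈ C.NZ) : (fun _ => g) ∈ M.comap (bd : (T3 → G3) →* G9) := by
  show bd (fun _ : T3 => g) ∈ M
  rw [← tr_eq_bd]
  exact hM.trN hg

end ContainsN9

theorem bd_shift (C : Cube F) (f : T3 → G3) :
    (tl (C.W (1, 0)) : G9) * bd f * (tl (C.W (1, 0)))⁻¹ = bd fun i => f (i - 1) := by
  have h := C.bd_conj_tl_shift f
  have e : (fun i => f i * (f (i - 1))⁻¹) = f * (fun i => f (i - 1))⁻¹ := rfl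
  rw [e, map_mul, map_inv, mul_assoc, mul_assoc (bd f), mul_right_inj, eq_inv_mul_iff_mul_eq,
    ← mul_assoc, mul_inv_eq_iff_eq_mul] at h
  rw [mul_inv_eq_iff_eq_mul]
  exact h.symm

theorem bd_neg (C : Cube F) (f : T3 → G3) :
    (tl C.flip : G9) * bd f * (tl C.flip)⁻¹ = bd fun i => f (-i) := by
  rw [mul_inv_eq_iff_eq_mul]
  apply Units.ext
  ext ⟨i, a⟩ ⟨k, b⟩
  rw [Units.val_mul, Units.val_mul, Matrix.mul_apply, Matrix.mul_apply, Finset.sum_eq_single (-i, a),
    Finset.sum_eq_single (-k, b)]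
  · by_cases h : i = -k
    · subst h; simp [coe_tl, coe_bd, Cube.coe_flip, Matrix.kroneckerMap_apply]
    · have h' : -i ≠ k := fun e => h (by rw [← e, neg_neg])
      simp [coe_tl, coe_bd, Cube.coe_flip, Matrix.kroneckerMap_apply, h, h']
  · rintro ⟨j, c⟩ _ hne
    by_cases h : j = -k
    · have : c ≠ b := fun e => hne (by rw [h, e])
      simp [coe_tl, Matrix.kroneckerMap_apply, this]
    · simp [coe_tl, Cube.coe_flip, Matrix.kroneckerMap_apply, h]
  · simp
  · rintro ⟨j, c⟩ _ hne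
    by_cases h : i = -j
    · have : a ≠ c := fun e => hne (by rw [h, e, neg_neg])
      simp [coe_tl, Matrix.kroneckerMap_apply, this]
    · simp [coe_tl, Cube.coe_flip, Matrix.kroneckerMap_apply, h]
  · simp

theorem diag_NZ_cubes {g : G3} {d : T3 → F} (hg : (g : M3) = Matrix.diagonal d) (h : g ∈ C.NZ) (i : T3) :
    d i ^ 3 = d 0 ^ 3 := by
  obtain ⟨σ, hσ⟩ := h
  obtain ⟨c, hc⟩ := hσ (1, 0)
  rw [mul_inv_eq_iff_eq_mul] at hc
  have key : ∀ a : T3, d (a + 1) * (if (σ (1, 0)).1 = 1 then (1 : F) else 0) =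
      d (a + 1) * 1 ∧ d (a + 1) = c * C.ch ((σ (1, 0)).2 * a) * d a := by
    intro a
    have e := congrArg (fun u : G3 => (u : M3) (a + 1) a) hc
    simp only [Units.val_mul, coe_sc, Cube.coe_W, hg, Matrix.diagonal_mul, Matrix.mul_diagonal,
      Matrix.smul_mul, one_mul, Matrix.smul_apply, smul_eq_mul, Cube.wMat_apply] at e
    have hd : d (a + 1) ≠ 0 := fun h0 => by
      apply (Matrix.GeneralLinearGroup.det g).ne_zero
      rw [Matrix.GeneralLinearGroup.val_det_apply, hg, Matrix.det_diagonal]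
      exact Finset.prod_eq_zero (Finset.mem_univ _) h0
    by_cases hv : (σ (1, 0)).1 = 1
    · simp [hv, C.ch_zero] at e ⊢
      rw [e]
    · exfalso
      have : a + 1 ≠ a + (σ (1, 0)).1 := fun e => hv (add_left_cancel e).symm
      simp [this, C.ch_zero] at e
      exact hd e
  have e0 := (key 0).2
  have e1 := (key 1).2
  have e2 := (key 2).2
  rw [show (0 : T3) + 1 = 1 from rfl, mul_zero, C.ch_zero] at e0
  rw [show (1 : T3) + 1 = 2 from rfl, mul_one] at e1
  rw [show (2 : T3) + 1 = 0 from rfl] at e2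
  set k := (σ (1, 0)).2
  have hk : C.ch k * C.ch (k * 2) = 1 := by
    rw [← C.ch_add, ← mul_one_add, show (1 : T3) + 2 = 0 from rfl, mul_zero, C.ch_zero]
  have hk3 : C.ch k ^ 3 = 1 := by rw [Cube.ch, ← pow_mul, mul_comm, pow_mul, C.cube, one_pow]
  have hd0 : d 0 ≠ 0 := fun h0 => by
    apply (Matrix.GeneralLinearGroup.det g).ne_zero
    rw [Matrix.GeneralLinearGroup.val_det_apply, hg, Matrix.det_diagonal]
    exact Finset.prod_eq_zero (Finset.mem_univ _) h0
  have hc3 : (c : F) ^ 3 = 1 := by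
    apply mul_right_cancel₀ hd0
    rw [one_mul]
    linear_combination -(c : F) * C.ch k * C.ch (k * 2) * (c : F) * e0 - (c : F) * C.ch (k * 2) * e1 - e2 -
      (c : F) ^ 3 * d 0 * hk
  obtain rfl | rfl | rfl : i = 0 ∨ i = 1 ∨ i = 2 := by revert i; decide
  · rfl
  · rw [e0, mul_pow, mul_pow, one_pow, hc3, one_mul, one_mul]
  · rw [e1, e0, mul_pow, mul_pow, mul_pow, mul_pow, one_pow, hc3, hk3, one_mul, one_mul, one_mul]

theorem diag_mem_NZ {g : G3} (d : T3 → Fˣ) (hg : (g : M3) = Matrix.diagonal fun i => (d i : F))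
    (h : ∀ i, (d i : F) ^ 3 = (d 0 : F) ^ 3) : g ∈ C.NZ := by
  have hl : ∀ i, ∃ l : T3, (d i : F) = d 0 * C.ch l := by
    intro i
    have : ((d i : F) / d 0) ^ 3 = 1 := by rw [div_pow, h, div_self (pow_ne_zero _ (d 0).ne_zero)]
    obtain ⟨n, hn, e⟩ := C.prim.eq_pow_of_pow_eq_one this
    refine ⟨(n : T3), ?_⟩
    rw [Cube.ch, ZMod.val_natCast, Nat.mod_eq_of_lt hn, e, mul_div_cancel₀ _ (d 0).ne_zero]
  obtain ⟨l1, h1⟩ := hl 1
  obtain ⟨l2, h2⟩ := hl 2
  have hy : ∀ n : ℕ, ((C.y ^ n : G3) : M3) = Matrix.diagonal fun i => C.ch ((n : T3) * (i * i)) := by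
    intro n
    induction n with
    | zero => simp [C.ch_zero]
    | succ n ih =>
      rw [pow_succ, Units.val_mul, ih, show (C.y : M3) = Matrix.diagonal fun i => C.ch (i * i) from rfl,
        Matrix.diagonal_mul_diagonal]
      congr 1
      funext i
      rw [← C.ch_add]
      congr 1
      push_cast
      ring
  have e : g = sc (d 0) * (C.W (0, l2 - l1) * C.y ^ (2 * l1 - l2).val) := by
    apply Units.ext
    rw [Units.val_mul, Units.val_mul, coe_sc, C.W_diag, hy, hg, Matrix.diagonal_mul_diagonal, Matrix.smul_mul,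
      one_mul, ← Matrix.diagonal_smul]
    congr 1
    funext i
    simp only [Pi.smul_apply, smul_eq_mul, ZMod.natCast_zmod_val, ← C.ch_add]
    obtain rfl | rfl | rfl : i = 0 ∨ i = 1 ∨ i = 2 := by revert i; decide
    · simp [C.ch_zero]
    · rw [h1]; congr 2; ring
    · rw [h2]; congr 2
      exact (by decide : ∀ l1 l2 : T3, l2 = (l2 - l1) * 2 + (2 * l1 - l2) * (2 * 2)) l1 l2
  rw [e]
  exact mul_mem (C.sc_mem_NZ _) (mul_mem (C.W_mem_NZ _) (pow_mem C.y_mem_NZ _))

variable [Fintype F] {p : ℕ} {M : Subgroup (GL (ZMod 3 × ZMod 3) F)}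

theorem tl_le_NZ (hp : p.Prime) (hF : Fintype.card F = p) (hp2 : p ≠ 2) (hM : ContainsN9 C M)
    (hno : ¬ ∀ g : G9, (g : M9).det = 1 → g ∈ M) {g : G3} (hg : tl g ∈ M) : g ∈ C.NZ :=
  (base hp hF hp2 hM.comap_tl).resolve_right (fun h => hno (sl9_of_sl3 hp hF hM.swap hM.CZ h)) hg

theorem scalar_triple (hp : p.Prime) (hF : Fintype.card F = p) (hp2 : p ≠ 2) (hM : ContainsN9 C M)
    (hno : ¬ ∀ g : G9, (g : M9).det = 1 → g ∈ M) {c : T3 → Fˣ} (h : bd (fun i => sc (c i)) ∈ M) :
    (∀ i, (c i : F) ^ 3 = (c 0 : F) ^ 3) ∧ bd (fun i => sc (c i)) ∈ C.NZ9 := by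
  let g : G3 := Cfsg.Agent.Linear.diagGL c
  have hg : (g : M3) = Matrix.diagonal fun i => (c i : F) := Cfsg.Agent.Linear.diagGL_coe c
  rw [← tl_diag c hg] at h ⊢
  exact ⟨diag_NZ_cubes hg (tl_le_NZ hp hF hp2 hM hno h), C.tl_mem_NZ9 (tl_le_NZ hp hF hp2 hM hno h)⟩

omit [Fintype F] in
theorem scalar_triple_mem (hM : ContainsN9 C M) {c : T3 → Fˣ} (h : ∀ i, (c i : F) ^ 3 = (c 0 : F) ^ 3) :
    bd (fun i => sc (c i)) ∈ M := by
  let g : G3 := Cfsg.Agent.Linear.diagGL c
  have hg : (g : M3) = Matrix.diagonal fun i => (c i : F) := Cfsg.Agent.Linear.diagGL_coe c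
  rw [← tl_diag c hg]
  exact hM.tlN (diag_mem_NZ c hg h)

/-- A determinant-one diagonal element outside the normaliser. -/
noncomputable def t0 : G3 := Cfsg.Agent.Linear.diagGL fun i => if i = 0 then 1 else -1

omit [Fintype F] in
theorem coe_t0 : ((t0 : G3) : M3) = Matrix.diagonal fun i => if i = 0 then (1 : F) else -1 := by
  rw [t0, Cfsg.Agent.Linear.diagGL_coe]
  congr 1
  funext i
  split_ifs <;> simp

omit [Fintype F] in
theorem det_t0 : ((t0 : G3) : M3).det = 1 := by
  rw [coe_t0, Matrix.det_diagonal, show (Finset.univ : Finset T3) = {0, 1, 2} by decide,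
    Finset.prod_insert (by decide), Finset.prod_insert (by decide), Finset.prod_singleton]
  simp [one_ne_zero, two_ne_zero_T3]

omit [Fintype F] in
theorem t0_not_mem (h2 : (2 : F) ≠ 0) : (t0 : G3) ∉ C.NZ := fun h => by
  have := diag_NZ_cubes coe_t0 h 1
  norm_num at this
  exact h2 (by linear_combination -this)

omit [Fintype F] in
theorem exists_scalar_of_conj_sl (C : Cube F) {x : G3}
    (h : ∀ g : G3, (g : M3).det = 1 → ∃ c : Fˣ, x * g * x⁻¹ = sc c * g) : ∃ c : Fˣ, x = sc c := by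
  refine eq_scalar_of_comm_sl fun g hg => ?_
  have htop : Subgroup.comap Matrix.SpecialLinearGroup.toGL (Subgroup.centralizer {x}) = ⊤ :=
    Cfsg.Agent.Linear.eq_top_of_transvection_mem fun a b hab c => by
      rw [Subgroup.mem_comap, Subgroup.mem_centralizer_singleton_iff]
      obtain ⟨d, hd⟩ := h _ (det_trUnit hab c)
      have ht := congrArg (fun u : G3 => (u : M3).trace) hd
      beta_reduce at ht
      rw [trace_conj, Units.val_mul, coe_sc, Matrix.smul_mul, one_mul, Matrix.trace_smul, coe_trUnit,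
        Matrix.trace_add, Matrix.trace_single_eq_of_ne a b c hab, add_zero, Matrix.trace_one, smul_eq_mul] at ht
      have hd1 : d = 1 := Units.ext (mul_right_cancel₀ (b := (3 : F)) C.three_ne_zero (by
        simpa using ht.symm))
      rw [hd1, sc_one, one_mul, mul_inv_eq_iff_eq_mul] at hd
      exact hd.symm
  let s : Matrix.SpecialLinearGroup T3 F := ⟨(g : M3), hg⟩
  have hs : s ∈ Subgroup.comap Matrix.SpecialLinearGroup.toGL (Subgroup.centralizer {x}) :=
    htop ▸ Subgroup.mem_top s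
  rw [Subgroup.mem_comap, Subgroup.mem_centralizer_singleton_iff] at hs
  convert hs using 2 <;> exact Units.ext rfl

/-- All blocks of block-diagonal elements lie in the normaliser. -/
theorem blocks_mem (hp : p.Prime) (hF : Fintype.card F = p) (hp2 : p ≠ 2) (hM : ContainsN9 C M)
    (hno : ¬ ∀ g : G9, (g : M9).det = 1 → g ∈ M) {f : T3 → G3} (hf : bd f ∈ M) (i : T3) : f i ∈ C.NZ := by
  classical
  have := charP_of_card hp hF
  have h2 : (2 : F) ≠ 0 := two_ne_zero_of hp2 hp
  set K : Subgroup (T3 → G3) := M.comap bd with hK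
  have shift : ∀ k ∈ K, (fun i => k (i - 1)) ∈ K := fun k hk => by
    show bd (fun i => k (i - 1)) ∈ M
    rw [← bd_shift C]
    exact mul_mem (mul_mem (hM.W _) hk) (inv_mem (hM.W _))
  have neg : ∀ k ∈ K, (fun i => k (-i)) ∈ K := fun k hk => by
    show bd (fun i => k (-i)) ∈ M
    rw [← bd_neg C]
    exact mul_mem (mul_mem (hM.tlN C.flip_mem_NZ) hk) (inv_mem (hM.tlN C.flip_mem_NZ))
  have translate : ∀ k ∈ K, ∀ a : T3, (fun i => k (i + a)) ∈ K := by
    intro k hk a
    obtain rfl | rfl | rfl : a = 0 ∨ a = 1 ∨ a = 2 := by revert a; decide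
    · simpa using hk
    · convert shift _ (shift k hk) using 1
      funext i
      show k (i + 1) = k (i - 1 - 1)
      congr 1
      revert i; decide
    · convert shift k hk using 1
      funext i
      congr 1
      revert i; decide
  let P0 : Subgroup G3 := K.map (Pi.evalMonoidHom (fun _ : T3 => G3) 0)
  have hP0 : ContainsN C P0 :=
    ⟨fun c => ⟨_, hM.const_mem (C.sc_mem_NZ c), rfl⟩, fun v => ⟨_, hM.const_mem (C.W_mem_NZ v), rfl⟩,
      ⟨_, hM.const_mem C.S_mem_NZ, rfl⟩, ⟨_, hM.const_mem C.y_mem_NZ, rfl⟩⟩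
  rcases base hp hF hp2 hP0 with h | hsl
  · exact h ⟨_, translate f hf i, by simp⟩
  exfalso
  have proj : ∀ (a : T3) (g : G3), (g : M3).det = 1 → ∃ k ∈ K, k a = g := by
    intro a g hg
    obtain ⟨k, hk, e⟩ := hsl g hg
    exact ⟨_, translate k hk (-a), by simp; exact e⟩
  have noconst : ∀ g : G3, (g : M3).det = 1 → g ∉ C.NZ → (fun _ => g) ∉ K := by
    intro g _ hg hmem
    apply hg
    refine tl_le_NZ hp hF hp2 hM hno ?_
    have h1 : tr g ∈ M := by rw [tr_eq_bd]; exact hmem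
    have := mul_mem (mul_mem hM.swap h1) hM.swap
    rwa [swap_tr, mul_assoc, swapG_mul_self, mul_one] at this
  have stepA : ∀ k ∈ K, (∃ c : Fˣ, k 0 = sc c) → ∀ j, ∃ c : Fˣ, k j = sc c := by
    by_contra hcon
    push Not at hcon
    obtain ⟨k₀, hk₀, ⟨c0, hc0⟩, j, hj⟩ := hcon
    obtain ⟨k, hk, hk0, hk2⟩ : ∃ k ∈ K, (∃ c : Fˣ, k 0 = sc c) ∧ ∀ c : Fˣ, k 2 ≠ sc c := by
      obtain rfl | rfl | rfl := (by decide : ∀ j : T3, j = 0 ∨ j = 1 ∨ j = 2) j
      · exact absurd hc0 (hj c0)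
      · exact ⟨_, neg k₀ hk₀, ⟨c0, by simpa using hc0⟩, hj⟩
      · exact ⟨k₀, hk₀, ⟨c0, hc0⟩, hj⟩
    let K1 : Subgroup (T3 → G3) := K ⊓ (scGrp F T3).comap (Pi.evalMonoidHom (fun _ : T3 => G3) 1)
    let P : Subgroup G3 := K1.map (Pi.evalMonoidHom (fun _ : T3 => G3) 2)
    have hPn : ∀ g : G3, (g : M3).det = 1 → ∀ l ∈ P, g * l * g⁻¹ ∈ P := by
      rintro g hg _ ⟨l, hl, rfl⟩
      obtain ⟨u, hu, hu2⟩ := proj 2 g hg
      refine ⟨u * l * u⁻¹, Subgroup.mem_inf.2 ⟨mul_mem (mul_mem hu (Subgroup.mem_inf.1 hl).1) (inv_mem hu), ?_⟩,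
        by simp [hu2]⟩
      show u 1 * l 1 * (u 1)⁻¹ ∈ scGrp F T3
      exact scGrp_normal.conj_mem _ (Subgroup.mem_inf.1 hl).2 _
    have hP2 : k 2 ∈ P := by
      refine ⟨fun i => k (-(i + 2)), ⟨translate _ (neg k hk) 2, ?_⟩, ?_⟩
      · show k (-(1 + 2)) ∈ scGrp F T3
        rw [show -((1 : T3) + 2) = 0 from rfl]
        obtain ⟨c, hc⟩ := hk0
        exact ⟨c, hc.symm⟩
      · show k (-(2 + 2)) = k 2
        rw [show -((2 : T3) + 2) = 2 from rfl]
    have hPsl := sl_le_of_normalized hPn hP2 (fun ⟨c, hc⟩ => hk2 c hc)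
    let L2 : Subgroup G3 := K.comap (MonoidHom.mulSingle (fun _ : T3 => G3) 2)
    have hL2n : ∀ g : G3, (g : M3).det = 1 → ∀ l ∈ L2, g * l * g⁻¹ ∈ L2 := by
      intro g hg l hl
      obtain ⟨u, hu, hu2⟩ := proj 2 g hg
      show Pi.mulSingle 2 (g * l * g⁻¹) ∈ K
      have e : (Pi.mulSingle 2 (g * l * g⁻¹) : T3 → G3) = u * Pi.mulSingle 2 l * u⁻¹ := by
        funext i
        by_cases hi : i = 2
        · subst hi; simp [hu2]
        · simp [hi]
      rw [e]
      exact mul_mem (mul_mem hu hl) (inv_mem hu)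
    have hex : ∃ g : G3, (g : M3).det = 1 ∧ ¬ ∃ c : Fˣ, k 2 * g * (k 2)⁻¹ = sc c * g := by
      by_contra hh
      push Not at hh
      obtain ⟨c, hc⟩ := exists_scalar_of_conj_sl C hh
      exact hk2 c hc
    obtain ⟨g, hg, hgc⟩ := hex
    obtain ⟨u, ⟨huK, c1, hc1⟩, hu2⟩ := hPsl g hg
    have hcomm : (Pi.mulSingle 2 (k 2 * g * (k 2)⁻¹ * g⁻¹) : T3 → G3) ∈ K := by
      have e : (Pi.mulSingle 2 (k 2 * g * (k 2)⁻¹ * g⁻¹) : T3 → G3) = k * u * k⁻¹ * u⁻¹ := by
        funext i
        obtain rfl | rfl | rfl : i = 0 ∨ i = 1 ∨ i = 2 := by revert i; decide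
        · obtain ⟨c, hc⟩ := hk0
          simp [zero_ne_two_T3, hc, sc_comm c (u 0)]
        · have hu1 : u 1 = sc c1 := hc1.symm
          simp [one_ne_two_T3, hu1, ← sc_comm c1 (k 1)]
        · simp [show u 2 = g from hu2]
      rw [e]
      exact mul_mem (mul_mem (mul_mem hk huK) (inv_mem hk)) (inv_mem huK)
    have hL2sl := sl_le_of_normalized hL2n (x := k 2 * g * (k 2)⁻¹ * g⁻¹) hcomm
      (fun ⟨c, hc⟩ => hgc ⟨c, by rw [← hc, inv_mul_cancel_right]⟩)
    have ht : (Pi.mulSingle 2 (t0 : G3) : T3 → G3) ∈ K := hL2sl _ det_t0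
    refine noconst t0 det_t0 (t0_not_mem h2) ?_
    have e : (fun _ : T3 => (t0 : G3)) = Pi.mulSingle 2 (t0 : G3) *
        (fun i => (Pi.mulSingle 2 (t0 : G3) : T3 → G3) (i + 1)) *
        (fun i => (Pi.mulSingle 2 (t0 : G3) : T3 → G3) (i + 2)) := by
      funext i
      obtain rfl | rfl | rfl : i = 0 ∨ i = 1 ∨ i = 2 := by revert i; decide
      all_goals simp +decide [Pi.mulSingle_apply]
    rw [e]
    exact mul_mem (mul_mem ht (translate _ ht 1)) (translate _ ht 2)
  obtain ⟨k, hk, hk0⟩ := proj 0 t0 det_t0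
  have comm : ∀ n ∈ C.NZ, (t0 : G3) * n = n * t0 → ∀ j, ∃ e : Fˣ, k j * n * (k j)⁻¹ = sc e * n := by
    intro n hn hcn j
    obtain ⟨e, he⟩ := stepA (k * (fun _ => n) * k⁻¹ * (fun _ => n)⁻¹)
      (mul_mem (mul_mem (mul_mem hk (hM.const_mem hn)) (inv_mem hk)) (inv_mem (hM.const_mem hn)))
      ⟨1, by simp [hk0, hcn, sc_one]⟩ j
    exact ⟨e, by rw [← he]; simp⟩
  have ht0sq : (t0 : G3) * t0 = 1 := by
    apply Units.ext
    rw [Units.val_mul, coe_t0, Matrix.diagonal_mul_diagonal, Units.val_one, ← Matrix.diagonal_one]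
    congr 1
    funext i
    split_ifs <;> simp
  have hblock : ∀ j, ∃ c : Fˣ, k j = sc c * t0 := by
    intro j
    have commdiag : ∀ (n : G3) (d : T3 → F), (n : M3) = Matrix.diagonal d → (t0 : G3) * n = n * t0 := by
      intro n d hn
      apply Units.ext
      rw [Units.val_mul, Units.val_mul, hn, coe_t0, Matrix.diagonal_mul_diagonal, Matrix.diagonal_mul_diagonal]
      simp [mul_comm]
    have hflipc : (t0 : G3) * C.flip = C.flip * t0 := by
      apply Units.ext
      rw [Units.val_mul, Units.val_mul, coe_t0]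
      ext a b
      rw [Matrix.diagonal_mul, Matrix.mul_diagonal]
      obtain rfl | rfl | rfl : a = 0 ∨ a = 1 ∨ a = 2 := by revert a; decide
      all_goals obtain rfl | rfl | rfl : b = 0 ∨ b = 1 ∨ b = 2 := by revert b; decide
      all_goals simp [Cube.coe_flip, neg_one_T3, neg_two_T3, one_ne_two_T3, two_ne_one_T3, two_ne_zero_T3, zero_ne_two_T3]
    obtain ⟨e, he⟩ := comm C.flip C.flip_mem_NZ hflipc j
    have he1 : e = 1 := by
      have := congrArg (fun u : G3 => (u : M3).trace) he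
      beta_reduce at this
      rw [trace_conj, Units.val_mul, coe_sc, Matrix.smul_mul, one_mul, Matrix.trace_smul, trace_flip,
        smul_eq_mul] at this
      exact Units.ext (by rw [Units.val_one]; linear_combination this)
    rw [he1, sc_one, one_mul, mul_inv_eq_iff_eq_mul] at he
    have hH : k j ∈ C.Hgrp := Subgroup.mem_centralizer_singleton_iff.2 he
    obtain ⟨a1, a2, a3, a4⟩ := C.sym_facts hH
    obtain ⟨ey, hey⟩ := comm C.y C.y_mem_NZ (commdiag C.y _ rfl) j
    have hey1 : ey = 1 := by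
      have := congrArg (fun u : G3 => (u : M3).trace) hey
      beta_reduce at this
      rw [trace_conj, Units.val_mul, coe_sc, Matrix.smul_mul, one_mul, Matrix.trace_smul,
        show (C.y : M3) = Matrix.diagonal fun i => C.ch (i * i) from rfl, Matrix.trace_diagonal, sum3,
        show (0 : T3) * 0 = 0 from rfl, show (1 : T3) * 1 = 1 from rfl, show (2 : T3) * 2 = 1 from rfl,
        C.ch_zero, C.ch_one, smul_eq_mul] at this
      exact Units.ext (mul_right_cancel₀ (b := 1 + 2 * C.ω) C.root_ne_zero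
        (by rw [Units.val_one]; linear_combination -this))
    rw [hey1, sc_one, one_mul, mul_inv_eq_iff_eq_mul] at hey
    have yent : ∀ a b, (k j : M3) a b * (C.ch (b * b) - C.ch (a * a)) = 0 := fun a b => by
      have := congrArg (fun u : G3 => (u : M3) a b) hey
      simp only [Units.val_mul, show (C.y : M3) = Matrix.diagonal fun i => C.ch (i * i) from rfl,
        Matrix.mul_diagonal, Matrix.diagonal_mul] at this
      linear_combination this
    have hω : C.ω - 1 ≠ 0 := sub_ne_zero.2 C.ne_one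
    have z01 : (k j : M3) 0 1 = 0 := by
      have := yent 0 1
      rw [show (1 : T3) * 1 = 1 from rfl, show (0 : T3) * 0 = 0 from rfl, C.ch_zero, C.ch_one] at this
      exact (mul_eq_zero.1 this).resolve_right hω
    have z10 : (k j : M3) 1 0 = 0 := by
      have := yent 1 0
      rw [show (1 : T3) * 1 = 1 from rfl, show (0 : T3) * 0 = 0 from rfl, C.ch_zero, C.ch_one] at this
      exact (mul_eq_zero.1 this).resolve_right (fun h => hω (by linear_combination -h))
    have h00 : (k j : M3) 0 0 ≠ 0 := fun h0 => by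
      apply (Matrix.GeneralLinearGroup.det (k j)).ne_zero
      rw [Matrix.GeneralLinearGroup.val_det_apply]
      refine Matrix.det_eq_zero_of_row_eq_zero 0 fun b => ?_
      obtain rfl | rfl | rfl : b = 0 ∨ b = 1 ∨ b = 2 := by revert b; decide
      exacts [h0, z01, a1.trans z01]
    obtain ⟨ez, hez⟩ := comm (C.W (0, 1)) (C.W_mem_NZ _) (commdiag _ _ (C.W_diag 1)) j
    rw [mul_inv_eq_iff_eq_mul] at hez
    have zent : ∀ a b, (k j : M3) a b * C.ch (1 * b) = (ez : F) * (C.ch (1 * a) * (k j : M3) a b) := fun a b => by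
      have := congrArg (fun u : G3 => (u : M3) a b) hez
      simpa [coe_sc, C.W_diag, Matrix.mul_diagonal, Matrix.diagonal_mul, Matrix.smul_apply] using this
    have hez1 : (ez : F) = 1 := by
      have := zent 0 0
      rw [one_mul, C.ch_zero, mul_one, one_mul] at this
      exact (mul_eq_right₀ h00).1 this.symm
    have z12 : (k j : M3) 1 2 = 0 := by
      have := zent 1 2
      rw [one_mul, one_mul, hez1, one_mul, C.ch_one, C.ch_two] at this
      have h' : (k j : M3) 1 2 * (C.ω * (C.ω - 1)) = 0 := by linear_combination this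
      exact (mul_eq_zero.1 h').resolve_right (mul_ne_zero C.ne_zero hω)
    have kmat : (k j : M3) = Matrix.diagonal fun a => if a = 0 then (k j : M3) 0 0 else (k j : M3) 1 1 := by
      ext a b
      obtain rfl | rfl | rfl : a = 0 ∨ a = 1 ∨ a = 2 := by revert a; decide
      all_goals obtain rfl | rfl | rfl : b = 0 ∨ b = 1 ∨ b = 2 := by revert b; decide
      all_goals simp [a1, a2, a3, a4, z01, z10, z12, one_ne_two_T3, two_ne_one_T3, zero_ne_two_T3, two_ne_zero_T3]
    obtain ⟨d, hd⟩ := stepA (k * k) (mul_mem hk hk) ⟨1, by simp [hk0, ht0sq, sc_one]⟩ j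
    have hsq := congrArg (fun u : G3 => (u : M3)) hd
    simp only [Pi.mul_apply, Units.val_mul, coe_sc] at hsq
    rw [kmat, Matrix.diagonal_mul_diagonal] at hsq
    have s0 := congrFun (congrFun hsq 0) 0
    have s1 := congrFun (congrFun hsq 1) 1
    simp at s0 s1
    have hdiff : ((k j : M3) 1 1 - (k j : M3) 0 0) * ((k j : M3) 1 1 + (k j : M3) 0 0) = 0 := by
      linear_combination s1 - s0
    rcases mul_eq_zero.1 hdiff with h | h
    · exfalso
      have hsc : k j = sc (Units.mk0 _ h00) := by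
        apply Units.ext
        refine kmat.trans ?_
        rw [coe_sc, Units.val_mk0, sub_eq_zero.1 h]
        simp [Matrix.smul_one_eq_diagonal]
      obtain ⟨c, hc⟩ := stepA _ (translate k hk j) ⟨_, by simpa using hsc⟩ (-j)
      rw [show -j + j = 0 from neg_add_cancel j] at hc
      have hk0' : k 0 = sc c := hc
      rw [hk0] at hk0'
      have h01 := congrArg (fun u : G3 => (u : M3) 0 0) hk0'
      have h11 := congrArg (fun u : G3 => (u : M3) 1 1) hk0'
      simp [coe_t0, coe_sc] at h01 h11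
      exact h2 (by linear_combination h01 - h11)
    · refine ⟨Units.mk0 _ h00, ?_⟩
      apply Units.ext
      refine kmat.trans ?_
      rw [Units.val_mul, coe_sc, Units.val_mk0, coe_t0, Matrix.smul_mul, one_mul, ← Matrix.diagonal_smul]
      congr 1
      funext a
      by_cases ha : a = 0
      · simp [ha]
      · simp [ha, eq_neg_of_add_eq_zero_left h]
  have hX := hM.const_mem (C.W_mem_NZ (1, 0))
  set g : G3 := (t0 : G3) * C.W (1, 0) * (t0 : G3)⁻¹ * (C.W (1, 0))⁻¹ with hgdef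
  have hgd : (g : M3) = Matrix.diagonal fun a => if a = 2 then (1 : F) else -1 := by
    have e1 : (t0 : G3)⁻¹ = t0 := inv_eq_of_mul_eq_one_right ht0sq
    have e2 : (C.W (1, 0))⁻¹ = C.W (2, 0) := inv_eq_of_mul_eq_one_right (by
      rw [C.W_mul, show ((1, 0) : V) + (2, 0) = 0 from rfl, C.W_zero, mul_one]
      exact (congrArg sc (Units.ext (by simp [C.ch_zero]))).trans sc_one)
    rw [hgdef, e1, e2, Units.val_mul, Units.val_mul, Units.val_mul, coe_t0, Cube.coe_W, Cube.coe_W]
    ext a b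
    rw [Matrix.mul_apply, sum3]
    simp only [Matrix.mul_diagonal, Matrix.diagonal_mul, Cube.wMat_apply]
    obtain rfl | rfl | rfl : a = 0 ∨ a = 1 ∨ a = 2 := by revert a; decide
    all_goals obtain rfl | rfl | rfl : b = 0 ∨ b = 1 ∨ b = 2 := by revert b; decide
    all_goals simp +decide [C.ch_zero]
  refine noconst g ?_ (fun hg => ?_) ?_
  · rw [hgd, Matrix.det_diagonal, show (Finset.univ : Finset T3) = {0, 1, 2} by decide,
      Finset.prod_insert (by decide), Finset.prod_insert (by decide), Finset.prod_singleton]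
    simp [zero_ne_two_T3, one_ne_two_T3]
  · have := diag_NZ_cubes hgd hg 2
    simp [zero_ne_two_T3] at this
    norm_num at this
    exact h2 (by linear_combination this)
  · have e : (fun _ : T3 => g) = k * (fun _ => C.W (1, 0)) * k⁻¹ * (fun _ => C.W (1, 0))⁻¹ := by
      funext j
      obtain ⟨c, hc⟩ := hblock j
      simp only [Pi.mul_apply, Pi.inv_apply, hc, hgdef, _root_.mul_inv_rev, ← sc_inv, ← sc_comm c⁻¹]
      simp only [← mul_assoc]
      rw [mul_assoc (sc c) (t0 : G3), mul_assoc (sc c), ← sc_comm c⁻¹, ← mul_assoc (sc c), ← sc_mul,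
        mul_inv_cancel, sc_one, one_mul]
    rw [e]
    exact mul_mem (mul_mem (mul_mem hk hX) (inv_mem hk)) (inv_mem hX)

end Cfsg.Agent.H1.HeisThree
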