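import Cfsg.Agent.H1.HeisThree.NineMu
import Cfsg.Agent.Coprime.Generation

/-!
The kernel of the action of the centraliser of `flip ⊗ 1` on the antisymmetric eigenspace.
-/

set_option autoImplicit false

namespace Cfsg.Agent.H1.HeisThree

open Matrix

variable {F : Type*} [Field F] [Fintype F] {p : ℕ} {C : Cube F}

local notation "T3" => ZMod 3
local notation "V" => ZMod 3 × ZMod 3
local notation "M3" => Matrix (ZMod 3) (ZMod 3) F
local notation "G3" => GL (ZMod 3) F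
local notation "M9" => Matrix (ZMod 3 × ZMod 3) (ZMod 3 × ZMod 3) F
local notation "G9" => GL (ZMod 3 × ZMod 3) F

omit [Fintype F] in
theorem refl3_two_mem : (⟨_, refl3_mem 2⟩ : C.Hgrp) ∈ C.N1 := by
  refine C.mem_N1.2 ⟨Units.ext (mu_refl3 2), ?_⟩
  let d : T3 → Fˣ := fun a => if a = 0 then Units.mk0 _ (C.ch_ne_zero 2) else 1
  refine diag_mem_NZ (C := C) d ?_ fun i => ?_
  · rw [coe_refl3]
    congr 1
    funext a
    by_cases h : a = 0 <;> simp [d, h]
  · by_cases h : i = 0 <;> simp [d, h, pow_three_ch]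

omit [Fintype F] in
theorem refl3_cube : (refl3 C 2 : G3) ^ 3 = 1 := by
  apply Units.ext
  rw [Units.val_pow_eq_pow_val, coe_refl3, Matrix.diagonal_pow, Units.val_one, ← Matrix.diagonal_one]
  congr 1
  funext a
  by_cases h : a = 0 <;> simp [h, pow_three_ch]

omit [Fintype F] in
theorem trace_tl (g : G3) : ((tl g : G9) : M9).trace = 3 * (g : M3).trace := by
  rw [coe_tl, Matrix.trace_kronecker, Matrix.trace_one]
  simp [mul_comm]

omit [Fintype F] in
theorem trace_conj9 (g x : G9) : ((g * x * g⁻¹ : G9) : M9).trace = (x : M9).trace := by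
  rw [Units.val_mul, Units.val_mul, Matrix.trace_mul_cycle, Units.inv_mul, one_mul]

omit [Fintype F] in
theorem conj_of_scalar_mul {κ : Type*} [Fintype κ] [DecidableEq κ] (z : Fˣ) (X k : GL κ F) :
    (sc z * X) * k * (sc z * X)⁻¹ = X * k * X⁻¹ := by
  rw [show (sc z * X) * k * (sc z * X)⁻¹ = sc z * (X * k * X⁻¹) * (sc z)⁻¹ by group, sc_comm,
    mul_inv_cancel_right]

theorem pairs_cube : ∀ v : Multiplicative V, v ^ 3 = 1 := by decide

set_option maxHeartbeats 1600000 in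
/-- The kernel of the action on the antisymmetric eigenspace comes from the normaliser. -/
theorem ker_mem (hp : p.Prime) (hF : Fintype.card F = p) (hp2 : p ≠ 2)
    {M : Subgroup (GL (ZMod 3 × ZMod 3) F)} (hM : ContainsN9 C M)
    (hno : ¬ ∀ g : G9, (g : M9).det = 1 → g ∈ M) :
    ∀ k : C.Cj, (k : G9) ∈ M → C.mu9 k = 1 → ∃ h ∈ C.N1, (k : G9) = tl (h : G3) := by
  classical
  have := charP_of_card hp hF
  have h2 : (2 : F) ≠ 0 := two_ne_zero_of hp2 hp
  set K : Subgroup G9 := M ⊓ C.mu9.ker.map C.Cj.subtype with hKdef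
  have memK : ∀ {k : G9}, k ∈ K ↔ k ∈ M ∧ ∃ hk : k ∈ C.Cj, C.mu9 ⟨k, hk⟩ = 1 := by
    intro k
    constructor
    · rintro ⟨h1, ⟨x, hx⟩, h2, rfl⟩
      exact ⟨h1, hx, h2⟩
    · rintro ⟨h1, hk, h2⟩
      exact ⟨h1, ⟨k, hk⟩, h2, rfl⟩
  suffices main : ∀ k ∈ K, ∃ h ∈ C.N1, k = tl (h : G3) by
    intro k hk h1
    exact main _ (memK.2 ⟨hk, k.2, h1⟩)
  have hN : ∀ k ∈ K, k ∈ C.NZ9 → ∃ h ∈ C.N1, k = tl (h : G3) := by
    intro k hk hk9
    obtain ⟨-, hkC, hk1⟩ := memK.1 hk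
    obtain ⟨a, b, hb, e, ha, e'⟩ := C.mu9_decomp (g := ⟨k, hkC⟩) hk9
    rw [hk1] at e'
    have hb' : b = (sc (C.mu a))⁻¹ := eq_inv_of_mul_eq_one_right e'.symm
    obtain ⟨d, hd⟩ : ∃ d : C.Hgrp, (d : G3) = sc (C.mu a)⁻¹ := ⟨⟨_, C.sc_mem _⟩, rfl⟩
    have hmd : C.mu d = (C.mu a)⁻¹ := by
      rw [show d = ⟨_, C.sc_mem (C.mu a)⁻¹⟩ from Subtype.ext hd]
      exact Units.ext (C.mu_sc _)
    refine ⟨d * a, C.mem_N1.2 ⟨?_, ?_⟩, ?_⟩
    · rw [map_mul, hmd, inv_mul_cancel]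
    · rw [Subgroup.coe_mul, hd]
      exact mul_mem (C.sc_mem_NZ _) ha
    · rw [Subgroup.coe_mul, hd, map_mul, tl_sc]
      change k = tl (a : G3) * tr b at e
      rw [e, hb', ← sc_inv, tr_sc, sc_comm]
  have hmem : ∀ h ∈ C.N1, tl ((h : C.Hgrp) : G3) ∈ K := fun h hh =>
    memK.2 ⟨hM.tlN (C.mem_N1.1 hh).2, C.tl_mem_Cj h.2, by rw [C.mu9_tl, (C.mem_N1.1 hh).1, sc_one]⟩
  have hscK : ∀ c : Fˣ, sc c ∈ K → c = 1 := by
    intro c hc
    obtain ⟨-, hkC, h1⟩ := memK.1 hc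
    have e : (⟨sc c, hkC⟩ : C.Cj) = ⟨_, C.tr_mem_Cj (sc c)⟩ := Subtype.ext (tr_sc c).symm
    rw [e, C.mu9_tr, ← sc_one] at h1
    exact sc_inj h1
  have hconjK : ∀ v : V, ∀ k ∈ K, tr (C.W v) * k * (tr (C.W v))⁻¹ ∈ K := by
    intro v k hk
    obtain ⟨hkM, hkC, hk1⟩ := memK.1 hk
    refine memK.2 ⟨mul_mem (mul_mem (hM.trN (C.W_mem_NZ v)) hkM) (inv_mem (hM.trN (C.W_mem_NZ v))),
      mul_mem (mul_mem (C.tr_mem_Cj _) hkC) (inv_mem (C.tr_mem_Cj _)), ?_⟩
    have e : (⟨tr (C.W v) * k * (tr (C.W v))⁻¹,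
        mul_mem (mul_mem (C.tr_mem_Cj _) hkC) (inv_mem (C.tr_mem_Cj _))⟩ : C.Cj) =
        ⟨_, C.tr_mem_Cj (C.W v)⟩ * ⟨k, hkC⟩ * (⟨_, C.tr_mem_Cj (C.W v)⟩ : C.Cj)⁻¹ := rfl
    rw [e, map_mul, map_mul, map_inv, hk1, mul_one, mul_inv_cancel]
  have hfix : ∀ (v : V), v ≠ 0 → ∀ k ∈ K, tr (C.W v) * k * (tr (C.W v))⁻¹ = k → ∃ h ∈ C.N1, k = tl (h : G3) := by
    intro v hv k hk e
    refine hN k hk (comm_W9_mem hp hF hp2 hM hno (memK.1 hk).1 (w := (0, v))
      (fun h => hv (congrArg Prod.snd h)) ?_)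
    rw [C.W9_snd]
    exact (mul_inv_eq_iff_eq_mul.1 e).symm
  -- the congruence
  let act : MulAction (Multiplicative V) K :=
    { smul := fun v k => ⟨tr (C.W v.toAdd) * k * (tr (C.W v.toAdd))⁻¹, hconjK _ k k.2⟩
      one_smul := fun k => Subtype.ext (by
        show tr (C.W (0 : V)) * (k : G9) * (tr (C.W (0 : V)))⁻¹ = k
        rw [C.W_zero, map_one, one_mul, inv_one, mul_one])
      mul_smul := fun u v k => Subtype.ext (by
        show tr (C.W (u.toAdd + v.toAdd)) * (k : G9) * (tr (C.W (u.toAdd + v.toAdd)))⁻¹ =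
          tr (C.W u.toAdd) * (tr (C.W v.toAdd) * (k : G9) * (tr (C.W v.toAdd))⁻¹) * (tr (C.W u.toAdd))⁻¹
        rw [show C.W (u.toAdd + v.toAdd) = sc (Units.mk0 _ (C.ch_ne_zero (u.toAdd.2 * v.toAdd.1)))⁻¹ *
            (C.W u.toAdd * C.W v.toAdd) by rw [C.W_mul, sc_inv, inv_mul_cancel_left],
          map_mul, tr_sc, conj_of_scalar_mul, map_mul]
        group) }
  let X : SubMulAction (Multiplicative V) K :=
    { carrier := {k | ∀ h ∈ C.N1, ((k : G9)) ≠ tl (h : G3)}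
      smul_mem' := fun v k hk h hh e => by
        refine hk h hh ?_
        have e' : (k : G9) = (tr (C.W v.toAdd))⁻¹ * tl (h : G3) * tr (C.W v.toAdd) := by
          rw [← e]
          show (k : G9) = (tr (C.W v.toAdd))⁻¹ * (tr (C.W v.toAdd) * (k : G9) * (tr (C.W v.toAdd))⁻¹) *
            tr (C.W v.toAdd)
          group
        rw [e', mul_assoc, tl_tr_comm, inv_mul_cancel_left] }
  have hfree : ∀ x : X, MulAction.stabilizer (Multiplicative V) x = ⊥ := by
    intro x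
    rw [Subgroup.eq_bot_iff_forall]
    intro v hv
    by_contra hv1
    have e : tr (C.W v.toAdd) * ((x : K) : G9) * (tr (C.W v.toAdd))⁻¹ = ((x : K) : G9) :=
      congrArg (fun y : X => ((y : K) : G9)) hv
    obtain ⟨h, hh, he⟩ := hfix v.toAdd (fun h => hv1 h) _ (x : K).2 e
    exact x.2 h hh he
  have hX9 : 9 ∣ Nat.card X := by
    rw [Nat.card_congr (MulAction.selfEquivOrbitsQuotientProd hfree), Nat.card_prod]
    exact Dvd.dvd.mul_left (by simp) _
  have hcard : Nat.card K = 24 + Nat.card X := by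
    rw [← Nat.card_congr (Equiv.sumCompl fun k : K => k ∈ X), Nat.card_sum, add_comm]
    congr 1
    rw [← C.card_N1]
    refine (Nat.card_congr (Equiv.ofBijective (fun h => (⟨⟨_, hmem h.1 h.2⟩, fun hX => hX h.1 h.2 rfl⟩ :
      {k : K // k ∉ X})) ⟨?_, ?_⟩)).symm
    · intro a b e
      exact Subtype.ext (Subtype.ext (tl_injective (congrArg (fun k : {k : K // k ∉ X} => ((k : K) : G9)) e)))
    · rintro ⟨k, hk⟩
      obtain ⟨h, hh, e⟩ : ∃ h ∈ C.N1, (k : G9) = tl (h : G3) := by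
        by_contra hne
        push Not at hne
        exact hk hne
      exact ⟨⟨h, hh⟩, Subtype.ext (Subtype.ext e.symm)⟩
  have h9 : ¬ 9 ∣ Nat.card K := by
    rw [hcard]; intro h; omega
  -- the Sylow subgroup and its complement
  set t : K := ⟨_, hmem _ refl3_two_mem⟩ with ht
  have h3 : Fact (Nat.Prime 3) := ⟨Nat.prime_three⟩
  have ht1 : t ≠ 1 := fun h => by
    have := congrArg (fun x : K => ((x : G9) : M9) (0, 0) (0, 0)) h
    simp [ht, coe_tl, coe_refl3, Cube.ch_two, Matrix.kroneckerMap_apply] at this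
    rcases this with h' | h'
    · exact C.ne_one h'
    · have hc := C.cube
      rw [h'] at hc
      exact h2 (by linear_combination -hc)
  have htord : orderOf t = 3 := orderOf_eq_prime (Subtype.ext (by
    show (tl (refl3 C 2) : G9) ^ 3 = 1
    rw [← map_pow, refl3_cube, map_one])) ht1
  obtain ⟨P, hP⟩ := (IsPGroup.of_card (p := 3) (n := 1) (G := Subgroup.zpowers t)
    (by rw [Nat.card_zpowers, htord, pow_one])).exists_le_sylow
  have hPeq : (P : Subgroup K) = Subgroup.zpowers t := by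
    obtain ⟨n, hn⟩ := IsPGroup.iff_card.mp P.isPGroup'
    have hdvd : Nat.card (P : Subgroup K) ∣ Nat.card K := Subgroup.card_subgroup_dvd_card _
    have hn1 : n ≤ 1 := by
      by_contra hn1
      exact h9 (dvd_trans (by rw [hn]; exact pow_dvd_pow 3 (by omega : 2 ≤ n)) hdvd)
    refine (Subgroup.eq_of_le_of_card_ge hP ?_).symm
    rw [hn, Nat.card_zpowers, htord]
    exact le_trans (Nat.pow_le_pow_right (by norm_num) hn1) (by norm_num)
  have hnc : Subgroup.normalizer ((P : Subgroup K) : Set K) ≤ Subgroup.centralizer (P : Set K) := by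
    intro n hn
    have hnt : n * t * n⁻¹ ∈ Subgroup.zpowers t := hPeq ▸ (Subgroup.mem_normalizer_iff.1 hn t).1
      (hPeq.symm ▸ Subgroup.mem_zpowers t)
    have hnt' : n * t * n⁻¹ = t := by
      rw [← mem_powers_iff_mem_zpowers] at hnt
      obtain ⟨i, hi⟩ := hnt
      simp only at hi
      have hi' : n * t * n⁻¹ = t ^ (i % 3) := by
        have hm := pow_mod_orderOf t i
        rw [htord] at hm
        rw [← hi, hm]
      have hi3 : i % 3 = 0 ∨ i % 3 = 1 ∨ i % 3 = 2 := by omega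
      rcases hi3 with h | h | h <;> rw [h] at hi'
      · rw [pow_zero, conj_eq_one_iff] at hi'
        exact absurd hi' ht1
      · rwa [pow_one] at hi'
      · exfalso
        have := congrArg (fun x : K => ((x : G9) : M9).trace) hi'
        simp only [Subgroup.coe_mul, Subgroup.coe_inv, SubgroupClass.coe_pow, ht, trace_conj9, ← map_pow,
          trace_tl] at this
        have h' := mul_left_cancel₀ C.three_ne_zero this
        rw [Units.val_pow_eq_pow_val, coe_refl3, Matrix.diagonal_pow, Matrix.trace_diagonal, Matrix.trace_diagonal,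
          sum3, sum3] at h'
        simp [C.ch_two, one_ne_zero, two_ne_zero_T3] at h'
        refine C.ne_one ?_
        have hc := C.cube
        have h4 : C.ω = C.ω ^ 2 := by linear_combination -h' - C.ω * hc
        exact mul_right_cancel₀ C.ne_zero (by rw [one_mul, ← pow_two]; exact h4.symm)
    rw [Subgroup.mem_centralizer_iff]
    intro x hx
    obtain ⟨i, rfl⟩ := (SetLike.ext_iff.1 hPeq x).1 hx
    exact ((show Commute n t from mul_inv_eq_iff_eq_mul.1 hnt').zpow_right i).symm.eq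
  set O : Subgroup K := (MonoidHom.transferSylow P hnc).ker
  have hcompl := MonoidHom.ker_transferSylow_isComplement' P hnc
  have hO3 : ¬ 3 ∣ Nat.card O := MonoidHom.not_dvd_card_ker_transferSylow P hnc
  have hOchar : ∀ x : K, x ∈ O ↔ ¬ 3 ∣ orderOf x := by
    intro x
    refine ⟨fun hx h => hO3 (h.trans (by rw [← Subgroup.orderOf_mk x hx]; exact orderOf_dvd_natCard _)), fun h => ?_⟩
    rw [MonoidHom.mem_ker, ← orderOf_eq_one_iff]
    have h1 := orderOf_map_dvd (MonoidHom.transferSylow P hnc) x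
    obtain ⟨n, hn⟩ := IsPGroup.iff_card.mp P.isPGroup'
    have h2 : orderOf (MonoidHom.transferSylow P hnc x) ∣ 3 ^ n := hn ▸ orderOf_dvd_natCard _
    exact Nat.eq_one_of_dvd_coprimes
      (Nat.Coprime.pow_right n ((Nat.prime_three.coprime_iff_not_dvd).2 h).symm) h1 h2
  -- coprime action modulo scalars
  let π : G9 →* G9 ⧸ scGrp F (T3 × T3) := QuotientGroup.mk' _
  have hπsc : ∀ c : Fˣ, π (sc c) = 1 := fun c => (QuotientGroup.eq_one_iff _).2 ⟨c, rfl⟩
  have hπ : ∀ {a b : G9}, π a = π b → ∃ c : Fˣ, a = sc c * b := by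
    intro a b h
    have h1 : π (a * b⁻¹) = 1 := by rw [map_mul, map_inv, h, mul_inv_cancel]
    obtain ⟨c, hc⟩ := (QuotientGroup.eq_one_iff _).1 h1
    exact ⟨c, by rw [show sc c = a * b⁻¹ from hc, inv_mul_cancel_right]⟩
  let α : Multiplicative V →* G9 ⧸ scGrp F (T3 × T3) :=
    MonoidHom.mk' (fun v => π (tr (C.W v.toAdd))) fun u v => by
      rw [← map_mul π, ← map_mul tr, C.W_mul, map_mul tr, tr_sc, map_mul π, hπsc, one_mul, toAdd_mul]
  have hαinj : Function.Injective α := by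
    intro u v h
    obtain ⟨c, hc⟩ := hπ (h : π (tr (C.W u.toAdd)) = π (tr (C.W v.toAdd)))
    rw [← tr_sc, ← map_mul] at hc
    have := tr_injective hc
    exact Multiplicative.toAdd.injective
      (C.sc_W_inj (c := 1) (d := c) (by rw [sc_one, one_mul]; exact this)).2
  let A := α.range
  have hAcard : Nat.card A = 9 := by
    rw [← Nat.card_congr (MonoidHom.ofInjective hαinj).toEquiv]
    simp
  have hA3 : ∀ a : A, a ^ 3 = 1 := by
    rintro ⟨_, v, rfl⟩
    refine Subtype.ext ?_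
    show α v ^ 3 = 1
    rw [← map_pow, pairs_cube v, map_one]
  have hAnc : ¬ IsCyclic A := by
    intro h
    obtain ⟨a, ha⟩ := IsCyclic.exists_generator (α := A)
    have := orderOf_eq_card_of_forall_mem_zpowers ha
    have h' := orderOf_dvd_of_pow_eq_one (hA3 a)
    rw [this, hAcard] at h'
    norm_num at h'
  have : IsMulCommutative A := ⟨⟨by
    rintro ⟨_, u, rfl⟩ ⟨_, v, rfl⟩
    exact Subtype.ext (by show α u * α v = α v * α u; rw [← map_mul, ← map_mul, mul_comm])⟩⟩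
  let OQ : Subgroup (G9 ⧸ scGrp F (T3 × T3)) := O.map (π.comp K.subtype)
  have hconjO : ∀ (v : V), ∀ o ∈ O, (⟨_, hconjK v o o.2⟩ : K) ∈ O := by
    intro v o ho
    rw [hOchar] at ho ⊢
    rwa [← Subgroup.orderOf_coe, show ((⟨_, hconjK v o o.2⟩ : K) : G9) = MulAut.conj (tr (C.W v)) (o : G9) from rfl,
      MulEquiv.orderOf_eq, Subgroup.orderOf_coe]
  have hAO : ∀ a ∈ A, ∀ x ∈ OQ, a * x * a⁻¹ ∈ OQ := by
    rintro _ ⟨v, rfl⟩ _ ⟨o, ho, rfl⟩
    exact ⟨_, hconjO v.toAdd o ho, by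
      show π (tr (C.W v.toAdd) * (o : G9) * (tr (C.W v.toAdd))⁻¹) = _
      rw [map_mul, map_mul, map_inv]; rfl⟩
  have hAN : A ≤ Subgroup.normalizer (OQ : Set (G9 ⧸ scGrp F (T3 × T3))) := fun a ha => by
    rw [Subgroup.mem_normalizer_iff]
    refine fun x => ⟨hAO a ha x, fun h => ?_⟩
    have := hAO a⁻¹ (inv_mem ha) _ h
    simpa [mul_assoc] using this
  have hcop : (Nat.card A).Coprime (Nat.card OQ) := by
    rw [hAcard, show 9 = 3 ^ 2 by norm_num]
    refine Nat.Coprime.pow_left 2 (Nat.prime_three.coprime_iff_not_dvd.2 fun h => hO3 (h.trans ?_))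
    exact Subgroup.card_map_dvd _ _
  let N : Subgroup G3 := C.N1.map C.Hgrp.subtype
  let SQ : Subgroup (G9 ⧸ scGrp F (T3 × T3)) := N.map (π.comp tl)
  have hle : OQ ≤ SQ := by
    refine Cfsg.Agent.Coprime.le_of_centralizer_noncyclic_le hAnc hAN hcop ?_
    rintro _ ⟨v, rfl⟩ hv _ ⟨⟨o, ho, rfl⟩, hc⟩
    have hcomm : π (tr (C.W v.toAdd) * (o : G9) * (tr (C.W v.toAdd))⁻¹) = π (o : G9) := by
      rw [map_mul, map_mul, map_inv, mul_inv_eq_iff_eq_mul]
      exact (Subgroup.mem_centralizer_singleton_iff.1 hc).symm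
    obtain ⟨c, hc'⟩ := hπ hcomm
    have hcK : sc c ∈ K := by
      have := mul_mem (hconjK v.toAdd o o.2) (inv_mem o.2)
      rwa [hc', mul_inv_cancel_right] at this
    rw [hscK c hcK, sc_one, one_mul] at hc'
    obtain ⟨h, hh, e⟩ := hfix v.toAdd (fun h => hv (by
      show α v = 1
      rw [show v = 1 from Multiplicative.toAdd.injective h, map_one])) o o.2 hc'
    exact ⟨_, Subgroup.mem_map_of_mem _ hh, by show π (tl (h : G3)) = π (o : G9); rw [e]⟩
  intro k hk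
  obtain ⟨⟨⟨o, ho⟩, ⟨x, hx⟩⟩, hox⟩ := hcompl.2 ⟨k, hk⟩
  have ex : ∃ h ∈ C.N1, (x : G9) = tl (h : G3) := by
    rw [hPeq] at hx
    obtain ⟨i, rfl⟩ := hx
    exact ⟨_, zpow_mem refl3_two_mem i, by simp [ht]⟩
  obtain ⟨h', hh', ex'⟩ := ex
  obtain ⟨_, ⟨h, hh, rfl⟩, e⟩ := hle (Subgroup.mem_map_of_mem _ ho)
  obtain ⟨c, hc⟩ : ∃ c : Fˣ, tl (h : G3) = sc c * (o : G9) := hπ e
  have hcK : sc c ∈ K := by
    have := mul_mem (hmem h hh) (inv_mem o.2)
    rwa [hc, mul_inv_cancel_right] at this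
  rw [hscK c hcK, sc_one, one_mul] at hc
  refine ⟨h * h', mul_mem hh hh', ?_⟩
  rw [Subgroup.coe_mul, map_mul, hc, ← ex']
  exact congrArg Subtype.val hox.symm

end Cfsg.Agent.H1.HeisThree
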