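import Cfsg.Agent.H1.HeisThree.NineTriples

/-!
Centralisers of nontrivial elements of the extraspecial group.
-/

set_option autoImplicit false

namespace Cfsg.Agent.H1.HeisThree

open Matrix

variable {F : Type*} [Field F] {C : Cube F}

local notation "T3" => ZMod 3
local notation "V" => ZMod 3 × ZMod 3
local notation "M9" => Matrix (ZMod 3 × ZMod 3) (ZMod 3 × ZMod 3) F
local notation "G9" => GL (ZMod 3 × ZMod 3) F

theorem conj_W9_trans {M : Subgroup (GL (ZMod 3 × ZMod 3) F)} (hM : ContainsN9 C M) {w : V × V}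
    (hw : w ≠ 0) :
    ∃ n ∈ M, n ∈ C.NZ9 ∧ ∃ c : Fˣ, n * C.W9 ((0, 1), 0) * n⁻¹ = sc c * C.W9 w := by
  -- reachable vectors
  let P : V × V → Prop := fun w =>
    ∃ n ∈ M, n ∈ C.NZ9 ∧ ∃ c : Fˣ, n * C.W9 ((0, 1), 0) * n⁻¹ = sc c * C.W9 w
  have step : ∀ {w w' : V × V} {m : G9} {d : Fˣ}, P w → m ∈ M → m ∈ C.NZ9 →
      m * C.W9 w * m⁻¹ = sc d * C.W9 w' → P w' := by
    rintro w w' m d ⟨n, hn, hn', c, hc⟩ hm hm' hd
    refine ⟨m * n, mul_mem hm hn, mul_mem hm' hn', c * d, ?_⟩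
    rw [show m * n * C.W9 ((0, 1), 0) * (m * n)⁻¹ = m * (n * C.W9 ((0, 1), 0) * n⁻¹) * m⁻¹ by group, hc,
      conj_sc_mul, hd, ← mul_assoc, ← sc_mul]
  have h0 : P ((0, 1), 0) := ⟨1, one_mem _, one_mem _, 1, by simp [sc_one]⟩
  have pairs : ∀ u v a b : V, u ≠ 0 → v ≠ 0 → a ≠ 0 → b ≠ 0 → (P (u, 0) → P (a, 0)) ∧
      (P (u, v) → P (a, b)) := by
    intro u v a b hu hv ha hb
    have sec : ∀ t : V, t ≠ 0 → ∃ n ∈ C.NZ, ∃ σ : V ≃ V, C.Lift n σ ∧ σ (0, 1) = t := by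
      intro t ht
      obtain ⟨s, hs⟩ := (by decide : ∀ t : V, t ≠ 0 → ∃ a, det2 a t = 1) t ht
      obtain ⟨n, hn, σ, hσ, -, hσt⟩ := exists_lift (containsN_NZ (C := C)) s t hs
      exact ⟨n, hn, σ, hσ, hσt⟩
    have between : ∀ s t : V, s ≠ 0 → t ≠ 0 → ∃ n ∈ C.NZ, ∃ σ : V → V, C.Lift n σ ∧ σ s = t := by
      intro s t hs ht
      obtain ⟨n, hn, σ, hσ, e⟩ := sec s hs
      obtain ⟨n', hn', σ', hσ', e'⟩ := sec t ht
      refine ⟨n' * n⁻¹, mul_mem hn' (inv_mem hn), _, C.lift_mul hσ' (C.lift_inv hσ), ?_⟩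
      show σ' (σ.symm s) = t
      rw [← e, σ.symm_apply_apply, e']
    obtain ⟨n, hn, σ, hσ, e⟩ := between u a hu ha
    obtain ⟨n', hn', σ', hσ', e'⟩ := between v b hv hb
    constructor
    · intro h
      obtain ⟨d, hd⟩ := C.lift9_tl_tr hσ (fun z => ⟨1, by simp [sc_one]⟩ : C.Lift 1 id) (u, 0)
      refine step h (m := tl n * tr 1) (d := d) (mul_mem (hM.tlN hn) (by rw [map_one]; exact one_mem _))
        (mul_mem (C.tl_mem_NZ9 hn) (by rw [map_one]; exact one_mem _)) ?_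
      rw [hd]
      simp [e]
    · intro h
      obtain ⟨d, hd⟩ := C.lift9_tl_tr hσ hσ' (u, v)
      refine step h (m := tl n * tr n') (d := d) (mul_mem (hM.tlN hn) (hM.trN hn'))
        (mul_mem (C.tl_mem_NZ9 hn) (C.tr_mem_NZ9 hn')) ?_
      rw [hd]
      simp [e, e']
  have h10 : P ((1, 0), 0) := (pairs (0, 1) (0, 1) (1, 0) (0, 1) (by decide) (by decide) (by decide) (by decide)).1 h0
  have hmix : P ((1, 0), (0, 1)) := by
    refine step h10 (m := C.CZ) (d := 1) hM.CZ C.CZ_mem_NZ9 ?_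
    rw [C.W9_fst, Cube.CZ, C.bd_conj_tl_shift, sc_one, one_mul, Cube.W9, tl_tr_comm, tr_eq_bd]
    congr 2
    funext i
    rw [mul_inv_eq_iff_eq_mul, C.W_mul]
    simp [C.ch_zero, sc_one]
  obtain ⟨u, v⟩ := w
  by_cases hv : v = 0
  · subst hv
    have hu : u ≠ 0 := fun e => hw (by rw [e]; rfl)
    exact (pairs (0, 1) (0, 1) u (0, 1) (by decide) (by decide) hu (by decide)).1 h0
  by_cases hu : u = 0
  · subst hu
    have h := (pairs (0, 1) (0, 1) v (0, 1) (by decide) (by decide) hv (by decide)).1 h0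
    exact step h (m := swapG) (d := 1) hM.swap C.swap_mem_NZ9 (by rw [C.swap_W9, sc_one, one_mul]; rfl)
  exact (pairs (1, 0) (0, 1) u v (by decide) (by decide) hu hv).2 hmix

variable [Fintype F] {p : ℕ}

theorem comm_W9_mem (hp : p.Prime) (hF : Fintype.card F = p) (hp2 : p ≠ 2)
    {M : Subgroup (GL (ZMod 3 × ZMod 3) F)} (hM : ContainsN9 C M)
    (hno : ¬ ∀ g : G9, (g : M9).det = 1 → g ∈ M) {g : G9} (hg : g ∈ M) {w : V × V} (hw : w ≠ 0)
    (hcomm : g * C.W9 w = C.W9 w * g) : g ∈ C.NZ9 := by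
  obtain ⟨n, hn, hn', c, hc⟩ := conj_W9_trans hM hw
  have h0 : n⁻¹ * g * n * tl (C.W (0, 1)) = tl (C.W (0, 1)) * (n⁻¹ * g * n) := by
    rw [← C.W9_fst]
    have e : C.W9 ((0, 1), 0) = sc c * (n⁻¹ * C.W9 w * n) := by
      calc C.W9 ((0, 1), 0) = n⁻¹ * (n * C.W9 ((0, 1), 0) * n⁻¹) * n := by group
        _ = sc c * (n⁻¹ * C.W9 w * n) := by
          rw [hc, mul_sc_mul n⁻¹, mul_assoc (sc c)]
    rw [e, mul_sc_mul, mul_assoc (sc c)]
    congr 1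
    calc n⁻¹ * g * n * (n⁻¹ * C.W9 w * n) = n⁻¹ * (g * C.W9 w) * n := by group
      _ = n⁻¹ * (C.W9 w * g) * n := by rw [hcomm]
      _ = n⁻¹ * C.W9 w * n * (n⁻¹ * g * n) := by group
  obtain ⟨f, hf⟩ := C.exists_bd h0
  have hfM : bd f ∈ M := hf ▸ mul_mem (mul_mem (inv_mem hn) hg) hn
  have h9 := nz_triple hp hF hp2 hM hno hfM
  rw [← hf] at h9
  have : g = n * (n⁻¹ * g * n) * n⁻¹ := by group
  rw [this]
  exact mul_mem (mul_mem hn' h9) (inv_mem hn')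

end Cfsg.Agent.H1.HeisThree
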