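import Cfsg.Agent.H1.HeisThree.NineB

/-!
The centraliser of `flip ⊗ 1` in the subgroup lies in the normaliser.
-/

set_option autoImplicit false

namespace Cfsg.Agent.H1.HeisThree

open Matrix

variable {F : Type*} [Field F] [Fintype F] {p : ℕ} {C : Cube F}

local notation "T3" => ZMod 3
local notation "V" => ZMod 3 × ZMod 3
local notation "M3" => Matrix (ZMod 3) (ZMod 3) F
local notation "G3" => GL (ZMod 3) F
local notation "M9" => Matrix (ZMod 3 × ZMod 3) (ZMod 3 × ZMod 3) F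
local notation "G9" => GL (ZMod 3 × ZMod 3) F

theorem p_mod_three (C : Cube F) (hp : p.Prime) (hF : Fintype.card F = p) : p % 3 = 1 := by
  have h := FiniteField.pow_card_sub_one_eq_one C.ω C.ne_zero
  rw [hF, C.prim.pow_eq_one_iff_dvd] at h
  have := hp.two_le
  omega

set_option synthInstance.maxSize 4000 in
set_option synthInstance.maxHeartbeats 400000 in
theorem cand_primes : ∀ d ≤ 24, ∀ q ≤ 24, d ∣ 24 → 2 ∣ d → ¬ d = 24 → q ∣ 24 - d → q % 3 = 1 →
    ¬ (1 < q ∧ ∀ m < q, 1 < m → ¬ m ∣ q) := by decide +kernel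

/-- An element of `p`-power order over a transvection. -/
theorem exists_p_lift (hp : p.Prime) (hF : Fintype.card F = p) {Γ : Type*} [Group Γ] [Finite Γ]
    (f : Γ →* G3) {g : Γ} {i j : T3} (hij : i ≠ j) {c : F} (hg : f g = trUnit i j hij c) :
    ∃ g' ∈ Subgroup.zpowers g, f g' = trUnit i j hij c ∧ ∃ a : ℕ, g' ^ p ^ a = 1 := by
  have := Fact.mk hp
  have := charP_of_card hp hF
  obtain ⟨a, m, hm, hn⟩ := Nat.exists_eq_pow_mul_and_not_dvd (orderOf_pos g).ne' p hp.ne_one
  refine ⟨g ^ m ^ (p - 1), Subgroup.npow_mem_zpowers _ _, ?_, a, ?_⟩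
  · rw [map_pow, hg]
    apply Units.ext
    rw [coe_pow_one_add (coe_trUnit hij c) (Matrix.single_mul_single_of_ne _ _ _ _ hij.symm _)]
    have h1 : ((m ^ (p - 1) : ℕ) : F) = 1 := by
      have hm0 : (m : F) ≠ 0 := fun h => hm ((CharP.cast_eq_zero_iff F p m).1 h)
      have := FiniteField.pow_card_sub_one_eq_one (m : F) hm0
      rw [hF] at this
      rw [Nat.cast_pow, this]
    rw [h1, one_smul, coe_trUnit]
  · rw [← pow_mul]
    apply orderOf_dvd_iff_pow_eq_one.1
    rw [hn, mul_comm]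
    exact mul_dvd_mul_right (dvd_pow_self m (by have := hp.two_le; omega)) _

/-- The image of the small kernel. -/
def S1grp (C : Cube F) : Subgroup G9 := (C.N1.map C.Hgrp.subtype).map tl

omit [Fintype F] in
theorem card_S1 : Nat.card (S1grp C) = 24 := by
  rw [S1grp, Subgroup.card_map_of_injective tl_injective,
    Subgroup.card_map_of_injective C.Hgrp.subtype_injective, C.card_N1]

omit [Fintype F] in
theorem mem_S1 {k : G9} : k ∈ S1grp C ↔ ∃ h ∈ C.N1, k = tl (h : G3) := by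
  constructor
  · rintro ⟨_, ⟨h, hh, rfl⟩, rfl⟩
    exact ⟨h, hh, rfl⟩
  · rintro ⟨h, hh, rfl⟩
    exact Subgroup.mem_map_of_mem _ (Subgroup.mem_map_of_mem _ hh)

theorem comm_flip_mem (hp : p.Prime) (hF : Fintype.card F = p) (hp2 : p ≠ 2)
    {M : Subgroup (GL (ZMod 3 × ZMod 3) F)} (hM : ContainsN9 C M)
    (hno : ¬ ∀ g : G9, (g : M9).det = 1 → g ∈ M) {g : G9} (hg : g ∈ M)
    (hj : g * tl C.flip = tl C.flip * g) : g ∈ C.NZ9 := by
  classical
  have := charP_of_card hp hF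
  have h2 : (2 : F) ≠ 0 := two_ne_zero_of hp2 hp
  have hker := ker_mem hp hF hp2 hM hno
  let G : Subgroup C.Cj := M.comap C.Cj.subtype
  let P : Subgroup G3 := G.map C.mu9
  have hPmem : ∀ n ∈ C.NZ, n ∈ P := fun n hn => ⟨⟨_, C.tr_mem_Cj n⟩, hM.trN hn, C.mu9_tr n⟩
  have hP : ContainsN C P := ⟨fun c => hPmem _ (C.sc_mem_NZ c), fun v => hPmem _ (C.W_mem_NZ v),
    hPmem _ C.S_mem_NZ, hPmem _ C.y_mem_NZ⟩
  rcases base hp hF hp2 hP with h | hsl
  · let gc : C.Cj := ⟨g, Subgroup.mem_centralizer_singleton_iff.2 hj⟩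
    have hA : C.mu9 gc ∈ C.NZ := h (Subgroup.mem_map_of_mem _ (show gc ∈ G from hg))
    obtain ⟨k, hk, e⟩ := hker (gc * (⟨_, C.tr_mem_Cj (C.mu9 gc)⟩ : C.Cj)⁻¹)
      (mul_mem hg (inv_mem (hM.trN hA))) (by rw [map_mul, map_inv, C.mu9_tr, mul_inv_cancel])
    have e' : g = tl (k : G3) * tr (C.mu9 gc) := by
      rw [← e]; simp [gc]
    rw [e']
    exact C.tl_tr_mem_NZ9 (C.mem_N1.1 hk).2 hA
  exfalso
  -- the elements centralising the kernel
  let G0 : Subgroup C.Cj := G ⊓ (Subgroup.centralizer (S1grp C : Set G9)).comap C.Cj.subtype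
  have hS1M : ∀ k ∈ S1grp C, k ∈ M := fun k hk => by
    obtain ⟨h, hh, rfl⟩ := mem_S1.1 hk
    exact hM.tlN (C.mem_N1.1 hh).2
  have hconj : ∀ x ∈ G, ∀ k ∈ S1grp C, (x : G9) * k * (x : G9)⁻¹ ∈ S1grp C := by
    intro x hx k hk
    obtain ⟨h, hh, rfl⟩ := mem_S1.1 hk
    obtain ⟨h', hh', e⟩ := hker (x * ⟨_, C.tl_mem_Cj h.2⟩ * x⁻¹)
      (mul_mem (mul_mem hx (hS1M _ hk)) (inv_mem hx))
      (by rw [map_mul, map_mul, map_inv, C.mu9_tl, (C.mem_N1.1 hh).1, sc_one, mul_one, mul_inv_cancel])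
    exact mem_S1.2 ⟨h', hh', e⟩
  have hflipS1 : tl C.flip ∈ S1grp C :=
    mem_S1.2 ⟨⟨_, C.flip_mem⟩, C.mem_N1.2 ⟨Units.ext C.mu_flip, C.flip_mem_NZ⟩, rfl⟩
  have htrans : ∀ (i j : T3) (hij : i ≠ j) (c : F), trUnit i j hij c ∈ G0.map C.mu9 := by
    intro i j hij c
    obtain ⟨g₀, hg₀, e₀⟩ := hsl _ (det_trUnit hij c)
    obtain ⟨g', hg', e', a, ha⟩ := exists_p_lift hp hF C.mu9 hij e₀
    have hg'G : g' ∈ G := Subgroup.zpowers_le.2 hg₀ hg'
    refine ⟨g', Subgroup.mem_inf.2 ⟨hg'G, ?_⟩, e'⟩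
    let Z : Subgroup C.Cj := Subgroup.zpowers g'
    have hZG : Z ≤ G := Subgroup.zpowers_le.2 hg'G
    have hpZ : IsPGroup p Z := by
      have h1 : orderOf g' ∣ p ^ a := orderOf_dvd_of_pow_eq_one ha
      obtain ⟨b, -, hb⟩ := (Nat.dvd_prime_pow hp).1 h1
      exact IsPGroup.of_card (n := b) (by rw [Nat.card_zpowers, hb])
    let act : MulAction Z (S1grp C) :=
      { smul := fun z k => ⟨_, hconj z (hZG z.2) k k.2⟩
        one_smul := fun k => Subtype.ext (by
          show ((1 : C.Cj) : G9) * (k : G9) * ((1 : C.Cj) : G9)⁻¹ = k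
          simp)
        mul_smul := fun z z' k => Subtype.ext (by
          show (((z * z' : Z) : C.Cj) : G9) * (k : G9) * (((z * z' : Z) : C.Cj) : G9)⁻¹ = _
          rw [Subgroup.coe_mul, Subgroup.coe_mul]
          show _ = ((z : C.Cj) : G9) * (((z' : C.Cj) : G9) * (k : G9) * ((z' : C.Cj) : G9)⁻¹) * ((z : C.Cj) : G9)⁻¹
          group) }
    have := Fact.mk hp
    have hmod := hpZ.card_modEq_card_fixedPoints (S1grp C)
    let D : Subgroup (S1grp C) := (Subgroup.centralizer ({(g' : G9)} : Set G9)).comap (S1grp C).subtype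
    have hfix : Nat.card (MulAction.fixedPoints Z (S1grp C)) = Nat.card D := by
      refine Nat.card_congr (Equiv.subtypeEquivRight fun k => ?_)
      constructor
      · intro h
        have := congrArg Subtype.val (h ⟨g', Subgroup.mem_zpowers g'⟩)
        exact Subgroup.mem_centralizer_singleton_iff.2 (mul_inv_eq_iff_eq_mul.1 this).symm
      · rintro h ⟨z, i, rfl⟩
        refine Subtype.ext ?_
        show ((g' ^ i : C.Cj) : G9) * (k : G9) * ((g' ^ i : C.Cj) : G9)⁻¹ = k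
        rw [SubgroupClass.coe_zpow, mul_inv_eq_iff_eq_mul]
        exact ((show Commute (k : G9) (g' : G9) from Subgroup.mem_centralizer_singleton_iff.1 h).zpow_right i).eq.symm
    rw [hfix, card_S1] at hmod
    have hd : Nat.card D ∣ 24 := card_S1 (C := C) ▸ Subgroup.card_subgroup_dvd_card D
    have heven : 2 ∣ Nat.card D := by
      have hfD : (⟨_, hflipS1⟩ : S1grp C) ∈ D :=
        Subgroup.mem_centralizer_singleton_iff.2 (Subgroup.mem_centralizer_singleton_iff.1 g'.2).symm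
      have hord : orderOf (⟨_, hfD⟩ : D) = 2 := by
        refine orderOf_eq_prime (Subtype.ext (Subtype.ext ?_)) fun h => ?_
        · show (tl C.flip : G9) ^ 2 = 1
          rw [pow_two, ← map_mul, C.flip_mul_flip, map_one]
        · have h' := congrArg (fun x : D => ((x : S1grp C) : G9)) h
          have h'' : (tl C.flip : G9) = tl 1 := by rw [map_one]; exact h'
          have := congrArg (fun u : G3 => (u : M3) 0 0) (tl_injective h'')
          simp [Cube.coe_flip] at this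
          exact h2 (by linear_combination -this)
      have := orderOf_dvd_natCard (⟨_, hfD⟩ : D)
      rwa [hord] at this
    have hD : D = ⊤ := by
      refine Subgroup.eq_top_of_card_eq D ?_
      rw [card_S1]
      have hle : Nat.card D ≤ 24 := Nat.le_of_dvd (by norm_num) hd
      have hp3 := p_mod_three C hp hF
      by_contra hne
      have hdvd : p ∣ 24 - Nat.card D := (Nat.modEq_iff_dvd' hle).1 hmod.symm
      generalize Nat.card D = d at hd heven hle hne hdvd
      have hple : p ≤ 24 := le_trans (Nat.le_of_dvd (by omega) hdvd) (by omega)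
      refine cand_primes d hle p hple hd heven hne hdvd hp3 ⟨hp.one_lt, fun m hm hm1 hdm => ?_⟩
      rcases hp.eq_one_or_self_of_dvd m hdm with h | h <;> omega
    rw [Subgroup.mem_comap, Subgroup.mem_centralizer_iff]
    intro k hk
    have hkD : (⟨k, hk⟩ : S1grp C) ∈ D := hD ▸ Subgroup.mem_top _
    exact Subgroup.mem_centralizer_singleton_iff.1 hkD
  have htop : (G0.map C.mu9).comap Matrix.SpecialLinearGroup.toGL = ⊤ :=
    Cfsg.Agent.Linear.eq_top_of_transvection_mem fun a b hab c => htrans a b hab c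
  let t' : Matrix.SpecialLinearGroup T3 F := ⟨((t0 : G3) : M3), det_t0⟩
  have ht' : t' ∈ (G0.map C.mu9).comap Matrix.SpecialLinearGroup.toGL := htop ▸ Subgroup.mem_top t'
  obtain ⟨x, hx, ex⟩ := Subgroup.mem_comap.1 ht'
  have ex' : C.mu9 x = t0 := ex.trans (Units.ext rfl)
  obtain ⟨hxG, hxS⟩ := Subgroup.mem_inf.1 hx
  rw [Subgroup.mem_comap, Subgroup.mem_centralizer_iff] at hxS
  set w : C.Cj := ⟨_, C.tr_mem_Cj (C.W (0, 1))⟩
  obtain ⟨h, hh, e⟩ := hker (x * w * x⁻¹ * w⁻¹)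
    (mul_mem (mul_mem (mul_mem hxG (hM.trN (C.W_mem_NZ _))) (inv_mem hxG)) (inv_mem (hM.trN (C.W_mem_NZ _))))
    (by
      rw [map_mul, map_mul, map_mul, map_inv, map_inv, C.mu9_tr, ex']
      rw [mul_inv_eq_one, mul_inv_eq_iff_eq_mul]
      apply Units.ext
      rw [Units.val_mul, Units.val_mul, coe_t0, C.W_diag, Matrix.diagonal_mul_diagonal, Matrix.diagonal_mul_diagonal]
      simp [mul_comm])
  have e' : (x : G9) * tr (C.W (0, 1)) * (x : G9)⁻¹ = tl (h : G3) * tr (C.W (0, 1)) := by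
    rw [← e]; simp [w]
  have h3 : h * h * h = 1 := by
    refine Subtype.ext (tl_injective ?_)
    have h1 := congrArg (· ^ 3) e'
    simp only [conj_pow, (show Commute (tl (h : G3) : G9) (tr (C.W (0, 1))) from tl_tr_comm _ _).mul_pow,
      ← map_pow, C.W_cube, map_one, mul_one, mul_inv_cancel] at h1
    rw [Subgroup.coe_mul, Subgroup.coe_mul, Subgroup.coe_one, map_one]
    rw [h1]
    congr 1
    rw [pow_succ, pow_two]
  have hcen : ∀ k ∈ C.N1, (h : G3) * (k : G3) = (k : G3) * (h : G3) := by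
    intro k hk
    apply tl_injective
    rw [map_mul, map_mul]
    have hkx := hxS _ (mem_S1.2 ⟨k, hk, rfl⟩)
    have hkw : tl (k : G3) * tr (C.W (0, 1)) = tr (C.W (0, 1)) * tl (k : G3) := tl_tr_comm _ _
    have hc1 : Commute (tl (k : G3) : G9) (x : G9) := hkx
    have hc2 : Commute (tl (k : G3) : G9) (tr (C.W (0, 1))) := hkw
    have := ((hc1.mul_right hc2).mul_right hc1.inv_right).mul_right hc2.inv_right
    rw [e', mul_inv_cancel_right] at this
    exact this.symm.eq
  have hy' : C.y = sc (Units.mk0 C.ω C.ne_zero) * refl3 C 2 := by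
    apply Units.ext
    rw [Units.val_mul, coe_sc, coe_refl3, show (C.y : M3) = Matrix.diagonal fun i => C.ch (i * i) from rfl,
      Matrix.smul_mul, one_mul, ← Matrix.diagonal_smul]
    congr 1
    funext i
    obtain rfl | rfl | rfl := T3_cases i
    · simp [C.ch_zero, C.ch_two]; linear_combination -C.cube
    · simp [C.ch_one]
    · simp [show (2 : T3) * 2 = 1 from rfl, C.ch_one, two_ne_zero_T3]
  have h1 := C.eq_one_of_central hh h3 (hcen ⟨_, C.S_mem⟩ (C.mem_N1.2 ⟨Units.ext C.mu_S, C.S_mem_NZ⟩)) (by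
    rw [hy', mul_sc_mul, hcen _ refl3_two_mem, mul_assoc])
  rw [h1, Subgroup.coe_one, map_one, one_mul, mul_inv_eq_iff_eq_mul] at e'
  have hx9 := comm_W9_mem hp hF hp2 hM hno (show (x : G9) ∈ M from hxG) (w := (0, (0, 1)))
    (by decide) (by rw [C.W9_snd]; exact e')
  obtain ⟨a, b, hb, -, -, e9'⟩ := C.mu9_decomp hx9
  rw [ex'] at e9'
  exact t0_not_mem h2 (e9' ▸ mul_mem (C.sc_mem_NZ _) hb)

end Cfsg.Agent.H1.HeisThree
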