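import Cfsg.Agent.H1.HeisThree.NineCentral

/-!
The elements of the normaliser commuting with the involution `flip ⊗ 1`.
-/

set_option autoImplicit false

namespace Cfsg.Agent.H1.HeisThree

open Matrix

variable {F : Type*} [Field F]

local notation "T3" => ZMod 3
local notation "V" => ZMod 3 × ZMod 3
local notation "M3" => Matrix (ZMod 3) (ZMod 3) F
local notation "G3" => GL (ZMod 3) F
local notation "M9" => Matrix (ZMod 3 × ZMod 3) (ZMod 3 × ZMod 3) F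
local notation "G9" => GL (ZMod 3 × ZMod 3) F

/-- The commutator form. -/
abbrev Pair := { q : (ZMod 3 × ZMod 3) × (ZMod 3 × ZMod 3) // det2 q.1 q.2 = 1 }

theorem card_pair : Nat.card Pair = 24 := by
  rw [Nat.card_eq_fintype_card]
  decide +kernel

namespace Cube

variable (C : Cube F)

/-- The elements fixing the antisymmetric vector and normalising the Heisenberg group. -/
def N1 : Subgroup C.Hgrp := C.mu.ker ⊓ C.NZ.comap C.Hgrp.subtype

theorem mem_N1 {h : C.Hgrp} : h ∈ C.N1 ↔ C.mu h = 1 ∧ (h : G3) ∈ C.NZ := Iff.rfl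

theorem lift_flip : C.Lift C.flip (fun v => -v) := fun v =>
  ⟨1, by rw [C.flip_W, mul_inv_cancel_right, sc_one, one_mul]⟩

theorem N1_eq_one {h : C.Hgrp} (hh : h ∈ C.N1) (hl : C.Lift (h : G3) id) : h = 1 := by
  obtain ⟨c, v, hcv⟩ := C.inR_of_fix hl
  have hf := Subgroup.mem_centralizer_singleton_iff.1 h.2
  rw [hcv, mul_sc_mul, mul_assoc (sc c), mul_right_inj, C.flip_W] at hf
  have hv : v = -v := C.W_inj (mul_right_cancel hf)
  have hv0 : v = 0 := (by decide : ∀ v : V, v = -v → v = 0) v hv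
  subst hv0
  rw [C.W_zero, mul_one] at hcv
  have hm := (C.mem_N1.1 hh).1
  have h1 : h = ⟨_, C.sc_mem c⟩ := Subtype.ext hcv
  rw [h1] at hm
  have hc : c = 1 := Units.ext ((C.mu_sc c).symm.trans (by rw [hm]))
  rw [h1]
  exact Subtype.ext (by show sc c = 1; rw [hc, sc_one])

theorem exists_N1 (q : Pair) :
    ∃ h ∈ C.N1, ∃ σ : V → V, C.Lift (h : G3) σ ∧ σ (1, 0) = q.1.1 ∧ σ (0, 1) = q.1.2 := by
  obtain ⟨w, ha, hb⟩ := exists_word _ _ q.2
  obtain ⟨g, hgc⟩ : ∃ g : C.Hgrp, (g : G3) = C.y ^ (w.1 : ℕ) * (C.S ^ (w.2.1 : ℕ) * (C.y ^ (w.2.2.1 : ℕ) *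
      (C.S ^ (w.2.2.2.1 : ℕ) * C.y ^ (w.2.2.2.2 : ℕ)))) :=
    ⟨⟨_, mul_mem (pow_mem C.y_mem _) (mul_mem (pow_mem C.S_mem _) (mul_mem (pow_mem C.y_mem _)
      (mul_mem (pow_mem C.S_mem _) (pow_mem C.y_mem _))))⟩, rfl⟩
  have hl : C.Lift (g : G3) (wordMap w) := by
    rw [hgc]
    exact C.lift_mul (C.lift_pow C.lift_y _) (C.lift_mul (C.lift_pow C.lift_S _) (C.lift_mul (C.lift_pow C.lift_y _)
      (C.lift_mul (C.lift_pow C.lift_S _) (C.lift_pow C.lift_y _))))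
  have hgN : (g : G3) ∈ C.NZ := by
    rw [hgc]
    exact mul_mem (pow_mem C.y_mem_NZ _) (mul_mem (pow_mem C.S_mem_NZ _) (mul_mem (pow_mem C.y_mem_NZ _)
      (mul_mem (pow_mem C.S_mem_NZ _) (pow_mem C.y_mem_NZ _))))
  obtain ⟨d, hd⟩ : ∃ d : C.Hgrp, (d : G3) = sc (C.mu g)⁻¹ := ⟨⟨_, C.sc_mem _⟩, rfl⟩
  have hmd : C.mu d = (C.mu g)⁻¹ := by
    rw [show d = ⟨_, C.sc_mem (C.mu g)⁻¹⟩ from Subtype.ext hd]
    exact Units.ext (C.mu_sc _)
  refine ⟨d * g, C.mem_N1.2 ⟨?_, ?_⟩, wordMap w, ?_, ha, hb⟩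
  · rw [map_mul, hmd, inv_mul_cancel]
  · rw [Subgroup.coe_mul, hd]
    exact mul_mem (C.sc_mem_NZ _) hgN
  · intro v
    obtain ⟨c, hc⟩ := hl v
    refine ⟨c, ?_⟩
    rw [Subgroup.coe_mul, hd, ← hc, show sc (C.mu g)⁻¹ * (g : G3) * C.W v * (sc (C.mu g)⁻¹ * (g : G3))⁻¹ =
      sc (C.mu g)⁻¹ * ((g : G3) * C.W v * (g : G3)⁻¹) * (sc (C.mu g)⁻¹)⁻¹ by group, sc_comm, mul_inv_cancel_right]

theorem N1_eq_of_lift {g h : C.Hgrp} (hg : g ∈ C.N1) (hh : h ∈ C.N1) {σ τ : V → V}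
    (hσ : C.Lift (g : G3) σ) (hτ : C.Lift (h : G3) τ) (h1 : σ (1, 0) = τ (1, 0)) (h2 : σ (0, 1) = τ (0, 1)) :
    g = h := by
  have hst : σ = τ := funext fun v => by rw [C.lift_linear hσ, C.lift_linear hτ, h1, h2]
  subst hst
  let e : V ≃ V := Equiv.ofBijective σ (Finite.injective_iff_bijective.1 (C.lift_injective hσ))
  refine inv_mul_eq_one.1 (C.N1_eq_one (mul_mem (inv_mem hg) hh) ?_)
  have := C.lift_mul (C.lift_inv (σ := e) hσ) hτ
  rw [Subgroup.coe_mul, Subgroup.coe_inv]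
  convert this using 1
  funext v
  exact (e.symm_apply_apply v).symm

theorem card_N1 : Nat.card C.N1 = 24 := by
  rw [← card_pair]
  choose h hh σ hσ ha hb using C.exists_N1
  refine (Nat.card_congr (Equiv.ofBijective (fun q => (⟨h q, hh q⟩ : C.N1)) ⟨?_, ?_⟩)).symm
  · intro q r e
    have e' : h q = h r := congrArg Subtype.val e
    have hu := C.lift_unique (hσ q) (e' ▸ hσ r)
    exact Subtype.ext (Prod.ext (by rw [← ha q, ← ha r, hu]) (by rw [← hb q, ← hb r, hu]))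
  · rintro ⟨g, hg⟩
    obtain ⟨τ, hτ⟩ := (C.mem_N1.1 hg).2
    let q : Pair := ⟨(τ (1, 0), τ (0, 1)), C.lift_det_one hτ⟩
    exact ⟨q, Subtype.ext (C.N1_eq_of_lift (hh q) hg (hσ q) hτ (ha q) (hb q))⟩

/-- An element of order three commuting with the generators is trivial. -/
theorem eq_one_of_central {h : C.Hgrp} (hh : h ∈ C.N1) (h3 : h * h * h = 1)
    (hS : (h : G3) * C.S = C.S * (h : G3)) (hy : (h : G3) * C.y = C.y * (h : G3)) : h = 1 := by
  obtain ⟨σ, hσ⟩ := (C.mem_N1.1 hh).2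
  have e1 := C.lift_mul hσ C.lift_S
  have e2 := C.lift_mul C.lift_S hσ
  rw [hS] at e1
  have f1 := C.lift_mul hσ C.lift_y
  have f2 := C.lift_mul C.lift_y hσ
  rw [hy] at f1
  have c1 := C.lift_unique e1 e2
  have c2 := C.lift_unique f1 f2
  have e3 : C.Lift (1 : G3) (⇑σ ∘ ⇑σ ∘ ⇑σ) := by
    have := C.lift_mul hσ (C.lift_mul hσ hσ)
    rwa [← mul_assoc, show (h : G3) * h * h = 1 from congrArg Subtype.val h3] at this
  have h1 : C.Lift (1 : G3) id := fun v => ⟨1, by simp [sc_one]⟩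
  have c3 := C.lift_unique e3 h1
  have dec : ∀ a b : V, det2 a b = 1 →
      (∀ v : V, (sMap v).1 • a + (sMap v).2 • b = sMap (v.1 • a + v.2 • b)) →
      (∀ v : V, (yMap v).1 • a + (yMap v).2 • b = yMap (v.1 • a + v.2 • b)) →
      (∀ v : V, ((v.1 • a + v.2 • b).1 • a + (v.1 • a + v.2 • b).2 • b).1 • a +
        ((v.1 • a + v.2 • b).1 • a + (v.1 • a + v.2 • b).2 • b).2 • b = v) →
      a = (1, 0) ∧ b = (0, 1) := by decide +kernel
  have lin : ∀ v, σ v = v.1 • σ (1, 0) + v.2 • σ (0, 1) := C.lift_linear hσ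
  obtain ⟨ea, eb⟩ := dec (σ (1, 0)) (σ (0, 1)) (C.lift_det_one hσ)
    (fun v => by rw [← lin, ← lin]; exact congrFun c1 v)
    (fun v => by rw [← lin, ← lin]; exact congrFun c2 v)
    (fun v => by rw [← lin, ← lin, ← lin]; exact congrFun c3 v)
  refine C.N1_eq_one hh fun v => ?_
  obtain ⟨c, hc⟩ := hσ v
  refine ⟨c, ?_⟩
  rw [hc, lin, ea, eb]
  simp

theorem lift9_e9 {g : G9} {σ : V × V → V × V} (h : C.Lift9 g σ) (u v : V × V) :
    e9 (σ u) (σ v) = e9 u v := by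
  obtain ⟨a, ha⟩ := h u
  obtain ⟨b, hb⟩ := h v
  obtain ⟨c, hc, hc'⟩ := C.W9_conj u v
  obtain ⟨d, hd, hd'⟩ := C.W9_conj (σ u) (σ v)
  have key : (g * C.W9 u * g⁻¹) * (g * C.W9 v * g⁻¹) * (g * C.W9 u * g⁻¹)⁻¹ =
      g * (C.W9 u * C.W9 v * (C.W9 u)⁻¹) * g⁻¹ := by group
  rw [hc, conj_sc_mul, ha, hb,
    show sc a * C.W9 (σ u) * (sc b * C.W9 (σ v)) * (sc a * C.W9 (σ u))⁻¹ =
      sc b * (C.W9 (σ u) * C.W9 (σ v) * (C.W9 (σ u))⁻¹) by
      rw [← mul_assoc (sc a * C.W9 (σ u)), mul_assoc (sc a) (C.W9 _) (sc b), ← sc_comm b, _root_.mul_inv_rev,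
        ← sc_inv]
      simp only [← mul_assoc]
      rw [← sc_comm a⁻¹]
      simp only [← mul_assoc, ← sc_mul]
      rw [inv_mul_cancel, one_mul],
    hd, ← mul_assoc, ← mul_assoc, ← sc_mul, ← sc_mul] at key
  have h1 := congrArg (fun x : Fˣ => (x : F)) (C.sc_W9_inj key).1
  simp only [Units.val_mul] at h1
  rw [hc', hd', mul_comm (b : F)] at h1
  exact C.ch_inj (mul_right_cancel₀ b.ne_zero h1)

theorem exists_lift_NZ {α : V → V} (hadd : ∀ u v, α (u + v) = α u + α v)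
    (hdet : det2 (α (1, 0)) (α (0, 1)) = 1) : ∃ n ∈ C.NZ, ∀ v, ∃ c : Fˣ, n * C.W v * n⁻¹ = sc c * C.W (α v) := by
  obtain ⟨n, hn, σ, hσ, ea, eb⟩ := exists_lift (containsN_NZ (C := C)) _ _ hdet
  have e0 : α 0 = 0 := by
    have := hadd 0 0
    rw [add_zero] at this
    exact left_eq_add.1 this
  have mult : ∀ (a : T3) (u : V), α (a • u) = a • α u := by
    intro a u
    obtain rfl | rfl | rfl := T3_cases a
    · simp [e0]
    · simp
    · rw [show (2 : T3) = 1 + 1 from rfl, add_smul, add_smul, one_smul, one_smul, hadd]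
  refine ⟨n, hn, fun v => ?_⟩
  obtain ⟨c, hc⟩ := hσ v
  refine ⟨c, ?_⟩
  rw [hc, C.lift_linear hσ v, ea, eb, ← mult, ← mult, ← hadd]
  simp

theorem comm_flip_decomp {g : G9} (hg : g ∈ C.NZ9) (hj : g * tl C.flip = tl C.flip * g) :
    ∃ a : C.Hgrp, (a : G3) ∈ C.NZ ∧ ∃ b ∈ C.NZ, g = tl (a : G3) * tr b := by
  obtain ⟨σ, hσ⟩ := hg
  have hadd := C.lift9_add hσ
  have hjl : C.Lift9 (tl C.flip) fun w => (-w.1, w.2) := by
    have := C.lift9_tl_tr C.lift_flip (fun z => ⟨1, by simp [sc_one]⟩ : C.Lift 1 id)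
    rwa [map_one, mul_one] at this
  have hcomp : ∀ w, σ (-w.1, w.2) = (-(σ w).1, (σ w).2) := by
    intro w
    obtain ⟨c, hc⟩ := hjl w
    obtain ⟨d, hd⟩ := hσ (-w.1, w.2)
    obtain ⟨a, ha⟩ := hσ w
    obtain ⟨b, hb⟩ := hjl (σ w)
    have h1 : (g * tl C.flip) * C.W9 w * (g * tl C.flip)⁻¹ = sc (c * d) * C.W9 (σ (-w.1, w.2)) := by
      rw [show (g * tl C.flip) * C.W9 w * (g * tl C.flip)⁻¹ = g * (tl C.flip * C.W9 w * (tl C.flip)⁻¹) * g⁻¹ by group,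
        hc, conj_sc_mul, hd, ← mul_assoc, ← sc_mul]
    have h2 : (tl C.flip * g) * C.W9 w * (tl C.flip * g)⁻¹ = sc (a * b) * C.W9 (-(σ w).1, (σ w).2) := by
      rw [show (tl C.flip * g) * C.W9 w * (tl C.flip * g)⁻¹ = tl C.flip * (g * C.W9 w * g⁻¹) * (tl C.flip)⁻¹ by group,
        ha, conj_sc_mul, hb, ← mul_assoc, ← sc_mul]
    rw [hj] at h1
    exact (C.sc_W9_inj (h1.symm.trans h2)).2
  have e0 : σ 0 = 0 := by
    have := hadd 0 0
    rw [add_zero] at this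
    exact left_eq_add.1 this
  have hneg : ∀ w, σ (-w) = -σ w := fun w =>
    eq_neg_of_add_eq_zero_left (by rw [← hadd, neg_add_cancel, e0])
  have hf : ∀ u : V, (σ (u, 0)).2 = 0 := by
    intro u
    have h1 := hcomp (u, 0)
    rw [show ((-u, (0 : V)) : V × V) = -(u, 0) by simp, hneg] at h1
    exact (by decide : ∀ v : V, -v = v → v = 0) _ (congrArg Prod.snd h1)
  have hs : ∀ v : V, (σ (0, v)).1 = 0 := by
    intro v
    have h1 := hcomp (0, v)
    simp only [neg_zero] at h1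
    exact (by decide : ∀ v : V, v = -v → v = 0) _ (congrArg Prod.fst h1)
  set α : V → V := fun u => (σ (u, 0)).1
  set β : V → V := fun v => (σ (0, v)).2
  have hσ' : ∀ w : V × V, σ w = (α w.1, β w.2) := by
    rintro ⟨u, v⟩
    rw [show ((u, v) : V × V) = (u, 0) + (0, v) by simp, hadd]
    simp [α, β, Prod.ext_iff, hf, hs]
  have αadd : ∀ u v, α (u + v) = α u + α v := fun u v => by
    show (σ (u + v, 0)).1 = _
    rw [show ((u + v, (0 : V)) : V × V) = (u, 0) + (v, 0) by simp, hadd, Prod.fst_add]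
  have βadd : ∀ u v, β (u + v) = β u + β v := fun u v => by
    show (σ (0, u + v)).2 = _
    rw [show (((0 : V), u + v) : V × V) = (0, u) + (0, v) by simp, hadd, Prod.snd_add]
  have he := C.lift9_e9 hσ
  have hdet1 : det2 (α (1, 0)) (α (0, 1)) = 1 := by
    have := he ((1, 0), 0) ((0, 1), 0)
    rw [hσ', hσ'] at this
    simp [e9, show β 0 = 0 from congrArg Prod.snd e0] at this
    simp only [det2]
    linear_combination -this
  have hdet2 : det2 (β (1, 0)) (β (0, 1)) = 1 := by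
    have := he (0, (1, 0)) (0, (0, 1))
    rw [hσ', hσ'] at this
    simp [e9, show α 0 = 0 from congrArg Prod.fst e0] at this
    simp only [det2]
    linear_combination -this
  obtain ⟨m, hm, hml⟩ := C.exists_lift_NZ αadd hdet1
  obtain ⟨n, hn, hnl⟩ := C.exists_lift_NZ βadd hdet2
  have hmn := C.lift9_tl_tr (σ := α) (τ := β) hml hnl
  have hfix : C.Lift9 ((tl m * tr n)⁻¹ * g) id := by
    intro w
    obtain ⟨c, hc⟩ := hσ w
    obtain ⟨d, hd⟩ := hmn w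
    refine ⟨c * d⁻¹, ?_⟩
    rw [hσ'] at hc
    have e : C.W9 (α w.1, β w.2) = sc d⁻¹ * ((tl m * tr n) * C.W9 w * (tl m * tr n)⁻¹) := by
      rw [hd, sc_inv, inv_mul_cancel_left]
    calc (tl m * tr n)⁻¹ * g * C.W9 w * ((tl m * tr n)⁻¹ * g)⁻¹
        = (tl m * tr n)⁻¹ * (g * C.W9 w * g⁻¹) * (tl m * tr n) := by group
      _ = sc (c * d⁻¹) * C.W9 w := by
        rw [hc, e, ← mul_assoc (sc c), ← sc_mul, mul_sc_mul, mul_assoc (sc _)]
        group
  obtain ⟨c, u, hcu⟩ := C.inR9_of_fix hfix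
  have hg' : g = tl (sc c * (m * C.W u.1)) * tr (n * C.W u.2) := by
    rw [inv_mul_eq_iff_eq_mul] at hcu
    rw [hcu, mul_sc_mul, Cube.W9, tl_tr_mul, map_mul tl (sc c), tl_sc, mul_assoc (sc c)]
  have ha : sc c * (m * C.W u.1) ∈ C.Hgrp := by
    refine Subgroup.mem_centralizer_singleton_iff.2 (tl_injective ?_)
    rw [hg', mul_assoc (tl _) (tr _) (tl C.flip), ← tl_tr_comm, ← mul_assoc (tl _), ← map_mul,
      ← mul_assoc (tl C.flip), ← map_mul] at hj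
    simpa only [mul_assoc] using mul_right_cancel hj
  exact ⟨⟨_, ha⟩, mul_mem (C.sc_mem_NZ _) (mul_mem hm (C.W_mem_NZ _)), _, mul_mem hn (C.W_mem_NZ _), hg'⟩

end Cube

end Cfsg.Agent.H1.HeisThree
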