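import Cfsg.Agent.H1.HeisThree.Model

/-!
The extraspecial group of order `3^5` in nine dimensions and its normaliser.
-/

set_option autoImplicit false

namespace Cfsg.Agent.H1.HeisThree

open Matrix
open scoped Kronecker

variable {F : Type*} [Field F]

local notation "T3" => ZMod 3
local notation "V" => ZMod 3 × ZMod 3
local notation "J" => ZMod 3 × ZMod 3
local notation "M3" => Matrix (ZMod 3) (ZMod 3) F
local notation "G3" => GL (ZMod 3) F
local notation "M9" => Matrix (ZMod 3 × ZMod 3) (ZMod 3 × ZMod 3) F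
local notation "G9" => GL (ZMod 3 × ZMod 3) F

/-- An element of the first tensor factor. -/
def tl : G3 →* G9 :=
  Units.map
    { toFun := fun g : M3 => g ⊗ₖ (1 : M3)
      map_one' := Matrix.one_kronecker_one
      map_mul' := fun a b => by rw [← Matrix.mul_kronecker_mul, one_mul] }

/-- An element of the second tensor factor. -/
def tr : G3 →* G9 :=
  Units.map
    { toFun := fun g : M3 => (1 : M3) ⊗ₖ g
      map_one' := Matrix.one_kronecker_one
      map_mul' := fun a b => by rw [← Matrix.mul_kronecker_mul, one_mul] }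

theorem coe_tl (g : G3) : ((tl g : G9) : M9) = (g : M3) ⊗ₖ (1 : M3) := rfl
theorem coe_tr (g : G3) : ((tr g : G9) : M9) = (1 : M3) ⊗ₖ (g : M3) := rfl

theorem coe_tl_tr (g h : G3) : ((tl g * tr h : G9) : M9) = (g : M3) ⊗ₖ (h : M3) := by
  rw [Units.val_mul, coe_tl, coe_tr, ← Matrix.mul_kronecker_mul, mul_one, one_mul]

theorem tl_tr_comm (g h : G3) : (tl g : G9) * tr h = tr h * tl g := by
  apply Units.ext
  rw [coe_tl_tr, Units.val_mul, coe_tl, coe_tr, ← Matrix.mul_kronecker_mul, mul_one, one_mul]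

theorem tl_tr_mul (a b c d : G3) : (tl a * tr b) * (tl c * tr d) = (tl (a * c) * tr (b * d) : G9) := by
  rw [mul_assoc, ← mul_assoc (tr b), ← tl_tr_comm c b, map_mul, map_mul]
  simp only [mul_assoc]

theorem tl_sc (c : Fˣ) : (tl (sc c) : G9) = sc c := by
  apply Units.ext
  rw [coe_tl, coe_sc, coe_sc, Matrix.smul_kronecker, Matrix.one_kronecker_one]

theorem tr_sc (c : Fˣ) : (tr (sc c) : G9) = sc c := by
  apply Units.ext
  rw [coe_tr, coe_sc, coe_sc, Matrix.kronecker_smul, Matrix.one_kronecker_one]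

theorem tl_injective : Function.Injective (tl : G3 →* G9) := fun g h e => by
  apply Units.ext
  ext i j
  have := congrArg (fun x : G9 => (x : M9) (i, 0) (j, 0)) e
  simpa [coe_tl, Matrix.kroneckerMap_apply] using this

theorem tr_injective : Function.Injective (tr : G3 →* G9) := fun g h e => by
  apply Units.ext
  ext i j
  have := congrArg (fun x : G9 => (x : M9) (0, i) (0, j)) e
  simpa [coe_tr, Matrix.kroneckerMap_apply] using this

/-- Block diagonal matrices for the first tensor index. -/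
def bdMat : (T3 → M3) →* M9 where
  toFun f := Matrix.of fun x y => if x.1 = y.1 then f x.1 x.2 y.2 else 0
  map_one' := by
    ext ⟨i, a⟩ ⟨j, b⟩
    by_cases h : i = j <;> by_cases h' : a = b <;> simp [Matrix.one_apply, h, h', Prod.ext_iff]
  map_mul' f g := by
    ext ⟨i, a⟩ ⟨j, b⟩
    rw [Matrix.mul_apply, Fintype.sum_prod_type]
    simp only [Matrix.of_apply]
    symm
    by_cases h : i = j
    · subst h
      rw [if_pos rfl, Pi.mul_apply, Matrix.mul_apply, Finset.sum_eq_single i]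
      · simp
      · intro k _ hk
        exact Finset.sum_eq_zero fun c _ => by rw [if_neg (Ne.symm hk), zero_mul]
      · simp
    · rw [if_neg h]
      refine Finset.sum_eq_zero fun k _ => Finset.sum_eq_zero fun c _ => ?_
      by_cases hk : i = k
      · subst hk; simp [h]
      · simp [hk]

/-- Block diagonal elements for the first tensor index. -/
def bd : (T3 → G3) →* G9 where
  toFun f :=
    { val := bdMat fun i => (f i : M3)
      inv := bdMat fun i => ((f i)⁻¹ : G3)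
      val_inv := by rw [← map_mul, ← map_one bdMat]; congr 1; funext i; exact (f i).mul_inv
      inv_val := by rw [← map_mul, ← map_one bdMat]; congr 1; funext i; exact (f i).inv_mul }
  map_one' := Units.ext (map_one bdMat)
  map_mul' f g := Units.ext (map_mul bdMat (fun i => (f i : M3)) fun i => (g i : M3))

theorem coe_bd (f : T3 → G3) (x y : J) :
    ((bd f : G9) : M9) x y = if x.1 = y.1 then (f x.1 : M3) x.2 y.2 else 0 := rfl

theorem bd_injective : Function.Injective (bd : (T3 → G3) →* G9) := fun f g e => by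
  funext i
  apply Units.ext
  ext a b
  have := congrArg (fun x : G9 => (x : M9) (i, a) (i, b)) e
  simpa [coe_bd] using this

theorem tr_eq_bd (g : G3) : (tr g : G9) = bd fun _ => g := by
  apply Units.ext
  ext ⟨i, a⟩ ⟨j, b⟩
  by_cases h : i = j <;> simp [coe_tr, coe_bd, Matrix.kroneckerMap_apply, h]

theorem tl_diag {g : G3} (c : T3 → Fˣ) (hg : (g : M3) = Matrix.diagonal fun i => (c i : F)) :
    (tl g : G9) = bd fun i => sc (c i) := by
  apply Units.ext
  ext ⟨i, a⟩ ⟨j, b⟩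
  by_cases h : i = j <;> by_cases h' : a = b <;>
    simp [coe_tl, coe_bd, coe_sc, Matrix.kroneckerMap_apply, hg, h, h']

theorem sc_eq_bd (c : Fˣ) : (sc c : G9) = bd fun _ => sc c := by rw [← tr_sc, tr_eq_bd]

/-- The transposition of the tensor factors. -/
def swapG : G9 where
  val := Matrix.of fun x y => if x = y.swap then 1 else 0
  inv := Matrix.of fun x y => if x = y.swap then 1 else 0
  val_inv := by
    ext x z
    rw [Matrix.mul_apply, Finset.sum_eq_single z.swap]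
    · by_cases h : x = z <;> simp [Matrix.one_apply, h]
    · intro y _ hy; simp [hy]
    · simp
  inv_val := by
    ext x z
    rw [Matrix.mul_apply, Finset.sum_eq_single z.swap]
    · by_cases h : x = z <;> simp [Matrix.one_apply, h]
    · intro y _ hy; simp [hy]
    · simp

theorem swapG_mul_self : (swapG : G9) * swapG = 1 := Units.ext (swapG : G9).val_inv

theorem swapG_inv : (swapG : G9)⁻¹ = swapG := inv_eq_of_mul_eq_one_right swapG_mul_self

theorem swap_tl (g : G3) : (swapG : G9) * tl g = tr g * swapG := by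
  apply Units.ext
  ext x z
  rw [Units.val_mul, Units.val_mul, Matrix.mul_apply, Matrix.mul_apply,
    Finset.sum_eq_single x.swap, Finset.sum_eq_single z.swap]
  · obtain ⟨i, a⟩ := x
    obtain ⟨j, b⟩ := z
    simp [swapG, coe_tl, coe_tr, Matrix.kroneckerMap_apply, Matrix.one_apply, mul_comm]
  · intro y _ hy; simp [swapG, hy]
  · simp
  · intro y _ hy
    have : x ≠ y.swap := fun e => hy (by rw [e, Prod.swap_swap])
    simp [swapG, this]
  · simp

theorem swap_tr (g : G3) : (swapG : G9) * tr g = tl g * swapG := by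
  have := swap_tl g
  calc (swapG : G9) * tr g = swapG * (tr g * swapG) * swapG := by
        rw [← mul_assoc, mul_assoc, swapG_mul_self, mul_one]
    _ = tl g * swapG := by rw [← this, ← mul_assoc, swapG_mul_self, one_mul]

namespace Cube

variable (C : Cube F)

/-- The element `X^a Z^b ⊗ X^c Z^d`. -/
def W9 (w : V × V) : G9 := tl (C.W w.1) * tr (C.W w.2)

theorem W9_fst (v : V) : C.W9 (v, 0) = tl (C.W v) := by rw [W9, C.W_zero, map_one, mul_one]
theorem W9_snd (v : V) : C.W9 (0, v) = tr (C.W v) := by rw [W9, C.W_zero, map_one, one_mul]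
theorem W9_zero : C.W9 0 = 1 := by rw [W9, Prod.fst_zero, Prod.snd_zero, C.W_zero, map_one, map_one, one_mul]

/-- The commutator exponent. -/
def e9 (u w : V × V) : T3 := (u.1.2 * w.1.1 - w.1.2 * u.1.1) + (u.2.2 * w.2.1 - w.2.2 * u.2.1)

theorem W9_mul (u w : V × V) :
    C.W9 u * C.W9 w = sc (Units.mk0 _ (C.ch_ne_zero (u.1.2 * w.1.1 + u.2.2 * w.2.1))) * C.W9 (u + w) := by
  rw [W9, W9, tl_tr_mul, C.W_mul, C.W_mul, map_mul, map_mul, tl_sc, tr_sc, W9]
  rw [mul_assoc (sc _), ← mul_assoc (tl _) (sc _), ← sc_comm, mul_assoc (sc _) (tl _), ← mul_assoc (sc _) (sc _),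
    ← sc_mul]
  congr 2
  apply Units.ext
  simp [C.ch_add]

theorem sc_W9_inj {c d : Fˣ} {u w : V × V} (h : sc c * C.W9 u = sc d * C.W9 w) : c = d ∧ u = w := by
  have key : ∀ x y : J, (c : F) * ((C.wMat u.1) x.1 y.1 * (C.wMat u.2) x.2 y.2) =
      (d : F) * ((C.wMat w.1) x.1 y.1 * (C.wMat w.2) x.2 y.2) := fun x y => by
    have := congrArg (fun g : G9 => (g : M9) x y) h
    beta_reduce at this
    rw [Units.val_mul, Units.val_mul, coe_sc, coe_sc, W9, W9, coe_tl_tr, coe_tl_tr] at this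
    simpa [coe_W, Matrix.kroneckerMap_apply] using this
  have h0 := key (u.1.1, u.2.1) (0, 0)
  simp [wMat_apply, C.ch_zero] at h0
  have ha : u.1.1 = w.1.1 := by by_contra hne; simp [hne] at h0
  have hb : u.2.1 = w.2.1 := by by_contra hne; simp [hne] at h0
  have hc : c = d := Units.ext (by simpa [ha, hb] using h0)
  subst hc
  have h1 := key (1 + u.1.1, u.2.1) (1, 0)
  have h2 := key (u.1.1, 1 + u.2.1) (0, 1)
  simp [wMat_apply, C.ch_zero, ha, hb] at h1 h2
  exact ⟨rfl, Prod.ext (Prod.ext ha (C.ch_inj h1)) (Prod.ext hb (C.ch_inj h2))⟩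

theorem W9_conj (u w : V × V) :
    ∃ c : Fˣ, C.W9 u * C.W9 w * (C.W9 u)⁻¹ = sc c * C.W9 w ∧ (c : F) = C.ch (e9 u w) := by
  refine ⟨Units.mk0 _ (C.ch_ne_zero _), ?_, rfl⟩
  rw [mul_inv_eq_iff_eq_mul, mul_assoc, C.W9_mul, C.W9_mul, ← mul_assoc, ← sc_mul, add_comm w u]
  congr 2
  apply Units.ext
  simp only [Units.val_mul, Units.val_mk0, ← C.ch_add, e9]
  congr 1
  ring

theorem W9_cube (w : V × V) : C.W9 w ^ 3 = 1 := by
  rw [W9, (show Commute (tl (C.W w.1) : G9) (tr (C.W w.2)) from tl_tr_comm _ _).mul_pow, ← map_pow, ← map_pow,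
    C.W_cube, C.W_cube, map_one, map_one, one_mul]

/-- The element lies in the scalar multiples of the extraspecial group. -/
def InR9 (g : G9) : Prop := ∃ (c : Fˣ) (w : V × V), g = sc c * C.W9 w

/-- Conjugation by `g` induces `σ` on the extraspecial group modulo scalars. -/
def Lift9 (g : G9) (σ : V × V → V × V) : Prop := ∀ w, ∃ c : Fˣ, g * C.W9 w * g⁻¹ = sc c * C.W9 (σ w)

/-- The normaliser of the extraspecial group times scalars. -/
def NZ9 : Subgroup G9 where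
  carrier := {g | ∃ σ : (V × V) ≃ (V × V), C.Lift9 g σ}
  one_mem' := ⟨Equiv.refl _, fun w => ⟨1, by simp [sc_one]⟩⟩
  mul_mem' := fun {g h} => by
    rintro ⟨σ, hσ⟩ ⟨τ, hτ⟩
    refine ⟨τ.trans σ, fun w => ?_⟩
    obtain ⟨c, hc⟩ := hτ w
    obtain ⟨d, hd⟩ := hσ (τ w)
    exact ⟨c * d, by
      rw [show g * h * C.W9 w * (g * h)⁻¹ = g * (h * C.W9 w * h⁻¹) * g⁻¹ by group, hc, conj_sc_mul, hd,
        ← mul_assoc, ← sc_mul]; rfl⟩
  inv_mem' := fun {g} => by
    rintro ⟨σ, hσ⟩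
    refine ⟨σ.symm, fun w => ?_⟩
    obtain ⟨c, hc⟩ := hσ (σ.symm w)
    refine ⟨c⁻¹, ?_⟩
    rw [σ.apply_symm_apply] at hc
    rw [sc_inv, eq_inv_mul_iff_mul_eq, ← conj_sc_mul, ← hc]
    group

theorem lift9_unique {g : G9} {σ τ : V × V → V × V} (h : C.Lift9 g σ) (h' : C.Lift9 g τ) : σ = τ := by
  funext w
  obtain ⟨c, hc⟩ := h w
  obtain ⟨d, hd⟩ := h' w
  exact (C.sc_W9_inj (hc.symm.trans hd)).2

theorem lift9_injective {g : G9} {σ : V × V → V × V} (h : C.Lift9 g σ) : Function.Injective σ := by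
  intro u v e
  obtain ⟨c, hc⟩ := h u
  obtain ⟨d, hd⟩ := h v
  have : g * (sc d * C.W9 u) * g⁻¹ = g * (sc c * C.W9 v) * g⁻¹ := by
    rw [conj_sc_mul, conj_sc_mul, hc, hd, e, ← mul_assoc, ← mul_assoc, ← sc_mul, ← sc_mul, mul_comm c]
  exact (C.sc_W9_inj (mul_left_cancel (mul_right_cancel this))).2

theorem lift9_add {g : G9} {σ : V × V → V × V} (h : C.Lift9 g σ) (u w : V × V) : σ (u + w) = σ u + σ w := by
  obtain ⟨a, ha⟩ := h u
  obtain ⟨b, hb⟩ := h w
  obtain ⟨d, hd⟩ := h (u + w)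
  have h1 : g * (C.W9 u * C.W9 w) * g⁻¹ = (g * C.W9 u * g⁻¹) * (g * C.W9 w * g⁻¹) := by group
  rw [C.W9_mul, conj_sc_mul, hd, ha, hb, mul_assoc (sc a), ← mul_assoc (C.W9 (σ u)), ← sc_comm,
    mul_assoc (sc b), C.W9_mul, ← mul_assoc, ← mul_assoc, ← mul_assoc, ← sc_mul, ← sc_mul, ← sc_mul] at h1
  exact (C.sc_W9_inj h1).2

theorem mem_NZ9_of_conj {g : G9} (h : ∀ w, C.InR9 (g * C.W9 w * g⁻¹)) : g ∈ C.NZ9 := by
  choose c σ hσ using h
  have hl : C.Lift9 g σ := fun w => ⟨c w, hσ w⟩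
  exact ⟨Equiv.ofBijective σ (Finite.injective_iff_bijective.1 (C.lift9_injective hl)), hl⟩

theorem inR9_mul {g h : G9} (hg : C.InR9 g) (hh : C.InR9 h) : C.InR9 (g * h) := by
  obtain ⟨c, u, rfl⟩ := hg
  obtain ⟨d, w, rfl⟩ := hh
  exact ⟨_, u + w, by
    rw [mul_assoc, ← mul_assoc (C.W9 u), ← sc_comm, mul_assoc (sc d), C.W9_mul, ← mul_assoc, ← mul_assoc,
      ← sc_mul, ← sc_mul]⟩

theorem mem_NZ9_of_gen {g : G9}
    (h1 : C.InR9 (g * C.W9 ((1, 0), 0) * g⁻¹)) (h2 : C.InR9 (g * C.W9 ((0, 1), 0) * g⁻¹))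
    (h3 : C.InR9 (g * C.W9 (0, (1, 0)) * g⁻¹)) (h4 : C.InR9 (g * C.W9 (0, (0, 1)) * g⁻¹)) :
    g ∈ C.NZ9 := by
  refine C.mem_NZ9_of_conj ?_
  have hadd : ∀ u w, C.InR9 (g * C.W9 u * g⁻¹) → C.InR9 (g * C.W9 w * g⁻¹) →
      C.InR9 (g * C.W9 (u + w) * g⁻¹) := by
    intro u w hu hw
    have h := C.inR9_mul hu hw
    rw [show g * C.W9 u * g⁻¹ * (g * C.W9 w * g⁻¹) = g * (C.W9 u * C.W9 w) * g⁻¹ by group, C.W9_mul,
      conj_sc_mul] at h
    obtain ⟨c, v, hv⟩ := h
    exact ⟨_, v, by rw [eq_inv_mul_iff_mul_eq.2 hv, ← mul_assoc, ← sc_inv, ← sc_mul]⟩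
  have h0 : C.InR9 (g * C.W9 0 * g⁻¹) := ⟨1, 0, by rw [C.W9_zero, mul_one, mul_inv_cancel, sc_one, one_mul]⟩
  intro w
  have mult : ∀ (a : T3) u, C.InR9 (g * C.W9 u * g⁻¹) → C.InR9 (g * C.W9 (a • u) * g⁻¹) := by
    intro a u hu
    obtain rfl | rfl | rfl : a = 0 ∨ a = 1 ∨ a = 2 := by revert a; decide
    · rw [zero_smul]; exact h0
    · rwa [one_smul]
    · rw [show (2 : T3) = 1 + 1 from rfl, add_smul, one_smul]; exact hadd _ _ hu hu
  have hw : w = w.1.1 • (((1, 0), 0) : V × V) + w.1.2 • (((0, 1), 0) : V × V) +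
      w.2.1 • ((0, (1, 0)) : V × V) + w.2.2 • ((0, (0, 1)) : V × V) := by
    simp [Prod.ext_iff]
  rw [hw]
  exact hadd _ _ (hadd _ _ (hadd _ _ (mult _ _ h1) (mult _ _ h2)) (mult _ _ h3)) (mult _ _ h4)

theorem sc_mem_NZ9 (c : Fˣ) : sc c ∈ C.NZ9 :=
  C.mem_NZ9_of_conj fun w => ⟨1, w, by rw [sc_comm, mul_inv_cancel_right, sc_one, one_mul]⟩

theorem inR9_mem_NZ9 {g : G9} (h : C.InR9 g) : g ∈ C.NZ9 := by
  obtain ⟨c, u, rfl⟩ := h
  refine mul_mem (C.sc_mem_NZ9 c) (C.mem_NZ9_of_conj fun w => ?_)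
  obtain ⟨d, hd, -⟩ := C.W9_conj u w
  exact ⟨d, w, hd⟩

theorem W9_mem_NZ9 (u : V × V) : C.W9 u ∈ C.NZ9 := C.inR9_mem_NZ9 ⟨1, u, by rw [sc_one, one_mul]⟩

theorem lift9_tl_tr {g h : G3} {σ τ : V → V} (hg : C.Lift g σ) (hh : C.Lift h τ) :
    C.Lift9 (tl g * tr h) fun w => (σ w.1, τ w.2) := by
  intro w
  obtain ⟨a, ha⟩ := hg w.1
  obtain ⟨b, hb⟩ := hh w.2
  refine ⟨a * b, ?_⟩
  have hinv : (tl g * tr h : G9)⁻¹ = tl g⁻¹ * tr h⁻¹ :=
    inv_eq_of_mul_eq_one_right (by rw [tl_tr_mul, mul_inv_cancel, mul_inv_cancel, map_one, map_one, one_mul])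
  rw [W9, W9, hinv, tl_tr_mul, tl_tr_mul, ha, hb, map_mul, map_mul, tl_sc, tr_sc, mul_assoc (sc a),
    ← mul_assoc (tl _) (sc b), ← sc_comm, mul_assoc (sc b), ← mul_assoc, ← sc_mul]

theorem tl_tr_mem_NZ9 {g h : G3} (hg : g ∈ C.NZ) (hh : h ∈ C.NZ) : tl g * tr h ∈ C.NZ9 := by
  obtain ⟨σ, hσ⟩ := hg
  obtain ⟨τ, hτ⟩ := hh
  exact ⟨Equiv.prodCongr σ τ, C.lift9_tl_tr hσ hτ⟩

theorem tl_mem_NZ9 {g : G3} (hg : g ∈ C.NZ) : tl g ∈ C.NZ9 := by
  have := C.tl_tr_mem_NZ9 hg (one_mem C.NZ)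
  rwa [map_one, mul_one] at this

theorem tr_mem_NZ9 {g : G3} (hg : g ∈ C.NZ) : tr g ∈ C.NZ9 := by
  have := C.tl_tr_mem_NZ9 (one_mem C.NZ) hg
  rwa [map_one, one_mul] at this

theorem swap_W9 (w : V × V) : swapG * C.W9 w * swapG⁻¹ = C.W9 w.swap := by
  rw [swapG_inv, W9, W9, ← mul_assoc, swap_tl, mul_assoc (tr _), swap_tr, ← mul_assoc, mul_assoc _ swapG,
    swapG_mul_self, mul_one, tl_tr_comm]
  rfl

theorem swap_mem_NZ9 : (swapG : G9) ∈ C.NZ9 :=
  C.mem_NZ9_of_conj fun w => ⟨1, w.swap, by rw [C.swap_W9, sc_one, one_mul]⟩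

/-- The controlled phase. -/
def CZ : G9 := bd fun i => C.W (0, i)

theorem bd_conj_tl_shift (f : T3 → G3) :
    (bd f : G9) * tl (C.W (1, 0)) * (bd f)⁻¹ = bd (fun i => f i * (f (i - 1))⁻¹) * tl (C.W (1, 0)) := by
  have key : (tl (C.W (1, 0)) : G9) * bd f = bd (fun i => f (i - 1)) * tl (C.W (1, 0)) := by
    apply Units.ext
    ext ⟨i, a⟩ ⟨k, b⟩
    rw [Units.val_mul, Units.val_mul, Matrix.mul_apply, Matrix.mul_apply,
      Finset.sum_eq_single (i - 1, a), Finset.sum_eq_single (k + 1, b)]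
    · simp [coe_tl, coe_bd, coe_W, wMat_apply, C.ch_zero, Matrix.kroneckerMap_apply, sub_eq_iff_eq_add]
    · rintro ⟨j, c⟩ _ hne
      by_cases h : j = k + 1
      · have : c ≠ b := fun e => hne (by rw [h, e])
        simp [coe_tl, Matrix.kroneckerMap_apply, this]
      · simp [coe_tl, coe_W, wMat_apply, Matrix.kroneckerMap_apply, h]
    · simp
    · rintro ⟨j, c⟩ _ hne
      by_cases h : i = j + 1
      · have : a ≠ c := fun e => hne (by rw [h, e, add_sub_cancel_right])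
        simp [coe_tl, Matrix.kroneckerMap_apply, this]
      · simp [coe_tl, coe_W, wMat_apply, Matrix.kroneckerMap_apply, h]
    · simp
  rw [show (fun i => f i * (f (i - 1))⁻¹) = f * (fun i => f (i - 1))⁻¹ from rfl, map_mul, map_inv]
  have key' : (tl (C.W (1, 0)) : G9) * (bd f)⁻¹ = (bd fun i => f (i - 1))⁻¹ * tl (C.W (1, 0)) := by
    rw [eq_inv_mul_iff_mul_eq, ← mul_assoc, ← key, mul_inv_cancel_right]
  rw [mul_assoc, key', ← mul_assoc]

theorem W_diag (k : T3) : (C.W (0, k) : M3) = Matrix.diagonal fun i => C.ch (k * i) := by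
  ext a b
  by_cases h : a = b <;> simp [coe_W, wMat_apply, h]

theorem tl_Z (k : T3) : (tl (C.W (0, k)) : G9) = bd fun i => sc (Units.mk0 _ (C.ch_ne_zero (k * i))) :=
  tl_diag _ (C.W_diag k)

theorem bd_comm_tl_Z (f : T3 → G3) (k : T3) : (bd f : G9) * tl (C.W (0, k)) = tl (C.W (0, k)) * bd f := by
  rw [C.tl_Z, ← map_mul, ← map_mul]
  congr 1
  funext i
  exact (sc_comm _ _).symm

theorem CZ_mem_NZ9 : C.CZ ∈ C.NZ9 := by
  refine C.mem_NZ9_of_gen ?_ ?_ ?_ ?_
  · refine ⟨1, ((1, 0), (0, 1)), ?_⟩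
    rw [C.W9_fst, CZ, C.bd_conj_tl_shift, sc_one, one_mul, W9, tl_tr_comm, tr_eq_bd]
    congr 2
    funext i
    rw [mul_inv_eq_iff_eq_mul, C.W_mul]
    simp [C.ch_zero, sc_one]
  · refine ⟨1, ((0, 1), 0), ?_⟩
    rw [C.W9_fst, CZ, C.bd_comm_tl_Z, mul_inv_cancel_right, sc_one, one_mul]
  · refine ⟨1, ((0, 1), (1, 0)), ?_⟩
    rw [C.W9_snd, CZ, W9, sc_one, one_mul, C.tl_Z, tr_eq_bd, ← map_inv, ← map_mul, ← map_mul, ← map_mul]
    congr 1
    funext i
    simp only [Pi.mul_apply, Pi.inv_apply]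
    obtain ⟨c, hc, hc'⟩ := C.W_conj (0, i) (1, 0)
    rw [hc]
    congr 2
    exact Units.ext (by rw [hc', Units.val_mk0]; congr 1; simp)
  · refine ⟨1, (0, (0, 1)), ?_⟩
    rw [C.W9_snd, CZ, sc_one, one_mul, tr_eq_bd, ← map_inv, ← map_mul, ← map_mul]
    congr 1
    funext i
    simp only [Pi.mul_apply, Pi.inv_apply]
    obtain ⟨c, hc, hc'⟩ := C.W_conj (0, i) (0, 1)
    rw [hc, show c = 1 from Units.ext (by rw [hc', Units.val_one]; simp [C.ch_zero]), sc_one, one_mul]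

/-- An element commuting with `Z ⊗ 1` is block diagonal. -/
theorem exists_bd {g : G9} (h : g * tl (C.W (0, 1)) = tl (C.W (0, 1)) * g) : ∃ f, g = bd f := by
  have key : ∀ (g : G9), g * tl (C.W (0, 1)) = tl (C.W (0, 1)) * g →
      ∀ x y : J, x.1 ≠ y.1 → (g : M9) x y = 0 := by
    intro g h x y hxy
    rw [C.tl_Z] at h
    have hd : ((bd fun i => sc (Units.mk0 _ (C.ch_ne_zero (1 * i))) : G9) : M9) =
        Matrix.diagonal fun z => C.ch z.1 := by
      ext ⟨i, a⟩ ⟨j, b⟩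
      by_cases e : i = j <;> by_cases e' : a = b <;> simp [coe_bd, coe_sc, e, e']
    have := congrArg (fun u : G9 => (u : M9) x y) h
    simp only [Units.val_mul, hd, Matrix.mul_diagonal, Matrix.diagonal_mul] at this
    have h' : (g : M9) x y * (C.ch y.1 - C.ch x.1) = 0 := by linear_combination this
    exact (mul_eq_zero.1 h').resolve_right (sub_ne_zero.2 fun e => hxy (C.ch_inj e).symm)
  have h' : g⁻¹ * tl (C.W (0, 1)) = tl (C.W (0, 1)) * g⁻¹ := by
    rw [inv_mul_eq_iff_eq_mul, ← mul_assoc, h, mul_inv_cancel_right]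
  have hg := key g h
  have hgi := key g⁻¹ h'
  have block : ∀ (u v : G9), (∀ x y : J, x.1 ≠ y.1 → (u : M9) x y = 0) → u * v = 1 →
      ∀ i : T3, (Matrix.of fun a b => (u : M9) (i, a) (i, b)) * (Matrix.of fun a b => (v : M9) (i, a) (i, b)) =
        (1 : M3) := by
    intro u v hu huv i
    ext a b
    have := congrArg (fun w : G9 => (w : M9) (i, a) (i, b)) huv
    simp only [Units.val_mul, Units.val_one, Matrix.mul_apply, Fintype.sum_prod_type] at this
    rw [Finset.sum_eq_single i (fun k _ hk => Finset.sum_eq_zero fun c _ => by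
      rw [hu (i, a) (k, c) (Ne.symm hk), zero_mul]) (by simp)] at this
    rw [Matrix.mul_apply]
    simp only [Matrix.of_apply]
    rw [this]
    simp [Matrix.one_apply]
  refine ⟨fun i => ⟨Matrix.of fun a b => (g : M9) (i, a) (i, b), Matrix.of fun a b => ((g⁻¹ : G9) : M9) (i, a) (i, b),
    block g g⁻¹ hg (mul_inv_cancel g) i, block g⁻¹ g hgi (inv_mul_cancel g) i⟩, ?_⟩
  apply Units.ext
  ext ⟨i, a⟩ ⟨j, b⟩
  by_cases e : i = j
  · subst e; simp [coe_bd]
  · simp [coe_bd, e, hg _ _ (show ((i, a) : J).1 ≠ ((j, b) : J).1 from e)]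

theorem bd_commute_of_scalar {f f' : T3 → G3} (h : ∀ i, f i * f' i = f' i * f i) :
    (bd f : G9) * bd f' = bd f' * bd f := by
  rw [← map_mul, ← map_mul]; exact congrArg _ (funext h)

/-- An element fixing the extraspecial group modulo scalars is in it. -/
theorem inR9_of_fix {g : G9} (h : C.Lift9 g id) : C.InR9 g := by
  have key : ∀ w, ∃ c : Fˣ, g * C.W9 w * g⁻¹ = sc c * C.W9 w ∧ ∃ k : T3, (c : F) = C.ch k := by
    intro w
    obtain ⟨c, hc⟩ := h w
    refine ⟨c, hc, ?_⟩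
    have h3 := congrArg (· ^ 3) hc
    simp only [id, conj_pow, C.W9_cube, (show Commute (sc c) (C.W9 w) from sc_comm c _).mul_pow, sc_pow,
      mul_one, mul_inv_cancel] at h3
    have hc3 : (c : F) ^ 3 = 1 := by
      rw [← Units.val_pow_eq_pow_val, sc_inj (h3.symm.trans sc_one.symm), Units.val_one]
    obtain ⟨i, hi, hci⟩ := C.prim.eq_pow_of_pow_eq_one hc3
    exact ⟨(i : T3), by rw [ch, ZMod.val_natCast, Nat.mod_eq_of_lt hi, hci]⟩
  obtain ⟨c₁, h₁, a, ha⟩ := key ((1, 0), 0)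
  obtain ⟨c₂, h₂, b, hb⟩ := key ((0, 1), 0)
  obtain ⟨c₃, h₃, d, hd⟩ := key (0, (1, 0))
  obtain ⟨c₄, h₄, k, hk⟩ := key (0, (0, 1))
  set u : V × V := ((-b, a), (-k, d))
  set g' := (C.W9 u)⁻¹ * g with hg'
  have fix : ∀ w (c : Fˣ), g * C.W9 w * g⁻¹ = sc c * C.W9 w → (c : F) = C.ch (e9 u w) →
      g' * C.W9 w = C.W9 w * g' := by
    intro w c hc hc'
    obtain ⟨d, hd, hd'⟩ := C.W9_conj u w
    have : d = c := Units.ext (hd'.trans hc'.symm)
    subst this
    have e1 : g * C.W9 w * g⁻¹ = C.W9 u * C.W9 w * (C.W9 u)⁻¹ := hc.trans hd.symm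
    calc g' * C.W9 w = (C.W9 u)⁻¹ * (g * C.W9 w * g⁻¹) * g := by rw [hg']; group
      _ = C.W9 w * g' := by rw [e1, hg']; group
  have f1 := fix _ c₁ h₁ (by rw [ha]; congr 1; simp [u, e9])
  have f2 := fix _ c₂ h₂ (by rw [hb]; congr 1; simp [u, e9])
  have f3 := fix _ c₃ h₃ (by rw [hd]; congr 1; simp [u, e9])
  have f4 := fix _ c₄ h₄ (by rw [hk]; congr 1; simp [u, e9])
  rw [C.W9_fst] at f1 f2
  rw [C.W9_snd] at f3 f4
  obtain ⟨f, hf⟩ := C.exists_bd f2
  rw [hf, tr_eq_bd, ← map_mul, ← map_mul] at f3 f4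
  rw [hf] at f1
  have f1' := C.bd_conj_tl_shift f
  rw [f1, mul_inv_cancel_right, eq_comm, mul_eq_right, ← map_one bd] at f1'
  have hfe := bd_injective f1'
  have hsame : ∀ i, f i = f 0 := by
    intro i
    have e1 := mul_inv_eq_one.1 (congrFun hfe 1)
    have e2 := mul_inv_eq_one.1 (congrFun hfe 2)
    rw [show (1 : T3) - 1 = 0 from rfl] at e1
    rw [show (2 : T3) - 1 = 1 from rfl] at e2
    obtain rfl | rfl | rfl : i = 0 ∨ i = 1 ∨ i = 2 := by revert i; decide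
    · rfl
    · exact e1
    · exact e2.trans e1
  have g3 := congrFun (bd_injective f3) 0
  have g4 := congrFun (bd_injective f4) 0
  simp only [Pi.mul_apply] at g3 g4
  have hl : C.Lift (f 0) id := by
    intro v
    refine ⟨1, ?_⟩
    rw [sc_one, one_mul, id, mul_inv_eq_iff_eq_mul]
    have c3 : Commute (f 0) (C.W (1, 0)) := g3
    have c4 : Commute (f 0) (C.W (0, 1)) := g4
    have hv : ∃ c : Fˣ, C.W v = sc c * (C.W (1, 0) ^ v.1.val * C.W (0, 1) ^ v.2.val) := by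
      have : ∀ v : T3 × T3, v.1.val • ((1 : T3), (0 : T3)) + v.2.val • ((0 : T3), (1 : T3)) = v := by decide
      have hp : ∀ (u : V) (n : ℕ), ∃ c : Fˣ, C.W u ^ n = sc c * C.W (n • u) := by
        intro u n
        induction n with
        | zero => exact ⟨1, by rw [pow_zero, zero_smul, C.W_zero, sc_one, one_mul]⟩
        | succ n ih =>
          obtain ⟨c, hc⟩ := ih
          exact ⟨_, by rw [pow_succ, hc, mul_assoc, C.W_mul, ← mul_assoc, ← sc_mul, succ_nsmul]⟩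
      obtain ⟨c, hc⟩ := hp (1, 0) v.1.val
      obtain ⟨d, hd⟩ := hp (0, 1) v.2.val
      obtain ⟨X, e⟩ : ∃ X : Fˣ, C.W (1, 0) ^ v.1.val * C.W (0, 1) ^ v.2.val = sc X * C.W v :=
        ⟨_, by rw [hc, hd, mul_assoc, ← mul_assoc (C.W _) (sc d), ← sc_comm, mul_assoc (sc d), C.W_mul, this,
          ← mul_assoc (sc c), ← sc_mul, ← mul_assoc, ← sc_mul]⟩
      exact ⟨X⁻¹, by rw [e, sc_inv, inv_mul_cancel_left]⟩
    obtain ⟨c, hc⟩ := hv
    rw [hc]
    exact (show Commute (f 0) (sc c) from (sc_comm c _).symm).mul_right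
      ((c3.pow_right _).mul_right (c4.pow_right _))
  obtain ⟨c, v, hcv⟩ := C.inR_of_fix hl
  have hg : g = C.W9 u * (sc c * C.W9 (0, v)) := by
    rw [C.W9_snd, ← tr_sc, ← map_mul, ← hcv, tr_eq_bd, ← (funext hsame : f = fun _ => f 0), ← hf, hg',
      mul_inv_cancel_left]
  rw [hg]
  exact C.inR9_mul ⟨1, u, by rw [sc_one, one_mul]⟩ ⟨c, _, rfl⟩

end Cube

end Cfsg.Agent.H1.HeisThree
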