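import Cfsg.Agent.H1.HeisThree.NineFix

/-!
The action of the centraliser of `flip ⊗ 1` on the three-dimensional eigenspace.
-/

set_option autoImplicit false

namespace Cfsg.Agent.H1.HeisThree

open Matrix
open scoped Kronecker

variable {F : Type*} [Field F]

local notation "T3" => ZMod 3
local notation "V" => ZMod 3 × ZMod 3
local notation "J" => ZMod 3 × ZMod 3
local notation "M3" => Matrix (ZMod 3) (ZMod 3) F
local notation "G3" => GL (ZMod 3) F
local notation "M9" => Matrix (ZMod 3 × ZMod 3) (ZMod 3 × ZMod 3) F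
local notation "G9" => GL (ZMod 3 × ZMod 3) F

namespace Cube

variable (C : Cube F)

/-- The centraliser of `flip ⊗ 1`. -/
def Cj : Subgroup G9 := Subgroup.centralizer {tl C.flip}

theorem Cj_facts {g : G9} (h : g ∈ C.Cj) (i k : T3) (a b : T3) :
    (g : M9) (-i, a) (-k, b) = (g : M9) (i, a) (k, b) := by
  have e := congrArg (fun u : G9 => (u : M9) (-i, a) (k, b)) (Subgroup.mem_centralizer_singleton_iff.1 h)
  simp only [Units.val_mul, Matrix.mul_apply] at e
  rw [Finset.sum_eq_single (-k, b), Finset.sum_eq_single (i, a)] at e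
  · simpa [coe_tl, coe_flip, Matrix.kroneckerMap_apply] using e
  · rintro ⟨j, c⟩ _ hne
    by_cases hc : c = a
    · have hne' : j ≠ i := fun e => hne (by rw [e, hc])
      have : -i ≠ -j := fun e => hne' (neg_injective e).symm
      simp [coe_tl, coe_flip, Matrix.kroneckerMap_apply, this]
    · simp [coe_tl, Matrix.kroneckerMap_apply, Ne.symm hc]
  · simp
  · rintro ⟨j, c⟩ _ hne
    by_cases hc : c = b
    · have hne' : j ≠ -k := fun e => hne (by rw [e, hc])
      simp [coe_tl, coe_flip, Matrix.kroneckerMap_apply, hne']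
    · simp [coe_tl, Matrix.kroneckerMap_apply, hc]
  · simp

/-- The block on the antisymmetric vectors. -/
def mu9Mat (g : G9) : M3 := Matrix.of fun a b => (g : M9) (1, a) (1, b) - (g : M9) (1, a) (2, b)

theorem mu9Mat_mul (g h : C.Cj) : mu9Mat ((g * h : C.Cj) : G9) = mu9Mat (g : G9) * mu9Mat (h : G9) := by
  ext a b
  have h01 : ∀ c, ((h : G9) : M9) (0, c) (2, b) = ((h : G9) : M9) (0, c) (1, b) := fun c => by
    simpa [neg_one_T3] using C.Cj_facts h.2 0 1 c b
  have h22 : ∀ c, ((h : G9) : M9) (2, c) (2, b) = ((h : G9) : M9) (1, c) (1, b) := fun c => by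
    simpa [neg_one_T3] using C.Cj_facts h.2 1 1 c b
  have h21 : ∀ c, ((h : G9) : M9) (2, c) (1, b) = ((h : G9) : M9) (1, c) (2, b) := fun c => by
    simpa [neg_one_T3, neg_two_T3] using C.Cj_facts h.2 1 2 c b
  simp only [mu9Mat, Matrix.of_apply, Matrix.mul_apply, Subgroup.coe_mul, Units.val_mul, Fintype.sum_prod_type,
    sum3, h01, h22, h21]
  ring

theorem mu9Mat_one : mu9Mat (1 : G9) = 1 := by
  ext a b
  by_cases h : a = b <;> simp [mu9Mat, Matrix.one_apply, h, one_ne_two_T3]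

/-- The action on the antisymmetric eigenspace. -/
def mu9 : C.Cj →* G3 :=
  MonoidHom.toHomUnits
    { toFun := fun g => mu9Mat (g : G9)
      map_one' := mu9Mat_one
      map_mul' := C.mu9Mat_mul }

theorem coe_mu9 (g : C.Cj) : (C.mu9 g : M3) = mu9Mat (g : G9) := rfl

theorem tl_mem_Cj {h : G3} (hh : h ∈ C.Hgrp) : tl h ∈ C.Cj :=
  Subgroup.mem_centralizer_singleton_iff.2
    (by rw [← map_mul, ← map_mul, Subgroup.mem_centralizer_singleton_iff.1 hh])

theorem tr_mem_Cj (n : G3) : tr n ∈ C.Cj :=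
  Subgroup.mem_centralizer_singleton_iff.2 (tl_tr_comm _ _).symm

theorem mu9_tl (h : C.Hgrp) : C.mu9 ⟨_, C.tl_mem_Cj h.2⟩ = sc (C.mu h) := by
  apply Units.ext
  ext a b
  by_cases e : a = b <;>
    simp [coe_mu9, mu9Mat, coe_tl, coe_sc, coe_mu, muVal, Matrix.kroneckerMap_apply, e]

theorem mu9_tr (n : G3) : C.mu9 ⟨_, C.tr_mem_Cj n⟩ = n := by
  apply Units.ext
  ext a b
  simp [coe_mu9, mu9Mat, coe_tr, Matrix.kroneckerMap_apply, one_ne_two_T3]

theorem mu9_decomp {g : C.Cj} (hg : (g : G9) ∈ C.NZ9) :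
    ∃ a : C.Hgrp, ∃ b ∈ C.NZ, (g : G9) = tl (a : G3) * tr b ∧ (a : G3) ∈ C.NZ ∧ C.mu9 g = sc (C.mu a) * b := by
  obtain ⟨a, ha, b, hb, e⟩ := C.comm_flip_decomp hg (Subgroup.mem_centralizer_singleton_iff.1 g.2)
  refine ⟨a, b, hb, e, ha, ?_⟩
  have hg' : g = ⟨_, C.tl_mem_Cj a.2⟩ * ⟨_, C.tr_mem_Cj b⟩ := Subtype.ext e
  rw [hg', map_mul, C.mu9_tl, C.mu9_tr]

end Cube

end Cfsg.Agent.H1.HeisThree
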