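import Cfsg.Agent.H1.HeisThree.NineModel
import Cfsg.Agent.H1.HeisThree.Proj
import Cfsg.Agent.Linear.Generation

/-!
The special linear groups of the two tensor factors and an entangling element generate.
-/

set_option autoImplicit false

namespace Cfsg.Agent.H1.HeisThree

open Matrix
open scoped Kronecker

variable {F : Type*} [Field F]

local notation "T3" => ZMod 3
local notation "J" => ZMod 3 × ZMod 3
local notation "M3" => Matrix (ZMod 3) (ZMod 3) F
local notation "G3" => GL (ZMod 3) F
local notation "M9" => Matrix (ZMod 3 × ZMod 3) (ZMod 3 × ZMod 3) F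
local notation "G9" => GL (ZMod 3 × ZMod 3) F

/-- A transvection as an element of the general linear group. -/
def trUnit {κ : Type*} [Fintype κ] [DecidableEq κ] (i j : κ) (h : i ≠ j) (c : F) : GL κ F :=
  Matrix.SpecialLinearGroup.toGL (Matrix.SpecialLinearGroup.transvection h c)

theorem coe_trUnit {κ : Type*} [Fintype κ] [DecidableEq κ] {i j : κ} (h : i ≠ j) (c : F) :
    ((trUnit i j h c : GL κ F) : Matrix κ κ F) = 1 + Matrix.single i j c := by
  simp [trUnit, Matrix.SpecialLinearGroup.transvection_coe]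

theorem coe_trUnit_inv {κ : Type*} [Fintype κ] [DecidableEq κ] {i j : κ} (h : i ≠ j) (c : F) :
    ((↑(trUnit i j h c)⁻¹ : Matrix κ κ F)) = 1 - Matrix.single i j c := by
  refine Units.inv_eq_of_mul_eq_one_right ?_
  rw [coe_trUnit, Matrix.add_mul, one_mul, Matrix.mul_sub, mul_one,
    Matrix.single_mul_single_of_ne _ _ _ _ h.symm _, sub_zero, sub_add_cancel]

theorem det_trUnit {κ : Type*} [Fintype κ] [DecidableEq κ] {i j : κ} (h : i ≠ j) (c : F) :
    ((trUnit i j h c : GL κ F) : Matrix κ κ F).det = 1 := (Matrix.SpecialLinearGroup.transvection h c).2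

theorem bdMat_mul_single (f : T3 → M3) (i j : T3) (B : M3) :
    bdMat f * (Matrix.single i j (1 : F) ⊗ₖ B) = Matrix.single i j (1 : F) ⊗ₖ (f i * B) := by
  ext ⟨a, x⟩ ⟨b, z⟩
  rw [Matrix.mul_apply, Fintype.sum_prod_type]
  simp only [Matrix.kroneckerMap_apply, Matrix.mul_apply]
  rw [Finset.sum_eq_single a]
  · by_cases h : i = a
    · subst h; by_cases h' : j = b <;> simp [bdMat, h']
    · simp [h]
  · intro k _ hk
    exact Finset.sum_eq_zero fun c _ => by simp [bdMat, Ne.symm hk]
  · simp

theorem single_mul_bdMat (f : T3 → M3) (i j : T3) (B : M3) :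
    (Matrix.single i j (1 : F) ⊗ₖ B) * bdMat f = Matrix.single i j (1 : F) ⊗ₖ (B * f j) := by
  ext ⟨a, x⟩ ⟨b, z⟩
  rw [Matrix.mul_apply, Fintype.sum_prod_type]
  simp only [Matrix.kroneckerMap_apply, Matrix.mul_apply]
  rw [Finset.sum_eq_single b]
  · by_cases h : j = b
    · subst h; by_cases h' : i = a <;> simp [bdMat, h']
    · simp [h]
  · intro k _ hk
    exact Finset.sum_eq_zero fun c _ => by simp [bdMat, hk]
  · simp

theorem swap_kronecker (A B : M3) : ((swapG : G9) : M9) * (A ⊗ₖ B) * (swapG : G9) = B ⊗ₖ A := by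
  ext x z
  rw [Matrix.mul_apply, Finset.sum_eq_single z.swap]
  · rw [Matrix.mul_apply, Finset.sum_eq_single x.swap]
    · obtain ⟨i, a⟩ := x
      obtain ⟨j, b⟩ := z
      simp [swapG, Matrix.kroneckerMap_apply, mul_comm]
    · intro y _ hy
      have : x ≠ y.swap := fun e => hy (by rw [e, Prod.swap_swap])
      simp [swapG, this]
    · simp
  · intro y _ hy
    simp [swapG, hy]
  · simp

variable [Fintype F] {p : ℕ} {C : Cube F}

/-- The element `1 + A ⊗ B` lies in the subgroup. -/
def HasUni (M : Subgroup G9) (A B : M3) : Prop := ∃ x ∈ M, ((x : G9) : M9) = 1 + A ⊗ₖ B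

theorem sl9_of_sl3 (hp : p.Prime) (hF : Fintype.card F = p) {M : Subgroup G9} (hswap : swapG ∈ M)
    (hCZ : C.CZ ∈ M) (hsl : ∀ g : G3, (g : M3).det = 1 → tl g ∈ M) :
    ∀ g : G9, (g : M9).det = 1 → g ∈ M := by
  classical
  have htr : ∀ g : G3, (g : M3).det = 1 → tr g ∈ M := by
    intro g hg
    have := mul_mem (mul_mem hswap (hsl g hg)) hswap
    rwa [swap_tl, mul_assoc, swapG_mul_self, mul_one] at this
  have add : ∀ {A B B' : M3}, A * A = 0 → HasUni M A B → HasUni M A B' → HasUni M A (B + B') := by
    rintro A B B' hA ⟨x, hx, ex⟩ ⟨y, hy, ey⟩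
    refine ⟨x * y, mul_mem hx hy, ?_⟩
    rw [Units.val_mul, ex, ey, Matrix.add_mul, one_mul, Matrix.mul_add, mul_one, ← Matrix.mul_kronecker_mul, hA,
      Matrix.zero_kronecker, add_zero, Matrix.kronecker_add]
    abel
  have smul : ∀ {A B : M3}, A * A = 0 → HasUni M A B → ∀ c : F, HasUni M A (c • B) := by
    intro A B hA h c
    obtain ⟨n, rfl⟩ := exists_natCast hp hF c
    induction n with
    | zero => exact ⟨1, one_mem M, by simp⟩
    | succ n ih => rw [Nat.cast_succ, add_smul, one_smul]; exact add hA ih h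
  have conj : ∀ {A B : M3} (h : G3), (h : M3).det = 1 → HasUni M A B →
      HasUni M A ((h : M3) * B * (↑h⁻¹ : M3)) := by
    rintro A B h hh ⟨x, hx, ex⟩
    refine ⟨tr h * x * (tr h)⁻¹, mul_mem (mul_mem (htr h hh) hx) (inv_mem (htr h hh)), ?_⟩
    rw [← map_inv, Units.val_mul, Units.val_mul, ex, coe_tr, coe_tr, Matrix.mul_add, Matrix.add_mul, mul_one,
      ← Matrix.mul_kronecker_mul, ← Matrix.mul_kronecker_mul, ← Matrix.mul_kronecker_mul, one_mul, mul_one,
      one_mul, Units.mul_inv, Matrix.one_kronecker_one]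
  have main : ∀ i j : T3, i ≠ j → ∀ (k l : T3) (c : F),
      HasUni M (Matrix.single i j (1 : F)) (Matrix.single k l c) := by
    intro i j hij
    set A : M3 := Matrix.single i j (1 : F) with hA
    have hAA : A * A = 0 := Matrix.single_mul_single_of_ne _ _ _ _ hij.symm _
    have h1 : HasUni M A 1 :=
      ⟨tl (trUnit i j hij 1), hsl _ (det_trUnit hij 1), by
        rw [coe_tl, coe_trUnit, Matrix.add_kronecker, Matrix.one_kronecker_one]⟩
    have hne : i - j ≠ 0 := sub_ne_zero.2 hij
    have hZ : HasUni M A (C.W (0, i - j) : M3) := by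
      obtain ⟨x, hx, ex⟩ := h1
      refine ⟨C.CZ * x * C.CZ⁻¹, mul_mem (mul_mem hCZ hx) (inv_mem hCZ), ?_⟩
      rw [Units.val_mul, Units.val_mul, ex, Matrix.mul_add, Matrix.add_mul, mul_one, Units.mul_inv, hA,
        show ((C.CZ : G9) : M9) = bdMat fun a => (C.W (0, a) : M3) from rfl, bdMat_mul_single, mul_one,
        show ((C.CZ⁻¹ : G9) : M9) = bdMat fun a => ((C.W (0, a))⁻¹ : G3) from rfl, single_mul_bdMat]
      congr 2
      rw [← Units.val_mul]
      congr 1
      rw [mul_inv_eq_iff_eq_mul, C.W_mul]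
      simp [C.ch_zero, sc_one]
    have hz : ∀ a b : T3, a ≠ b → C.ch ((i - j) * b) - C.ch ((i - j) * a) ≠ 0 := fun a b hab h =>
      hab (mul_left_cancel₀ hne (C.ch_inj (sub_eq_zero.1 h))).symm
    have hE : ∀ a b : T3, a ≠ b → HasUni M A (Matrix.single a b (1 : F)) := by
      intro a b hab
      have h2 := smul hAA (add hAA (conj (trUnit a b hab 1) (det_trUnit hab 1) hZ) (smul hAA hZ (-1)))
        (C.ch ((i - j) * b) - C.ch ((i - j) * a))⁻¹
      convert h2 using 1
      rw [coe_trUnit, coe_trUnit_inv, C.W_diag]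
      set d : T3 → F := fun x => C.ch ((i - j) * x)
      have dm : ∀ e : F, Matrix.diagonal d * Matrix.single a b e = Matrix.single a b (d a * e) ∧
          Matrix.single a b e * Matrix.diagonal d = Matrix.single a b (e * d b) := by
        intro e
        constructor <;> ext x y <;> simp [Matrix.diagonal_mul, Matrix.mul_diagonal, Matrix.single_apply] <;>
          split_ifs with h <;> first | (obtain ⟨rfl, rfl⟩ := h; simp) | simp
      rw [Matrix.mul_sub, mul_one, Matrix.add_mul, one_mul, Matrix.add_mul, (dm 1).1, (dm 1).2,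
        Matrix.single_mul_single_of_ne _ _ _ _ hab.symm _, add_zero, neg_smul, one_smul, one_mul, mul_one,
        show Matrix.diagonal d + Matrix.single a b (d b) - Matrix.single a b (d a) + -Matrix.diagonal d =
          Matrix.single a b (d b) - Matrix.single a b (d a) by abel,
        smul_sub, Matrix.smul_single, Matrix.smul_single]
      ext x y
      simp only [Matrix.sub_apply, Matrix.single_apply, smul_eq_mul, d]
      split_ifs
      · rw [← mul_sub, inv_mul_cancel₀ (hz a b hab)]
      · rw [sub_zero]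
    have hD : ∀ a b : T3, a ≠ b → HasUni M A (Matrix.single a a (1 : F) - Matrix.single b b (1 : F)) := by
      intro a b hab
      have h2 := add hAA (add hAA (conj (trUnit a b hab 1) (det_trUnit hab 1) (hE b a hab.symm))
        (smul hAA (hE b a hab.symm) (-1))) (hE a b hab)
      convert h2 using 1
      rw [coe_trUnit, coe_trUnit_inv]
      simp only [Matrix.add_mul, Matrix.mul_sub, one_mul, mul_one, Matrix.single_mul_single_same,
        Matrix.single_mul_single_of_ne _ _ _ _ hab _, Matrix.add_mul, neg_smul, one_smul, Matrix.mul_add]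
      abel
    have h3 : (3 : F) ≠ 0 := C.three_ne_zero
    intro k l c
    rw [show Matrix.single k l c = c • Matrix.single k l (1 : F) by rw [Matrix.smul_single, smul_eq_mul, mul_one]]
    refine smul hAA ?_ c
    by_cases hkl : k = l
    · subst hkl
      obtain ⟨a, b, ha, hb, hab⟩ : ∃ a b : T3, k ≠ a ∧ k ≠ b ∧ a ≠ b := by revert k; decide
      have h2 := smul hAA (add hAA (add hAA h1 (hD k a ha)) (hD k b hb)) (3 : F)⁻¹
      convert h2 using 1
      have hone : (1 : M3) = Matrix.single k k (1 : F) + Matrix.single a a (1 : F) + Matrix.single b b (1 : F) := by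
        have hcov : ∀ k a b x : T3, k ≠ a → k ≠ b → a ≠ b → x = k ∨ x = a ∨ x = b := by decide
        ext x y
        by_cases h : x = y
        · subst h
          rcases hcov k a b x ha hb hab with rfl | rfl | rfl <;>
            simp [Matrix.single_apply, Ne.symm ha, Ne.symm hb, Ne.symm hab, ha, hb, hab]
        · have hn : ∀ z : T3, ¬ (z = x ∧ z = y) := fun z e => h (e.1.symm.trans e.2)
          simp only [Matrix.one_apply_ne h, Matrix.add_apply, Matrix.single_apply, if_neg (hn _), add_zero]
      rw [hone, show Matrix.single k k (1 : F) + Matrix.single a a (1 : F) + Matrix.single b b (1 : F) +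
          (Matrix.single k k (1 : F) - Matrix.single a a (1 : F)) +
          (Matrix.single k k (1 : F) - Matrix.single b b (1 : F)) =
          Matrix.single k k (1 : F) + Matrix.single k k (1 : F) + Matrix.single k k (1 : F) by abel,
        ← Matrix.single_add, ← Matrix.single_add, Matrix.smul_single, smul_eq_mul,
        show (1 : F) + 1 + 1 = 3 by norm_num, inv_mul_cancel₀ h3]
    · exact hE k l hkl
  have key : ∀ x y : J, x ≠ y → ∀ c : F, ∃ g ∈ M, ((g : G9) : M9) = 1 + Matrix.single x y c := by
    rintro ⟨i, k⟩ ⟨j, l⟩ hne c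
    by_cases hij : i = j
    · subst hij
      have hkl : k ≠ l := fun e => hne (by rw [e])
      obtain ⟨g, hg, e⟩ := main k l hkl i i c
      refine ⟨swapG * g * swapG, mul_mem (mul_mem hswap hg) hswap, ?_⟩
      rw [Units.val_mul, Units.val_mul, e, Matrix.mul_add, Matrix.add_mul, mul_one, swap_kronecker,
        ← Units.val_mul, swapG_mul_self, Units.val_one, Matrix.single_kronecker_single, mul_one]
    · obtain ⟨g, hg, e⟩ := main i j hij k l c
      exact ⟨g, hg, by rw [e, Matrix.single_kronecker_single, one_mul]⟩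
  intro g hg
  have htop : Subgroup.comap Matrix.SpecialLinearGroup.toGL M = ⊤ :=
    Cfsg.Agent.Linear.eq_top_of_transvection_mem fun a b hab c => by
      obtain ⟨y, hy, e⟩ := key a b hab c
      rw [Subgroup.mem_comap]
      convert hy using 1
      apply Units.ext
      rw [e]
      simp [Matrix.SpecialLinearGroup.transvection_coe]
  let g' : Matrix.SpecialLinearGroup J F := ⟨(g : M9), hg⟩
  have hmem : g' ∈ Subgroup.comap Matrix.SpecialLinearGroup.toGL M := htop ▸ Subgroup.mem_top g'
  rw [Subgroup.mem_comap] at hmem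
  convert hmem using 1
  exact Units.ext rfl

end Cfsg.Agent.H1.HeisThree
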