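import Cfsg.Agent.H1.HeisThree.NineA

/-!
Block-diagonal elements with blocks in the normaliser lie in the normaliser.
-/

set_option autoImplicit false

namespace Cfsg.Agent.H1.HeisThree

open Matrix
open scoped Kronecker

variable {F : Type*} [Field F]

local notation "T3" => ZMod 3
local notation "V" => ZMod 3 × ZMod 3
local notation "J" => ZMod 3 × ZMod 3
local notation "M3" => Matrix (ZMod 3) (ZMod 3) F
local notation "M2" => Matrix (Fin 2) (Fin 2) F
local notation "G3" => GL (ZMod 3) F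
local notation "M9" => Matrix (ZMod 3 × ZMod 3) (ZMod 3 × ZMod 3) F
local notation "G9" => GL (ZMod 3 × ZMod 3) F

theorem mul_sc_mul {κ : Type*} [Fintype κ] [DecidableEq κ] (X : GL κ F) (a : Fˣ) (Y : GL κ F) :
    X * (sc a * Y) = sc a * (X * Y) := by rw [← mul_assoc, ← sc_comm, mul_assoc]

theorem T3_cases : ∀ i : T3, i = 0 ∨ i = 1 ∨ i = 2 := by decide

/-- The diagonal reflection of order three raised to a power. -/
noncomputable def refl3 (C : Cube F) (k : T3) : G3 :=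
  Cfsg.Agent.Linear.diagGL fun a => if a = 0 then Units.mk0 _ (C.ch_ne_zero k) else 1

variable {C : Cube F}

theorem coe_refl3 (k : T3) :
    ((refl3 C k : G3) : M3) = Matrix.diagonal fun a => if a = 0 then C.ch k else 1 := by
  rw [refl3, Cfsg.Agent.Linear.diagGL_coe]
  congr 1
  funext a
  split_ifs <;> simp

theorem refl3_zero : (refl3 C 0 : G3) = 1 := by
  apply Units.ext
  rw [coe_refl3, Units.val_one, ← Matrix.diagonal_one]
  congr 1
  funext a
  simp [C.ch_zero]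

theorem refl3_mem (k : T3) : (refl3 C k : G3) ∈ C.Hgrp := C.mem_Hgrp_iff.2 fun i j => by
  simp [coe_refl3, Matrix.diagonal_apply]

theorem phi_refl3 (k : T3) :
    (C.phi ⟨_, refl3_mem k⟩ : M2) = !![C.ch k, 0; 0, 1] := by
  ext i j
  fin_cases i <;> fin_cases j <;>
    simp [Cube.coe_phi, Cube.phiMat, coe_refl3, one_ne_two_T3]

theorem mu_refl3 (k : T3) : (C.mu ⟨_, refl3_mem k⟩ : F) = 1 := by
  simp [Cube.coe_mu, Cube.muVal, coe_refl3, one_ne_two_T3]

theorem refl3_commutator (h2 : (2 : F) ≠ 0) :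
    (refl3 C 1 * (C.S * refl3 C 1 * C.S⁻¹) * (refl3 C 1)⁻¹ * (C.S * refl3 C 1 * C.S⁻¹)⁻¹) *
      (refl3 C 1 * (C.S * refl3 C 1 * C.S⁻¹) * (refl3 C 1)⁻¹ * (C.S * refl3 C 1 * C.S⁻¹)⁻¹) =
        (C.flip : G3) := by
  set D : C.Hgrp := ⟨_, refl3_mem 1⟩ with hD
  set S : C.Hgrp := ⟨_, C.S_mem⟩ with hS
  suffices h : D * (S * D * S⁻¹) * D⁻¹ * (S * D * S⁻¹)⁻¹ * (D * (S * D * S⁻¹) * D⁻¹ * (S * D * S⁻¹)⁻¹) =
      ⟨_, C.flip_mem⟩ from congrArg Subtype.val h
  refine C.ext_H h2 ?_ ?_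
  · have hDi : ((C.phi D)⁻¹ : GL (Fin 2) F).val = !![C.ω ^ 2, 0; 0, 1] := by
      refine Units.inv_eq_of_mul_eq_one_right ?_
      rw [hD, phi_refl3, C.ch_one]
      ext i j
      fin_cases i <;> fin_cases j <;> simp [← pow_succ', C.cube]
    have hSi : ((C.phi S)⁻¹ : GL (Fin 2) F).val = -(C.s • !![1, 2; 1, -1]) := by
      refine Units.inv_eq_of_mul_eq_one_right ?_
      rw [hS, C.phi_S]
      ext i j
      fin_cases i <;> fin_cases j <;> simp [Matrix.mul_apply, Fin.sum_univ_two] <;>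
        first | linear_combination -C.s_sq | ring
    rw [C.phi_flip]
    simp only [map_mul, map_inv, _root_.mul_inv_rev, inv_inv, Units.val_mul, hDi, hSi]
    rw [hD, phi_refl3, hS, C.phi_S, C.ch_one]
    have hw : C.ω ^ 2 = -C.ω - 1 := by linear_combination C.sq_add
    have hs2 : C.s * C.s * 3 = -1 := C.s_sq
    ext i j
    fin_cases i <;> fin_cases j <;> simp [Matrix.mul_apply, Fin.sum_univ_two] <;> grind
  · simp only [map_mul, map_inv]
    rw [C.mu_flip, show C.mu D = 1 from Units.ext (mu_refl3 1)]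
    simp

/-- The element `h ⊗ P + 1 ⊗ (1 - P)`, `P` the projection on the negative vectors of the involution. -/
def extMat (C : Cube F) (h2 : (2 : F) ≠ 0) : M3 →* M9 where
  toFun h := h ⊗ₖ ((2 : F)⁻¹ • (1 - (C.flip : M3))) + (1 : M3) ⊗ₖ ((2 : F)⁻¹ • (1 + (C.flip : M3)))
  map_one' := by
    rw [← Matrix.kronecker_add, ← smul_add, sub_add_add_cancel, ← two_smul F (1 : M3), smul_smul,
      inv_mul_cancel₀ h2, one_smul, Matrix.one_kronecker_one]
  map_mul' a b := by
    have hf : (C.flip : M3) * (C.flip : M3) = 1 := by rw [← Units.val_mul, C.flip_mul_flip, Units.val_one]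
    have h22 : (2 : F)⁻¹ * (2 : F)⁻¹ * 2 = (2 : F)⁻¹ := by field_simp
    have e1 : ((2 : F)⁻¹ • (1 - (C.flip : M3))) * ((2 : F)⁻¹ • (1 - (C.flip : M3))) =
        (2 : F)⁻¹ • (1 - (C.flip : M3)) := by
      rw [Matrix.smul_mul, Matrix.mul_smul, smul_smul, Matrix.sub_mul, one_mul, Matrix.mul_sub, mul_one, hf,
        show (1 : M3) - (C.flip : M3) - ((C.flip : M3) - 1) = (2 : F) • (1 - (C.flip : M3)) by
          rw [two_smul]; abel, smul_smul, h22]
    have e2 : ((2 : F)⁻¹ • (1 + (C.flip : M3))) * ((2 : F)⁻¹ • (1 + (C.flip : M3))) =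
        (2 : F)⁻¹ • (1 + (C.flip : M3)) := by
      rw [Matrix.smul_mul, Matrix.mul_smul, smul_smul, Matrix.add_mul, one_mul, Matrix.mul_add, mul_one, hf,
        show (1 : M3) + (C.flip : M3) + ((C.flip : M3) + 1) = (2 : F) • (1 + (C.flip : M3)) by
          rw [two_smul]; abel, smul_smul, h22]
    have e3 : ((2 : F)⁻¹ • (1 - (C.flip : M3))) * ((2 : F)⁻¹ • (1 + (C.flip : M3))) = 0 := by
      rw [Matrix.smul_mul, Matrix.mul_smul, smul_smul, Matrix.sub_mul, one_mul, Matrix.mul_add, mul_one, hf,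
        show (1 : M3) + (C.flip : M3) - ((C.flip : M3) + 1) = 0 by abel, smul_zero]
    have e4 : ((2 : F)⁻¹ • (1 + (C.flip : M3))) * ((2 : F)⁻¹ • (1 - (C.flip : M3))) = 0 := by
      rw [Matrix.smul_mul, Matrix.mul_smul, smul_smul, Matrix.add_mul, one_mul, Matrix.mul_sub, mul_one, hf,
        show (1 : M3) - (C.flip : M3) + ((C.flip : M3) - 1) = 0 by abel, smul_zero]
    rw [Matrix.add_mul, Matrix.mul_add, Matrix.mul_add, ← Matrix.mul_kronecker_mul, ← Matrix.mul_kronecker_mul,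
      ← Matrix.mul_kronecker_mul, ← Matrix.mul_kronecker_mul, e1, e2, e3, e4, Matrix.kronecker_zero,
      Matrix.kronecker_zero, add_zero, zero_add, one_mul]

variable [Fintype F] {p : ℕ} {M : Subgroup (GL (ZMod 3 × ZMod 3) F)}

theorem single_Z_not_mem (hp : p.Prime) (hF : Fintype.card F = p) (hp2 : p ≠ 2) (hM : ContainsN9 C M)
    (hno : ¬ ∀ g : G9, (g : M9).det = 1 → g ∈ M) : bd (Pi.mulSingle 0 (C.W (0, 1))) ∉ M := by
  classical
  intro hδ
  have := charP_of_card hp hF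
  have h2 : (2 : F) ≠ 0 := two_ne_zero_of hp2 hp
  set K : Subgroup (T3 → G3) := M.comap bd
  have hswap : bd (fun i => refl3 C i) ∈ M := by
    have e : (swapG : G9) * bd (Pi.mulSingle 0 (C.W (0, 1))) * swapG = bd fun i => refl3 C i := by
      apply Units.ext
      ext x z
      rw [Units.val_mul, Units.val_mul, Matrix.mul_apply, Finset.sum_eq_single z.swap]
      · rw [Matrix.mul_apply, Finset.sum_eq_single x.swap]
        · obtain ⟨i, a⟩ := x
          obtain ⟨j, b⟩ := z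
          by_cases ha : a = 0 <;> by_cases hab : a = b <;> by_cases hij : i = j <;>
            simp_all [swapG, coe_bd, coe_refl3, C.W_diag, eq_comm]
        · intro y _ hy
          have : x ≠ y.swap := fun e => hy (by rw [e, Prod.swap_swap])
          simp [swapG, this]
        · simp
      · intro y _ hy
        simp [swapG, hy]
      · simp
    rw [← e]
    exact mul_mem (mul_mem hM.swap hδ) hM.swap
  have shift : ∀ k : T3 → G3, bd k ∈ M → bd (fun i => k (i - 1)) ∈ M := fun k hk => by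
    rw [← bd_shift C]
    exact mul_mem (mul_mem (hM.W _) hk) (inv_mem (hM.W _))
  have ha : bd (fun i => refl3 C (i + 1)) ∈ M := by
    have := shift _ (shift _ hswap)
    convert this using 3 with i
    exact congrArg (refl3 C) ((by decide : ∀ i : T3, i + 1 = i - 1 - 1) i)
  have hb : bd (fun i => C.S * refl3 C (-i + 1) * C.S⁻¹) ∈ M := by
    have h1 : bd (fun i => refl3 C (-i + 1)) ∈ M := by
      rw [← bd_neg C fun i => refl3 C (i + 1)]
      exact mul_mem (mul_mem (hM.tlN C.flip_mem_NZ) ha) (inv_mem (hM.tlN C.flip_mem_NZ))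
    have h2 := mul_mem (mul_mem (hM.const_mem C.S_mem_NZ) (show (fun i => refl3 C (-i + 1)) ∈ K from h1))
      (inv_mem (hM.const_mem C.S_mem_NZ))
    exact h2
  have hq : (Pi.mulSingle 0 (refl3 C 1 * (C.S * refl3 C 1 * C.S⁻¹) * (refl3 C 1)⁻¹ *
      (C.S * refl3 C 1 * C.S⁻¹)⁻¹) : T3 → G3) ∈ K := by
    have e : (Pi.mulSingle 0 (refl3 C 1 * (C.S * refl3 C 1 * C.S⁻¹) * (refl3 C 1)⁻¹ *
        (C.S * refl3 C 1 * C.S⁻¹)⁻¹) : T3 → G3) = (fun i => refl3 C (i + 1)) *
          (fun i => C.S * refl3 C (-i + 1) * C.S⁻¹) * (fun i => refl3 C (i + 1))⁻¹ *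
          (fun i => C.S * refl3 C (-i + 1) * C.S⁻¹)⁻¹ := by
      funext i
      obtain rfl | rfl | rfl := T3_cases i
      · simp
      · simp [show (-1 : T3) + 1 = 0 from rfl, show (1 : T3) + 1 = 2 from rfl, refl3_zero]
      · simp [show (-2 : T3) + 1 = 2 from rfl, show (2 : T3) + 1 = 0 from rfl, refl3_zero, two_ne_zero_T3]
    rw [e]
    exact mul_mem (mul_mem (mul_mem (show (fun i => refl3 C (i + 1)) ∈ K from ha) hb)
      (inv_mem (show (fun i => refl3 C (i + 1)) ∈ K from ha))) (inv_mem hb)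
  have hu : bd (Pi.mulSingle 0 C.flip) ∈ M := by
    have := mul_mem hq hq
    rwa [← Pi.mulSingle_mul, refl3_commutator h2] at this
  -- the elements `h ⊗ P + 1 ⊗ (1 - P)`
  let E : G3 →* G9 := Units.map (extMat C h2)
  let L : Subgroup G3 := M.comap E
  have hE : ∀ h : G3, ((E h : G9) : M9) =
      (h : M3) ⊗ₖ ((2 : F)⁻¹ • (1 - (C.flip : M3))) + (1 : M3) ⊗ₖ ((2 : F)⁻¹ • (1 + (C.flip : M3))) :=
    fun h => rfl
  have hEdiag : ∀ (h : G3) (d : T3 → F), (h : M3) = Matrix.diagonal d → ∀ x y : J, ((E h : G9) : M9) x y =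
      if x.1 = y.1 then (d x.1 * (2 : F)⁻¹) * ((1 : M3) x.2 y.2 - (C.flip : M3) x.2 y.2) +
        (2 : F)⁻¹ * ((1 : M3) x.2 y.2 + (C.flip : M3) x.2 y.2) else 0 := by
    rintro h d hd ⟨i, a⟩ ⟨j, b⟩
    rcases eq_or_ne i j with rfl | hij
    · simp [hE, hd, Matrix.kroneckerMap_apply]; ring
    · simp [hE, hd, Matrix.kroneckerMap_apply, hij]
  let r : G3 := Cfsg.Agent.Linear.diagGL fun i => if i = 0 then -1 else 1
  have hr : (r : M3) = Matrix.diagonal fun i => if i = 0 then (-1 : F) else 1 := by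
    rw [show (r : M3) = _ from Cfsg.Agent.Linear.diagGL_coe _]
    congr 1
    funext i
    split_ifs <;> simp
  have hrL : r ∈ L := by
    show E r ∈ M
    have e : E r = bd (Pi.mulSingle 0 C.flip) := by
      apply Units.ext
      ext ⟨i, a⟩ ⟨j, b⟩
      rw [hEdiag r _ hr, coe_bd]
      rcases eq_or_ne i j with rfl | hij
      · by_cases hi : i = 0
        · subst hi; simp; field_simp; ring
        · simp [hi]; field_simp; ring
      · simp [hij]
    rw [e]
    exact hu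
  let Γ : Subgroup G3 := Subgroup.normalizer (L : Set G3)
  have hnorm : ∀ n ∈ C.NZ, n ∈ Γ := by
    intro n hn
    rw [Subgroup.mem_normalizer_iff]
    intro h
    have e : E (n * h * n⁻¹) = tl n * E h * (tl n)⁻¹ := by
      apply Units.ext
      rw [← map_inv, Units.val_mul, Units.val_mul, coe_tl, coe_tl, hE, hE, Matrix.mul_add, Matrix.add_mul,
        ← Matrix.mul_kronecker_mul, ← Matrix.mul_kronecker_mul, ← Matrix.mul_kronecker_mul,
        ← Matrix.mul_kronecker_mul, one_mul, mul_one, one_mul, mul_one, mul_one, Units.mul_inv,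
        Units.val_mul, Units.val_mul]
    show h ∈ L ↔ n * h * n⁻¹ ∈ L
    rw [Subgroup.mem_comap, Subgroup.mem_comap, e]
    refine ⟨fun hh => mul_mem (mul_mem (hM.tlN hn) hh) (inv_mem (hM.tlN hn)), fun hh => ?_⟩
    have := mul_mem (mul_mem (inv_mem (hM.tlN hn)) hh) (hM.tlN hn)
    simpa [mul_assoc] using this
  have hΓ : ContainsN C Γ := ⟨fun c => hnorm _ (C.sc_mem_NZ c), fun v => hnorm _ (C.W_mem_NZ v),
    hnorm _ C.S_mem_NZ, hnorm _ C.y_mem_NZ⟩
  have hrNZ : r ∉ C.NZ := fun h => by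
    have := diag_NZ_cubes hr h 1
    simp at this
    exact h2 (by linear_combination this)
  have hsl := (base hp hF hp2 hΓ).resolve_left fun h => hrNZ (h (Subgroup.le_normalizer hrL))
  have hLsl := sl_le_of_normalized (L := L)
    (fun g hg l hl => ((Subgroup.mem_normalizer_iff.1 (hsl g hg)) l).1 hl) hrL
    (fun ⟨c, hc⟩ => hrNZ (hc ▸ C.sc_mem_NZ c))
  let h : G3 := Cfsg.Agent.Linear.diagGL fun i =>
    if i = 0 then Units.mk0 2 h2 else if i = 1 then (Units.mk0 2 h2)⁻¹ else 1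
  have hh : (h : M3) = Matrix.diagonal fun i => if i = 0 then (2 : F) else if i = 1 then (2 : F)⁻¹ else 1 := by
    rw [show (h : M3) = _ from Cfsg.Agent.Linear.diagGL_coe _]
    congr 1
    funext i
    split_ifs <;> simp
  have hhdet : (h : M3).det = 1 := by
    rw [hh, Matrix.det_diagonal, show (Finset.univ : Finset T3) = {0, 1, 2} by decide,
      Finset.prod_insert (by decide), Finset.prod_insert (by decide), Finset.prod_singleton]
    simp [two_ne_one_T3, two_ne_zero_T3, h2]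
  have hEh : E h ∈ M := hLsl h hhdet
  have hcomm : E h * tl (C.W (0, 1)) = tl (C.W (0, 1)) * E h := by
    apply Units.ext
    rw [Units.val_mul, Units.val_mul, hE, coe_tl, Matrix.add_mul, Matrix.mul_add, ← Matrix.mul_kronecker_mul,
      ← Matrix.mul_kronecker_mul, ← Matrix.mul_kronecker_mul, ← Matrix.mul_kronecker_mul, one_mul, mul_one,
      mul_one, one_mul, one_mul, hh, C.W_diag, Matrix.diagonal_mul_diagonal, Matrix.diagonal_mul_diagonal]
    simp only [mul_one, mul_comm]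
  obtain ⟨f, hf⟩ := C.exists_bd hcomm
  have hf0 : ∀ a b : T3, (f 0 : M3) a b = (2 * (2 : F)⁻¹) * ((1 : M3) a b - (C.flip : M3) a b) +
      (2 : F)⁻¹ * ((1 : M3) a b + (C.flip : M3) a b) := by
    intro a b
    have h1 := hEdiag h _ hh (0, a) (0, b)
    rw [hf, coe_bd] at h1
    simpa using h1
  have h00 : (f 0 : M3) 0 0 = 2 := by
    rw [hf0]; simp [Cube.coe_flip]; field_simp; ring
  have h11 : (f 0 : M3) 1 1 * 2 = 3 := by
    rw [hf0]; simp [Cube.coe_flip, neg_one_T3, one_ne_two_T3]; field_simp; ring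
  have h12 : (f 0 : M3) 1 2 * 2 = 1 := by
    rw [hf0]; simp [Cube.coe_flip, neg_two_T3, one_ne_two_T3]; field_simp; ring
  have h20 : (f 0 : M3) 2 0 = 0 := by
    rw [hf0]; simp [Cube.coe_flip, two_ne_zero_T3]
  have h10 : (f 0 : M3) 1 0 = 0 := by
    rw [hf0]; simp [Cube.coe_flip]
  obtain ⟨σ, hσ⟩ := blocks_mem hp hF hp2 hM hno (f := f) (hf ▸ hEh) 0
  obtain ⟨c, hc⟩ := hσ (0, 1)
  rw [mul_inv_eq_iff_eq_mul] at hc
  have ent : ∀ a b : T3, (f 0 : M3) a b * C.ch b =
      c * C.ch ((σ (0, 1)).2 * (a - (σ (0, 1)).1)) * (f 0 : M3) (a - (σ (0, 1)).1) b := by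
    intro a b
    have := congrArg (fun u : G3 => (u : M3) a b) hc
    simp only [Units.val_mul, coe_sc, C.W_diag, Matrix.mul_diagonal, one_mul, Matrix.smul_mul,
      Matrix.smul_apply, smul_eq_mul] at this
    rw [this, Cube.coe_W, Matrix.mul_apply, Finset.sum_eq_single (a - (σ (0, 1)).1)]
    · simp [Cube.wMat_apply]; ring
    · intro k _ hk
      have : a ≠ k + (σ (0, 1)).1 := fun e => hk (by rw [e, add_sub_cancel_right])
      simp [Cube.wMat_apply, this]
    · simp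
  have hv : (σ (0, 1)).1 = 0 := by
    have e := ent 0 0
    rw [h00, C.ch_zero, mul_one] at e
    rcases T3_cases (σ (0, 1)).1 with hv | hv | hv
    · exact hv
    · rw [hv, show (0 : T3) - 1 = 2 from rfl, h20, mul_zero] at e; exact absurd e h2
    · rw [hv, show (0 : T3) - 2 = 1 from rfl, h10, mul_zero] at e; exact absurd e h2
  have a12 : (f 0 : M3) 1 2 ≠ 0 := fun e => by rw [e, zero_mul] at h12; exact zero_ne_one h12
  have a11 : (f 0 : M3) 1 1 ≠ 0 := fun e => by rw [e, zero_mul] at h11; exact C.three_ne_zero h11.symm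
  have e1 := ent 1 1
  have e2 := ent 1 2
  rw [hv, sub_zero, mul_comm _ (C.ch _)] at e1 e2
  have f1 := mul_right_cancel₀ a11 e1
  have f2 := mul_right_cancel₀ a12 e2
  rw [C.ch_one] at f1
  rw [C.ch_two] at f2
  exact C.ne_one (mul_left_cancel₀ C.ne_zero (by linear_combination f2 - f1))

omit [Fintype F] in
/-- Elements with blocks `W (i • t)` up to scalars. -/
theorem exists_line (hM : ContainsN9 C M) (t : V) :
    ∃ c : T3 → Fˣ, bd (fun i => sc (c i) * C.W (i • t)) ∈ M ∧ bd (fun i => sc (c i) * C.W (i • t)) ∈ C.NZ9 := by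
  by_cases ht : t = 0
  · subst ht
    refine ⟨fun _ => 1, ?_⟩
    simp only [smul_zero, C.W_zero, mul_one, sc_one]
    rw [show (fun _ : T3 => (1 : G3)) = 1 from rfl, map_one]
    exact ⟨one_mem _, one_mem _⟩
  obtain ⟨a, ha⟩ := (by decide : ∀ t : V, t ≠ 0 → ∃ a, det2 a t = 1) t ht
  obtain ⟨n, hn, σ, hσ, -, hb⟩ := exists_lift (containsN_NZ (C := C)) a t ha
  choose c hc using fun i : T3 => hσ (0, i)
  refine ⟨c, ?_⟩
  have hlin : ∀ i : T3, σ (0, i) = i • t := fun i => by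
    rw [C.lift_linear hσ, hb]; simp
  have e : bd (fun i => sc (c i) * C.W (i • t)) = (tr n : G9) * C.CZ * (tr n)⁻¹ := by
    rw [Cube.CZ, tr_eq_bd, ← map_inv, ← map_mul, ← map_mul]
    congr 1
    funext i
    rw [← hlin]
    exact (hc i).symm
  rw [e]
  exact ⟨mul_mem (mul_mem (hM.trN hn) hM.CZ) (inv_mem (hM.trN hn)),
    mul_mem (mul_mem (C.tr_mem_NZ9 hn) C.CZ_mem_NZ9) (inv_mem (C.tr_mem_NZ9 hn))⟩

omit [Fintype F] in
theorem pow_three_ch (k : T3) : C.ch k ^ 3 = 1 := by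
  rw [Cube.ch, ← pow_mul, mul_comm, pow_mul, C.cube, one_pow]

omit [Fintype F] in
theorem exists_sub (hM : ContainsN9 C M) {f : T3 → G3} (hf : bd f ∈ M) {c : T3 → Fˣ} {v : T3 → V}
    (hfv : ∀ i, f i = sc (c i) * C.W (v i)) :
    ∃ d : T3 → Fˣ, bd (fun i => sc (d i) * C.W (if i = 0 then v 0 + v 1 + v 2 else 0)) ∈ M ∧
      (bd (fun i => sc (d i) * C.W (if i = 0 then v 0 + v 1 + v 2 else 0)) ∈ C.NZ9 → bd f ∈ C.NZ9) := by
  obtain ⟨e, he, he'⟩ := exists_line hM (v 1 - v 2)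
  have hconst : ∀ u : V, (fun _ : T3 => C.W u) ∈ M.comap bd := fun u => hM.const_mem (C.W_mem_NZ u)
  set u : V := v 1 + v 1 + (-v 2) with hu
  set f' : T3 → G3 := (fun _ => C.W (-u)) * (fun i => sc (e i) * C.W (i • (v 1 - v 2))) * f with hf'
  have key : ∀ i, ∃ d : Fˣ, f' i = sc d * C.W (if i = 0 then v 0 + v 1 + v 2 else 0) := by
    intro i
    have hvec : -u + i • (v 1 - v 2) + v i = if i = 0 then v 0 + v 1 + v 2 else 0 := by
      obtain rfl | rfl | rfl := T3_cases i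
      · rw [if_pos rfl, hu, zero_smul, add_zero]
        exact (by decide : ∀ a b c : V, -(b + b + -c) + a = a + b + c) _ _ _
      · rw [if_neg one_ne_zero, hu, one_smul]
        exact (by decide : ∀ b c : V, -(b + b + -c) + (b - c) + b = 0) _ _
      · rw [if_neg two_ne_zero_T3, hu]
        exact (by decide : ∀ b c : V, -(b + b + -c) + (2 : T3) • (b - c) + c = 0) _ _
    exact ⟨_, by
      simp only [hf', Pi.mul_apply, hfv]
      rw [mul_sc_mul (C.W (-u)), C.W_mul, ← mul_assoc (sc (e i)), ← sc_mul, mul_sc_mul,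
        mul_assoc (sc _) (C.W _) (C.W _), C.W_mul, hvec]
      simp only [← mul_assoc, ← sc_mul]; rfl⟩
  choose d hd using key
  refine ⟨d, ?_⟩
  rw [← (funext hd : f' = _)]
  have hfM : bd f' ∈ M := mul_mem (mul_mem (hconst (-u)) (show _ ∈ M.comap bd from he)) (show f ∈ M.comap bd from hf)
  refine ⟨hfM, fun h => ?_⟩
  have e2 : bd f = (bd fun i => sc (e i) * C.W (i • (v 1 - v 2)))⁻¹ * (bd fun _ : T3 => C.W (-u))⁻¹ * bd f' := by
    rw [hf', map_mul, map_mul]
    group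
  rw [e2, ← tr_eq_bd]
  exact mul_mem (mul_mem (inv_mem he') (inv_mem (C.tr_mem_NZ9 (C.W_mem_NZ _)))) h

theorem inR_sum (hp : p.Prime) (hF : Fintype.card F = p) (hp2 : p ≠ 2) (hM : ContainsN9 C M)
    (hno : ¬ ∀ g : G9, (g : M9).det = 1 → g ∈ M) {f : T3 → G3} (hf : bd f ∈ M) {c : T3 → Fˣ} {v : T3 → V}
    (hfv : ∀ i, f i = sc (c i) * C.W (v i)) : v 0 + v 1 + v 2 = 0 := by
  classical
  obtain ⟨d, hd, -⟩ := exists_sub hM hf hfv
  set s := v 0 + v 1 + v 2 with hsdef
  by_contra hs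
  have := charP_of_card hp hF
  set K : Subgroup (T3 → G3) := M.comap bd
  set g : T3 → G3 := fun i => sc (d i) * C.W (if i = 0 then s else 0) with hg
  have hgK : g ∈ K := hd
  have hflip := hM.const_mem C.flip_mem_NZ
  -- the cubes
  have hc9 : ∀ i, (d i : F) ^ 9 = (d 0 : F) ^ 9 := by
    have e : g ^ 3 = fun i => (sc (d i ^ 3) : G3) := by
      funext i
      simp only [hg, Pi.pow_apply]
      rw [(show Commute (sc (d i)) (C.W _) from sc_comm _ _).mul_pow, C.W_cube, mul_one, sc_pow]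
    have h3 : bd (fun i => (sc (d i ^ 3) : G3)) ∈ M := e ▸ pow_mem hgK 3
    intro i
    have := (scalar_triple hp hF hp2 hM hno h3).1 i
    rw [Units.val_pow_eq_pow_val, Units.val_pow_eq_pow_val, ← pow_mul, ← pow_mul] at this
    exact this
  have hc6 : ∀ i, (d i : F) ^ 6 = (d 0 : F) ^ 6 := by
    have key : ∀ i, ∃ e : Fˣ, ((g * ((fun _ => C.flip) * g * (fun _ => C.flip)⁻¹)) : T3 → G3) i = sc e ∧
        (e : F) ^ 3 = (d i : F) ^ 6 := by
      intro i
      simp only [hg, Pi.mul_apply, Pi.inv_apply]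
      rw [← mul_assoc C.flip, ← sc_comm, mul_assoc (sc (d i)) C.flip, C.flip_W, mul_assoc (sc (d i)) _ C.flip⁻¹,
        mul_inv_cancel_right, ← mul_assoc, mul_assoc (sc (d i)) (C.W _), ← sc_comm (d i) (C.W _), ← mul_assoc,
        ← sc_mul, mul_assoc, C.W_mul, add_neg_cancel, C.W_zero, mul_one, ← sc_mul]
      refine ⟨_, rfl, ?_⟩
      rw [Units.val_mul, Units.val_mul, Units.val_mk0, mul_pow, pow_three_ch, mul_one]
      ring
    choose e he he3 using key
    have h3 : bd (fun i => (sc (e i) : G3)) ∈ M := by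
      rw [← (funext he : _ = fun i => (sc (e i) : G3))]
      exact mul_mem hgK (mul_mem (mul_mem hflip hgK) (inv_mem hflip))
    intro i
    rw [← he3, ← he3]
    exact (scalar_triple hp hF hp2 hM hno h3).1 i
  have hc3 : ∀ i, (d i : F) ^ 3 = (d 0 : F) ^ 3 := by
    intro i
    refine mul_left_cancel₀ (pow_ne_zero 6 (d i).ne_zero) ?_
    rw [← pow_add, hc9 i, hc6 i, ← pow_add]
  have hsingle : ∀ (k : Fˣ) , (k : F) ^ 3 = 1 → (Pi.mulSingle 0 (sc k : G3) : T3 → G3) ∈ K := by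
    intro k hk
    have e : (Pi.mulSingle 0 (sc k : G3) : T3 → G3) = fun i => sc ((Pi.mulSingle 0 k : T3 → Fˣ) i) := by
      funext i
      by_cases hi : i = 0
      · subst hi; simp
      · simp [hi, sc_one]
    rw [e]
    refine scalar_triple_mem hM fun i => ?_
    by_cases hi : i = 0
    · subst hi; rfl
    · simp [hi, hk]
  have hδs : (Pi.mulSingle 0 (C.W s) : T3 → G3) ∈ K := by
    have e : (Pi.mulSingle 0 (C.W s) : T3 → G3) = (fun i => (sc (d i) : G3))⁻¹ * g := by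
      funext i
      by_cases hi : i = 0
      · subst hi; simp [hg]
      · simp [hg, hi, C.W_zero]
    rw [e]
    exact mul_mem (inv_mem (scalar_triple_mem hM hc3)) hgK
  obtain ⟨a, ha⟩ := (by decide : ∀ t : V, t ≠ 0 → ∃ a, det2 a t = 1) s hs
  obtain ⟨n, hn, σ, hσ, -, hb⟩ := exists_lift (containsN_NZ (C := C)) a s ha
  obtain ⟨k, hk⟩ := C.lift_inv hσ s
  rw [← hb, σ.symm_apply_apply] at hk
  have hk3 : (k : F) ^ 3 = 1 := by
    have h3 := congrArg (· ^ 3) hk
    simp only [conj_pow, C.W_cube, (show Commute (sc k) (C.W (0, 1)) from sc_comm k _).mul_pow, sc_pow,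
      mul_one, mul_inv_cancel] at h3
    rw [← Units.val_pow_eq_pow_val, sc_inj (h3.symm.trans sc_one.symm), Units.val_one]
  have hn' := hM.const_mem (inv_mem hn)
  apply single_Z_not_mem hp hF hp2 hM hno
  have e : (Pi.mulSingle 0 (C.W (0, 1)) : T3 → G3) =
      (Pi.mulSingle 0 (sc k : G3))⁻¹ * ((fun _ => n⁻¹) * Pi.mulSingle 0 (C.W s) * (fun _ => n⁻¹)⁻¹) := by
    funext i
    by_cases hi : i = 0
    · subst hi
      rw [← hb]
      simp only [Pi.mul_apply, Pi.inv_apply, Pi.mulSingle_eq_same, hk, inv_mul_cancel_left]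
    · simp [hi]
  show (Pi.mulSingle 0 (C.W (0, 1)) : T3 → G3) ∈ K
  rw [e]
  exact mul_mem (inv_mem (hsingle k hk3)) (mul_mem (mul_mem hn' hδs) (inv_mem hn'))

theorem inR_triple (hp : p.Prime) (hF : Fintype.card F = p) (hp2 : p ≠ 2) (hM : ContainsN9 C M)
    (hno : ¬ ∀ g : G9, (g : M9).det = 1 → g ∈ M) {f : T3 → G3} (hf : bd f ∈ M) (hR : ∀ i, C.InR (f i)) :
    bd f ∈ C.NZ9 := by
  choose c v hfv using hR
  obtain ⟨d, hd, himp⟩ := exists_sub hM hf hfv
  refine himp ?_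
  have e : (fun i => sc (d i) * C.W (if i = 0 then v 0 + v 1 + v 2 else 0)) = fun i : T3 => (sc (d i) : G3) := by
    funext i
    simp [inR_sum hp hF hp2 hM hno hf hfv, C.W_zero]
  rw [e] at hd ⊢
  exact (scalar_triple hp hF hp2 hM hno hd).2

/-- The linear map with given columns. -/
def linMap (a1 a2 z : V) : V := z.1 • a1 + z.2 • a2

/-- Second differences of unipotent pairs. -/
theorem pair_decide : ∀ a1 a2 : V, det2 a1 a2 = 1 → det2 (-(1, 0) - a1) (-(0, 1) - a2) = 1 →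
    (1, 0) + linMap a1 a2 (sMap (linMap a1 a2 (sMap^[3] (1, 0)))) +
      linMap (-(1, 0) - a1) (-(0, 1) - a2) (sMap (linMap (-(1, 0) - a1) (-(0, 1) - a2) (sMap^[3] (1, 0)))) = 0 →
    (0, 1) + linMap a1 a2 (sMap (linMap a1 a2 (sMap^[3] (0, 1)))) +
      linMap (-(1, 0) - a1) (-(0, 1) - a2) (sMap (linMap (-(1, 0) - a1) (-(0, 1) - a2) (sMap^[3] (0, 1)))) = 0 →
    a1 = (1, 0) ∧ a2 = (0, 1) := by
  decide +kernel

set_option maxHeartbeats 800000 in
theorem nz_triple (hp : p.Prime) (hF : Fintype.card F = p) (hp2 : p ≠ 2) (hM : ContainsN9 C M)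
    (hno : ¬ ∀ g : G9, (g : M9).det = 1 → g ∈ M) {f : T3 → G3} (hf : bd f ∈ M) : bd f ∈ C.NZ9 := by
  classical
  set K : Subgroup (T3 → G3) := M.comap bd
  have hblocks : ∀ k ∈ K, ∀ i, k i ∈ C.NZ := fun k hk i => blocks_mem hp hF hp2 hM hno hk i
  have sum_zero : ∀ k ∈ K, ∀ σ : T3 → V → V, (∀ i, C.Lift (k i) (σ i)) →
      ∀ z : V, σ 0 z + σ 1 z + σ 2 z = 0 := by
    intro k hk σ hσ z
    choose c hc using fun i => hσ i z
    have hmem : (k * (fun _ => C.W z) * k⁻¹ : T3 → G3) ∈ K :=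
      mul_mem (mul_mem hk (hM.const_mem (C.W_mem_NZ z))) (inv_mem hk)
    have he : ∀ i, (k * (fun _ => C.W z) * k⁻¹ : T3 → G3) i = sc (c i) * C.W (σ i z) := fun i => hc i
    exact inR_sum hp hF hp2 hM hno hmem he
  have hf0 := hblocks f hf 0
  set g : T3 → G3 := (fun _ => f 0)⁻¹ * f with hgdef
  have hgK : g ∈ K := mul_mem (inv_mem (hM.const_mem hf0)) hf
  obtain ⟨ρ, hρ⟩ := Classical.axiomOfChoice (hblocks g hgK)
  have hg0 : g 0 = 1 := by simp [hgdef]
  have hρ0 : ∀ z, ρ 0 z = z := fun z => by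
    have h1 : C.Lift (g 0) id := fun v => ⟨1, by simp [hg0, sc_one]⟩
    exact congrFun (C.lift_unique (hρ 0) h1) z
  have hid : ∀ i, C.InR (g i) := by
    have lin : ∀ i z, ρ i z = z.1 • ρ i (1, 0) + z.2 • ρ i (0, 1) := fun i z => C.lift_linear (hρ i) z
    have hsum := sum_zero g hgK (fun i => ρ i) hρ
    have hS := hM.const_mem C.S_mem_NZ
    have hS3 := hM.const_mem (pow_mem C.S_mem_NZ 3)
    set g2 : T3 → G3 := g * ((fun _ => C.S) * g * (fun _ => C.S ^ 3)) with hg2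
    have hg2K : g2 ∈ K := by
      rw [hg2]
      exact mul_mem hgK (mul_mem (mul_mem hS hgK) hS3)
    have hl2 : ∀ i, C.Lift (g2 i) (ρ i ∘ (sMap ∘ (ρ i ∘ sMap^[3]))) := by
      intro i
      have e : g2 i = g i * (C.S * (g i * C.S ^ 3)) := by
        simp only [hg2, Pi.mul_apply, mul_assoc]
      rw [e]
      exact C.lift_mul (hρ i) (C.lift_mul C.lift_S (C.lift_mul (hρ i) (C.lift_pow C.lift_S 3)))
    have hsum2 := sum_zero g2 hg2K (fun i => ρ i ∘ (sMap ∘ (ρ i ∘ sMap^[3]))) hl2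
    have hsZ : ∀ z : V, sMap (sMap^[3] z) = z := by decide
    have e1 : ρ 2 (1, 0) = -(1, 0) - ρ 1 (1, 0) := by
      have := hsum (1, 0)
      rw [hρ0] at this
      rw [eq_sub_iff_add_eq, ← eq_sub_iff_add_eq']
      linear_combination this
    have e2 : ρ 2 (0, 1) = -(0, 1) - ρ 1 (0, 1) := by
      have := hsum (0, 1)
      rw [hρ0] at this
      rw [eq_sub_iff_add_eq, ← eq_sub_iff_add_eq']
      linear_combination this
    have hz : ∀ z : V, z + linMap (ρ 1 (1, 0)) (ρ 1 (0, 1)) (sMap (linMap (ρ 1 (1, 0)) (ρ 1 (0, 1)) (sMap^[3] z))) +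
        linMap (ρ 2 (1, 0)) (ρ 2 (0, 1)) (sMap (linMap (ρ 2 (1, 0)) (ρ 2 (0, 1)) (sMap^[3] z))) = 0 := by
      intro z
      have := hsum2 z
      simp only [Function.comp_apply] at this
      rw [hρ0, hρ0, hsZ] at this
      simp only [linMap, ← lin]
      exact this
    have hd2 := C.lift_det_one (hρ 2)
    rw [e1, e2] at hd2 hz
    obtain ⟨a1, a2⟩ := pair_decide _ _ (C.lift_det_one (hρ 1)) hd2 (hz (1, 0)) (hz (0, 1))
    have b1 : ρ 2 (1, 0) = (1, 0) := by rw [e1, a1]; decide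
    have b2 : ρ 2 (0, 1) = (0, 1) := by rw [e2, a2]; decide
    intro i
    refine C.inR_of_fix ?_
    have : ∀ z, ρ i z = z := by
      intro z
      obtain rfl | rfl | rfl := T3_cases i
      · exact hρ0 z
      · rw [lin, a1, a2]; simp
      · rw [lin, b1, b2]; simp
    convert hρ i using 1
    funext z
    exact (this z).symm
  have h9 := inR_triple hp hF hp2 hM hno (f := g) hgK hid
  have e : bd f = tr (f 0) * bd g := by
    rw [tr_eq_bd, ← map_mul]
    congr 1
    rw [hgdef, mul_inv_cancel_left]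
  rw [e]
  exact mul_mem (C.tr_mem_NZ9 hf0) h9

end Cfsg.Agent.H1.HeisThree
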