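import Cfsg.Agent.Linear.Dickson.Main

/-!
Subgroups of `GL₂` over a prime field: an element of order `p` modulo scalars, or a small image.
-/

set_option autoImplicit false

namespace Cfsg.Agent.H1.HeisThree

open Matrix Cfsg.Agent.Linear Cfsg.Agent.Linear.Dickson

/-- An abelian subgroup is inverted by every element outside it, and these are involutions. -/
def DihLike (G : Type*) [Group G] : Prop :=
  ∃ A : Subgroup G, (∀ a ∈ A, ∀ b ∈ A, a * b = b * a) ∧
    ∀ x : G, x ∉ A → x * x = 1 ∧ ∀ a ∈ A, x * a * x⁻¹ = a⁻¹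

/-- The subgroups of `PSL₂` of order prime to the characteristic. -/
def Small (G : Type*) [Group G] : Prop :=
  DihLike G ∨ Nonempty (G ≃* alternatingGroup (Fin 4)) ∨ Nonempty (G ≃* Equiv.Perm (Fin 4)) ∨
    Nonempty (G ≃* alternatingGroup (Fin 5))

section Shape

variable {F : Type*} [Field F] [Fintype F] (p : ℕ) [Fact p.Prime] [CharP F p]

local notation "P2" => Matrix.ProjectiveSpecialLinearGroup (Fin 2) F

theorem small_of_not_dvd (H : Subgroup P2) (hH : ¬ p ∣ Nat.card H) : Small H := by
  classical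
  rcases shape p H with h | h | h | h | h | ⟨K, iK, iK', j, g, w, h⟩
  · obtain ⟨g, hg⟩ := h
    obtain ⟨χ, hχ⟩ := exists_diagonal_hom (F := F)
    let f : H →* borel F :=
      { toFun := fun x => ⟨g * x * g⁻¹, hg x x.2⟩
        map_one' := by ext; simp
        map_mul' := fun x y => by apply Subtype.ext; simp [mul_assoc] }
    refine Or.inl ⟨⊤, fun a _ b _ => ?_, fun x hx => absurd (Subgroup.mem_top x) hx⟩
    have hinj : Function.Injective (χ.comp f) := by
      rw [← MonoidHom.ker_eq_bot_iff, eq_bot_iff]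
      intro x hx
      have hx' : ((f x : borel F) : P2) ∈ cen (stdUni : P2) := (hχ (f x)).1 hx
      obtain ⟨k, hk⟩ := isPGroup_cen_stdUni p ⟨_, hx'⟩
      have h1 : (g * (x : P2) * g⁻¹) ^ p ^ k = 1 := congrArg Subtype.val hk
      rw [conj_pow, conj_eq_one_iff] at h1
      have h2 : x ^ p ^ k = 1 := Subtype.ext h1
      have h3 : (Nat.card H).Coprime (p ^ k) :=
        Nat.Coprime.pow_right _ (((Fact.out : p.Prime).coprime_iff_not_dvd.2 hH).symm)
      have h4 := orderOf_eq_one_iff.1
        (Nat.eq_one_of_dvd_coprimes h3 (orderOf_dvd_natCard x) (orderOf_dvd_of_pow_eq_one h2))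
      exact Subgroup.mem_bot.2 h4
    exact hinj (by rw [map_mul, map_mul, mul_comm])
  · obtain ⟨a, ha, hle⟩ := h
    have := isCyclic_cen ha
    refine Or.inl ⟨(cen a).subgroupOf H, fun b hb c hc => ?_, fun x hx => ?_⟩
    · obtain ⟨z, hz⟩ := IsCyclic.exists_generator (α := cen a)
      obtain ⟨i, hi⟩ := hz ⟨(b : P2), hb⟩
      obtain ⟨j, hj⟩ := hz ⟨(c : P2), hc⟩
      have hi' : (z : P2) ^ i = b := congrArg Subtype.val hi
      have hj' : (z : P2) ^ j = c := congrArg Subtype.val hj
      apply Subtype.ext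
      rw [Subgroup.coe_mul, Subgroup.coe_mul, ← hi', ← hj', ← _root_.zpow_add, ← _root_.zpow_add, add_comm]
    · obtain ⟨h2, hinv⟩ := (normalizer_cases ha
        (fun y => Subgroup.mem_normalizer_iff.mp (hle x.2) y)).resolve_left hx
      exact ⟨Subtype.ext h2, fun b hb => Subtype.ext (hinv _ hb)⟩
  · exact Or.inr (Or.inl h)
  · exact Or.inr (Or.inr (Or.inl h))
  · exact Or.inr (Or.inr (Or.inr h))
  · exfalso
    obtain ⟨e⟩ := nonempty_pslSub_equiv j w
    have hpK : p ∣ Nat.card (Matrix.ProjectiveSpecialLinearGroup (Fin 2) K) := by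
      have : CharP K p := (RingHom.charP_iff j j.injective p).2 inferInstance
      obtain ⟨n, hp, hn⟩ := FiniteField.card K p
      have h1 := card_PSL_two_mul (F := K)
      have h2 : p ∣ Fintype.card K * (Fintype.card K ^ 2 - 1) :=
        Dvd.dvd.mul_right (hn ▸ dvd_pow_self p n.ne_zero) _
      rw [← h1] at h2
      rcases hp.dvd_mul.1 h2 with h3 | h3
      · exfalso
        have h4 := h3.trans (Nat.gcd_dvd_right 2 (Fintype.card K - 1))
        have h5 : p ∣ Fintype.card K := hn ▸ dvd_pow_self p n.ne_zero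
        have h6 := Nat.dvd_sub h5 h4
        rw [Nat.sub_sub_self Fintype.card_pos] at h6
        exact hp.not_dvd_one h6
      · exact h3
    rw [← Nat.card_congr e.toEquiv] at hpK
    rcases h with h | ⟨lam, ν, -, -, h⟩
    · apply hH
      rw [h, Subgroup.card_map_of_injective (MulAut.conj g).injective]
      exact hpK
    · apply hH
      rw [h, Subgroup.card_map_of_injective (MulAut.conj g).injective]
      exact hpK.trans (Subgroup.card_dvd_of_le (pslSub_le_pglSub j w lam))

end Shape

set_option synthInstance.maxSize 2000 in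
set_option synthInstance.maxHeartbeats 200000 in
theorem no_flip_inverted {G : Type*} [Group G] (hG : Small G) {w b d : G} (hw : w ≠ 1)
    (hw3 : w * w * w = 1) (hb : b * b = 1) (hbw : b * w * b⁻¹ = w⁻¹) (hdb : d * b = b * d)
    (hd : d * d ≠ 1) (hbd : b ∈ Subgroup.zpowers d) : False := by
  have hww : w * w ≠ 1 := fun h => hw (by simpa [h] using hw3)
  have key : ∀ {T : Type} [Group T],
      (∀ b d : T, b * b = 1 → b ≠ 1 → d * b = b * d → d * d * (d * d) = 1) →
      (∀ d w : T, d * d * (d * d) = 1 → w * w * w = 1 → d * d * w * (d * d) = w * w →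
        w = 1 ∨ d * d = 1) → G ≃* T → False := by
    intro T _ hC hI e
    have hb1 : b ≠ 1 := fun h => hww (by
      subst h
      simp only [one_mul, inv_one, mul_one] at hbw
      nth_rw 1 [hbw]
      exact inv_mul_cancel w)
    have hd4 : d * d * (d * d) = 1 := e.injective (by
      rw [map_mul, map_mul, map_one]
      exact hC (e b) (e d) (by rw [← map_mul, hb, map_one]) (fun h => hb1 (e.injective (by rw [h, map_one])))
        (by rw [← map_mul, ← map_mul, hdb]))
    obtain ⟨k, hk⟩ := hbd
    have hk' : d ^ k = b := hk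
    have hd4' : d ^ (4 : ℤ) = 1 := by
      rw [show (4 : ℤ) = ((4 : ℕ) : ℤ) from rfl, zpow_natCast, pow_succ, pow_succ, pow_two, mul_assoc]
      exact hd4
    rw [← Int.mul_ediv_add_emod k 4, _root_.zpow_add, _root_.zpow_mul, hd4', _root_.one_zpow, one_mul] at hk'
    have := Int.emod_nonneg k (by norm_num : (4 : ℤ) ≠ 0)
    have := Int.emod_lt_of_pos k (by norm_num : (0 : ℤ) < 4)
    obtain ⟨i, hi⟩ : ∃ i : ℕ, k % 4 = i := ⟨(k % 4).toNat, by omega⟩
    rw [hi, zpow_natCast] at hk'
    have hi4 : i < 4 := by omega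
    interval_cases i <;> simp only [pow_succ, pow_zero, one_mul] at hk'
    · exact hb1 hk'.symm
    · exact hd (hk' ▸ hb)
    · subst hk'
      rcases hI (e d) (e w) (by simp only [← map_mul, hd4, map_one]) (by simp only [← map_mul, hw3, map_one])
        (by
          rw [show e w * e w = e (d * d * w * (d * d)⁻¹) by
            rw [hbw, ← map_mul, inv_eq_of_mul_eq_one_left hw3]]
          rw [inv_eq_of_mul_eq_one_right hb]
          simp only [map_mul]) with h | h
      · exact hw (e.injective (by rw [h, map_one]))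
      · exact hd (e.injective (by rw [map_mul, h, map_one]))
    · subst hk'
      apply hd
      calc d * d = d * d * (d * d * (d * d)) := by rw [hd4, mul_one]
        _ = d * d * d * (d * d * d) := by group
        _ = 1 := hb
  rcases hG with ⟨A, hA, hout⟩ | ⟨⟨e⟩⟩ | ⟨⟨e⟩⟩ | ⟨⟨e⟩⟩
  · have hwA : w ∈ A := by_contra fun h => hww (hout w h).1
    have hbA : b ∉ A := fun h => hww (by
      have := hA b h w hwA
      rw [this, mul_inv_cancel_right] at hbw
      nth_rw 1 [hbw]
      exact inv_mul_cancel w)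
    have hdA : d ∈ A := by_contra fun h => hd (hout d h).1
    exact hbA ((Subgroup.zpowers_le.2 hdA) hbd)
  · exact key (T := alternatingGroup (Fin 4)) (by decide +kernel) (by decide +kernel) e
  · exact key (T := Equiv.Perm (Fin 4)) (by decide +kernel) (by decide +kernel) e
  · exact key (T := alternatingGroup (Fin 5)) (by decide +kernel) (by decide +kernel) e

set_option synthInstance.maxSize 4000 in
set_option synthInstance.maxHeartbeats 400000 in
/-- A four group moved by an element of order three: all elements are short words, or the element is inverted. -/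
theorem four_three {G : Type*} [Group G] (hG : Small G) {s y : G} (hs : s * s = 1) (hs1 : s ≠ 1)
    (hy : y * y * y = 1) (hy1 : y ≠ 1) (hne : y * s * y⁻¹ ≠ s)
    (hcomm : s * (y * s * y⁻¹) = y * s * y⁻¹ * s) :
    (∀ x : G, x ∈ Subgroup.closure ({s, y} : Set G) ∧
      (x * x = 1 → x = 1 ∨ ∃ h ∈ Subgroup.closure ({s, y} : Set G), x = h * s * h⁻¹) ∧
      x * s * x⁻¹ * s * (x * s * x⁻¹ * s) = 1 ∧ (x * s * x⁻¹ = s → x * x = 1)) ∨
    ∃ t : G, t * y * t⁻¹ = y⁻¹ := by
  have hyy : y * y ≠ 1 := fun h => hy1 (by simpa [h] using hy)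
  rcases hG with ⟨A, hA, hout⟩ | ⟨⟨e⟩⟩ | ⟨⟨e⟩⟩ | ⟨⟨e⟩⟩
  · exfalso
    have hyA : y ∈ A := by_contra fun h => hyy (hout y h).1
    have hsA : s ∉ A := fun h => hne (by rw [hA y hyA s h, mul_inv_cancel_right])
    have hsy : s * y * s = y⁻¹ := by
      have := (hout s hsA).2 y hyA
      rwa [inv_eq_of_mul_eq_one_right hs] at this
    have h2 : y⁻¹ = y * y := inv_eq_of_mul_eq_one_right (by rw [← mul_assoc, hy])
    have e2 : s * y⁻¹ = y * s := by
      rw [← hsy, show s * (s * y * s) = (s * s) * y * s by group, hs, one_mul]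
    have e3 : y * s * y⁻¹ = y * y * s := by
      rw [mul_assoc, e2, ← mul_assoc]
    rw [e3, ← h2] at hcomm
    have e4 : s * (y⁻¹ * s) = y := by rw [← mul_assoc, e2, mul_assoc, hs, mul_one]
    rw [e4, mul_assoc, hs, mul_one] at hcomm
    exact hyy (by nth_rw 1 [hcomm]; exact inv_mul_cancel y)
  · left
    intro x
    have hdec : ∀ s y x : alternatingGroup (Fin 4), s * s = 1 → s ≠ 1 → y * y * y = 1 → y ≠ 1 →
        ∃ i : Fin 2, ∃ j : Fin 2, ∃ k : Fin 3,
          x = s ^ (i : ℕ) * (y * s * y⁻¹) ^ (j : ℕ) * y ^ (k : ℕ) := by decide +kernel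
    obtain ⟨i, j, k, hx⟩ := hdec (e s) (e y) (e x) (by simp only [← map_mul, hs, map_one])
      (fun h => hs1 (e.injective (by rw [h, map_one]))) (by simp only [← map_mul, hy, map_one])
      (fun h => hy1 (e.injective (by rw [h, map_one])))
    have : x = s ^ (i : ℕ) * (y * s * y⁻¹) ^ (j : ℕ) * y ^ (k : ℕ) :=
      e.injective (by rw [hx]; simp only [map_mul, map_pow, map_inv])
    have hsm : s ∈ Subgroup.closure ({s, y} : Set G) := Subgroup.subset_closure (by simp)
    have hym : y ∈ Subgroup.closure ({s, y} : Set G) := Subgroup.subset_closure (by simp)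
    have hdec2 : ∀ s y x : alternatingGroup (Fin 4), s * s = 1 → s ≠ 1 → y * y * y = 1 → y ≠ 1 →
        (x * x = 1 → x = 1 ∨ x = s ∨ x = y * s * y⁻¹ ∨ x = y * y * s * (y * y)⁻¹) ∧
        x * s * x⁻¹ * s * (x * s * x⁻¹ * s) = 1 ∧ (x * s * x⁻¹ = s → x * x = 1) := by decide +kernel
    obtain ⟨hinv, hsq, hcen⟩ := hdec2 (e s) (e y) (e x) (by simp only [← map_mul, hs, map_one])
      (fun h => hs1 (e.injective (by rw [h, map_one]))) (by simp only [← map_mul, hy, map_one])
      (fun h => hy1 (e.injective (by rw [h, map_one])))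
    refine ⟨?_, fun hxx => ?_, e.injective (by simpa only [map_mul, map_inv, map_one] using hsq),
      fun h => e.injective (by rw [map_mul, map_one]; exact hcen (by rw [← map_mul, ← map_inv, ← map_mul, h]))⟩
    · rw [this]
      exact mul_mem (mul_mem (pow_mem hsm _) (pow_mem (mul_mem (mul_mem hym hsm) (inv_mem hym)) _))
        (pow_mem hym _)
    · rcases hinv (by rw [← map_mul, hxx, map_one]) with h | h | h | h
      · exact Or.inl (e.injective (by rw [h, map_one]))
      · exact Or.inr ⟨1, one_mem _, e.injective (by simp [h])⟩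
      · exact Or.inr ⟨y, hym, e.injective (by simp only [h, map_mul, map_inv])⟩
      · exact Or.inr ⟨y * y, mul_mem hym hym, e.injective (by simp only [h, map_mul, map_inv])⟩
  all_goals
    right
  · have hdec : ∀ y : Equiv.Perm (Fin 4), y * y * y = 1 → ∃ t : Equiv.Perm (Fin 4), t * y * t⁻¹ = y⁻¹ := by
      decide +kernel
    obtain ⟨t, ht⟩ := hdec (e y) (by simp only [← map_mul, hy, map_one])
    exact ⟨e.symm t, e.injective (by simp only [map_mul, map_inv, e.apply_symm_apply, ht])⟩
  · have hdec : ∀ y : alternatingGroup (Fin 5), y * y * y = 1 → ∃ t : alternatingGroup (Fin 5), t * y * t⁻¹ = y⁻¹ := by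
      decide +kernel
    obtain ⟨t, ht⟩ := hdec (e y) (by simp only [← map_mul, hy, map_one])
    exact ⟨e.symm t, e.injective (by simp only [map_mul, map_inv, e.apply_symm_apply, ht])⟩

end Cfsg.Agent.H1.HeisThree
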